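import Mathlib
import Cfsg.Agent.SignalizersComponents.RelSylow
import Cfsg.Agent.SylowL5.Setup
import Cfsg.Agent.FastGrp
import Cfsg.Agent.Prune
set_option linter.all false

section
prune_inst 0x7ffcfefbaffdbddfffff7e7ffeffdffdf9fcfffffffff9fbfff1fbffefdf6befebe5fbafefefdafe9ed7e29430f87b53fdffeeffeb6bdc7ffffd5ff45fffff9fffffbf8d51f6b83e1ffe6ffffbf3ffffffffffffffffffffffffffffffffffffffffffffffff

-- part: SylowL5/Weak
section
set_option linter.all false
open scoped Cfsg.Agent.FastGrp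

/-!
# Weakly closed subgroups, relative to a subgroup `C`
-/

set_option autoImplicit false

namespace Cfsg.Agent.SylowL5.Weak

open Subgroup
open Cfsg.Agent.SignalizersComponents.RelSylow

variable {G : Type*} [Group G]

/-- the conjugate `g A g⁻¹` -/
abbrev cj (g : G) (A : Subgroup G) : Subgroup G := A.map (MulAut.conj g).toMonoidHom

theorem mem_cj {g x : G} {A : Subgroup G} : x ∈ cj g A ↔ g⁻¹ * x * g ∈ A := mem_map_conj

theorem conj_mem_cj {g x : G} {A : Subgroup G} (hx : x ∈ A) : g * x * g⁻¹ ∈ cj g A := ⟨x, hx, rfl⟩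

theorem cj_le_iff {g : G} {A B : Subgroup G} : cj g A ≤ B ↔ ∀ x ∈ A, g * x * g⁻¹ ∈ B := by
  constructor
  · intro h x hx; exact h ⟨x, hx, rfl⟩
  · rintro h _ ⟨x, hx, rfl⟩; exact h x hx

theorem cj_mul (g h : G) (A : Subgroup G) : cj (g * h) A = cj g (cj h A) := by
  ext x
  rw [mem_cj, mem_cj, mem_cj]
  have : (g * h)⁻¹ * x * (g * h) = h⁻¹ * (g⁻¹ * x * g) * h := by group
  rw [this]

theorem cj_one (A : Subgroup G) : cj (1 : G) A = A := by
  ext x; rw [mem_cj]; simp

theorem cj_inv_cj (g : G) (A : Subgroup G) : cj g⁻¹ (cj g A) = A := by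
  rw [← cj_mul, inv_mul_cancel, cj_one]

theorem cj_cj_inv (g : G) (A : Subgroup G) : cj g (cj g⁻¹ A) = A := by
  rw [← cj_mul, mul_inv_cancel, cj_one]

theorem cj_mono {g : G} {A B : Subgroup G} (h : A ≤ B) : cj g A ≤ cj g B := Subgroup.map_mono h

theorem cj_le_cj_iff {g : G} {A B : Subgroup G} : cj g A ≤ cj g B ↔ A ≤ B := by
  constructor
  · intro h
    have := cj_mono (g := g⁻¹) h
    rwa [cj_inv_cj, cj_inv_cj] at this
  · exact cj_mono

theorem cj_inj {g : G} {A B : Subgroup G} (h : cj g A = cj g B) : A = B := by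
  have := congrArg (cj g⁻¹) h
  rwa [cj_inv_cj, cj_inv_cj] at this

theorem card_cj (g : G) (A : Subgroup G) : Nat.card (cj g A) = Nat.card A := card_map_conj A g

theorem cj_eq_of_le [Finite G] {g : G} {A B : Subgroup G} (h : cj g A ≤ B)
    (hc : Nat.card B ≤ Nat.card A) : cj g A = B :=
  Subgroup.eq_of_le_of_card_ge h (by rw [card_cj]; exact hc)

theorem cj_eq_iff {g : G} {A : Subgroup G} : cj g A = A ↔ g ∈ normalizer (A : Set G) := by
  rw [Subgroup.mem_normalizer_iff]
  constructor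
  · intro h x
    constructor
    · intro hx
      rw [← h]; exact ⟨x, hx, rfl⟩
    · intro hx
      rw [← h, mem_cj] at hx
      have : g⁻¹ * (g * x * g⁻¹) * g = x := by group
      rwa [this] at hx
  · intro h
    ext x
    rw [mem_cj, h]
    have : g * (g⁻¹ * x * g) * g⁻¹ = x := by group
    rw [this]

theorem cj_eq_of_mem {g : G} {A : Subgroup G} (h : g ∈ A) : cj g A = A :=
  cj_eq_iff.2 (Subgroup.le_normalizer h)

theorem isPGroup_cj {g : G} {A : Subgroup G} {p : ℕ} (h : IsPGroup p A) : IsPGroup p (cj g A) :=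
  h.map _

/-- `A` is weakly closed in `S` with respect to `C` -/
def WeakCl (C A S : Subgroup G) : Prop := A ≤ S ∧ ∀ g ∈ C, cj g A ≤ S → cj g A = A

variable [Finite G] {C A S : Subgroup G}

theorem eq_of_le (hS : IsMaxP 2 C S) (hA : WeakCl C A S) {R : Subgroup G} (hR : IsPGroup 2 R)
    (hRC : R ≤ C) {x y : G} (hx : x ∈ C) (hy : y ∈ C) (h1 : cj x A ≤ R) (h2 : cj y A ≤ R) :
    cj x A = cj y A := by
  have f2 : Fact (Nat.Prime 2) := ⟨Nat.prime_two⟩
  obtain ⟨c, hc, hcR⟩ := hS.exists_conj_le hR hRC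
  have h3 : cj (c * x) A ≤ S := by
    rw [cj_mul]; exact (cj_mono h1).trans hcR
  have h4 : cj (c * y) A ≤ S := by
    rw [cj_mul]; exact (cj_mono h2).trans hcR
  have h5 := hA.2 _ (C.mul_mem hc hx) h3
  have h6 := hA.2 _ (C.mul_mem hc hy) h4
  rw [cj_mul] at h5 h6
  exact cj_inj (h5.trans h6.symm)

theorem exists_conj_in (hS : IsMaxP 2 C S) (hA : WeakCl C A S) {M : Subgroup G}
    (hM : M ≤ C) {x y : G} (hx : x ∈ C) (hy : y ∈ C) (h1 : cj x A ≤ M) (h2 : cj y A ≤ M) :
    ∃ m ∈ M, cj m (cj x A) = cj y A := by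
  have f2 : Fact (Nat.Prime 2) := ⟨Nat.prime_two⟩
  have hA2 : IsPGroup 2 A := hS.1.to_le hA.1
  obtain ⟨R, hR, hyR⟩ := exists_isMaxP (isPGroup_cj (g := y) hA2) h2
  obtain ⟨m, hm, hmR⟩ := hR.exists_conj_le (isPGroup_cj (g := x) hA2) h1
  refine ⟨m, hm, ?_⟩
  have h3 : cj (m * x) A ≤ R := by rw [cj_mul]; exact hmR
  rw [← cj_mul]
  exact eq_of_le hS hA hR.1 (hR.2.1.trans hM) (C.mul_mem (hM hm) hx) hy h3 hyR

/-- a weakly closed subgroup is normalised by every 2-subgroup of `C` containing it. -/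
theorem normalizes (hS : IsMaxP 2 C S) (hA : WeakCl C A S) {R : Subgroup G} (hR : IsPGroup 2 R)
    (hRC : R ≤ C) {x : G} (hx : x ∈ C) (h1 : cj x A ≤ R) {r : G} (hr : r ∈ R) :
    cj r (cj x A) = cj x A := by
  rw [← cj_mul]
  apply eq_of_le hS hA hR hRC (C.mul_mem (hRC hr) hx) hx _ h1
  rw [cj_mul]
  calc cj r (cj x A) ≤ cj r R := cj_mono h1
    _ = R := cj_eq_of_mem hr

theorem normalizes' (hS : IsMaxP 2 C S) (hA : WeakCl C A S) {R : Subgroup G} (hR : IsPGroup 2 R)
    (hRC : R ≤ C) (h1 : A ≤ R) {r : G} (hr : r ∈ R) :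
    cj r A = A := by
  have h2 := normalizes hS hA hR hRC C.one_mem (by rwa [cj_one]) hr
  rwa [cj_one] at h2

/-- fusion of elements of an abelian weakly closed subgroup -/
theorem exists_normalizer (hS : IsMaxP 2 C S) (hA : WeakCl C A S)
    (hcomm : ∀ x ∈ A, ∀ y ∈ A, x * y = y * x) {a g : G} (hAC : A ≤ C) (ha : a ∈ A) (hg : g ∈ C)
    (hga : g * a * g⁻¹ ∈ A) : ∃ n ∈ C, cj n A = A ∧ n * a * n⁻¹ = g * a * g⁻¹ := by
  set b := g * a * g⁻¹ with hb
  let M : Subgroup G := C ⊓ centralizer {b}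
  have h1 : cj g A ≤ M := by
    rw [cj_le_iff]
    intro x hx
    refine ⟨C.mul_mem (C.mul_mem hg (hAC hx)) (C.inv_mem hg), ?_⟩
    show _ ∈ centralizer {b}
    rw [mem_centralizer_singleton_iff, hb]
    calc g * x * g⁻¹ * (g * a * g⁻¹) = g * (x * a) * g⁻¹ := by group
      _ = g * (a * x) * g⁻¹ := by rw [hcomm x hx a ha]
      _ = g * a * g⁻¹ * (g * x * g⁻¹) := by group
  have h2 : cj 1 A ≤ M := by
    rw [cj_one]
    intro x hx
    refine ⟨hAC hx, ?_⟩
    show _ ∈ centralizer {b}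
    rw [mem_centralizer_singleton_iff]
    exact hcomm x hx b hga
  obtain ⟨m, hm, hm2⟩ := exists_conj_in hS hA inf_le_left hg C.one_mem h1 h2
  rw [cj_one, ← cj_mul] at hm2
  refine ⟨m * g, C.mul_mem hm.1 hg, hm2, ?_⟩
  have h3 : m ∈ centralizer {b} := hm.2
  rw [mem_centralizer_singleton_iff] at h3
  calc m * g * a * (m * g)⁻¹ = m * b * m⁻¹ := by rw [hb]; group
    _ = b := by rw [h3, mul_inv_cancel_right]

/-- Burnside: elements central modulo `D` in the Sylow 2-subgroup `R` of `M` and conjugate in `M`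
are conjugate modulo `D` in the normalizer of `R`. -/
theorem exists_burnside {M D R : Subgroup G} (hR : IsMaxP 2 M R)
    (hD : ∀ m ∈ M, ∀ d ∈ D, m * d * m⁻¹ ∈ D) {t t' c : G}
    (ht : ∀ r ∈ R, r * t * r⁻¹ * t⁻¹ ∈ D) (ht' : ∀ r ∈ R, r * t' * r⁻¹ * t'⁻¹ ∈ D)
    (hc : c ∈ M) (hct : c * t * c⁻¹ = t') :
    ∃ n ∈ M, cj n R = R ∧ n * t * n⁻¹ * t'⁻¹ ∈ D := by
  have f2 : Fact (Nat.Prime 2) := ⟨Nat.prime_two⟩
  let C' : Subgroup G :=
    { carrier := {m | m ∈ M ∧ m * t' * m⁻¹ * t'⁻¹ ∈ D}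
      one_mem' := ⟨M.one_mem, by simp⟩
      mul_mem' := by
        rintro a b ⟨ha, ha'⟩ ⟨hb, hb'⟩
        refine ⟨M.mul_mem ha hb, ?_⟩
        have h1 : a * b * t' * (a * b)⁻¹ * t'⁻¹
            = a * (b * t' * b⁻¹ * t'⁻¹) * a⁻¹ * (a * t' * a⁻¹ * t'⁻¹) := by group
        rw [h1]
        exact D.mul_mem (hD a ha _ hb') ha'
      inv_mem' := by
        rintro a ⟨ha, ha'⟩
        refine ⟨M.inv_mem ha, ?_⟩
        have h1 : a⁻¹ * t' * a⁻¹⁻¹ * t'⁻¹ = (a⁻¹ * (a * t' * a⁻¹ * t'⁻¹) * a⁻¹⁻¹)⁻¹ := by group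
        rw [h1]
        exact D.inv_mem (hD _ (M.inv_mem ha) _ ha') }
  have hRC : R ≤ C' := fun r hr => ⟨hR.2.1 hr, ht' r hr⟩
  have hC'M : C' ≤ M := fun x hx => hx.1
  have hR' : IsMaxP 2 C' R := ⟨hR.1, hRC, fun R' h1 h2 h3 => hR.2.2 R' h1 (h2.trans hC'M) h3⟩
  have hcR : cj c R ≤ C' := by
    rw [cj_le_iff]
    intro r hr
    refine ⟨M.mul_mem (M.mul_mem hc (hR.2.1 hr)) (M.inv_mem hc), ?_⟩
    have h1 : c * r * c⁻¹ * t' * (c * r * c⁻¹)⁻¹ * t'⁻¹ = c * (r * t * r⁻¹ * t⁻¹) * c⁻¹ := by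
      rw [← hct]; group
    rw [h1]
    exact hD c hc _ (ht r hr)
  obtain ⟨d, hd, hdR⟩ := hR'.exists_conj_le (isPGroup_cj hR.1) hcR
  refine ⟨d * c, M.mul_mem hd.1 hc, ?_, ?_⟩
  · rw [cj_mul]
    exact cj_eq_of_le hdR (by rw [card_cj])
  · have h1 : d * c * t * (d * c)⁻¹ = d * t' * d⁻¹ := by rw [← hct]; group
    rw [h1]
    exact hd.2

omit [Finite G] in
theorem isMaxP_sylow (S : Sylow 2 G) : IsMaxP 2 (⊤ : Subgroup G) (S : Subgroup G) :=
  ⟨S.isPGroup', le_top, fun _ h1 _ h3 => (S.is_maximal' h1 h3).le⟩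

omit [Finite G] in
theorem isMaxP_of_le (S : Sylow 2 G) {M : Subgroup G} (h : (S : Subgroup G) ≤ M) :
    IsMaxP 2 M (S : Subgroup G) :=
  ⟨S.isPGroup', h, fun _ h1 _ h3 => (S.is_maximal' h1 h3).le⟩

omit [Finite G] in
theorem IsMaxP.mono' {M M' R : Subgroup G} (h : IsMaxP 2 M R) (h1 : R ≤ M') (h2 : M' ≤ M) :
    IsMaxP 2 M' R :=
  ⟨h.1, h1, fun R' h3 h4 h5 => h.2.2 R' h3 (h4.trans h2) h5⟩

end Cfsg.Agent.SylowL5.Weak
end

-- part: SylowL5/Elem
section
prune_inst 0x200044002020000000000010000020601000000000200000e04001020841014180400100021016100102a8a04808802000100049401000002000820000000000040322e0907c1c0011000040c000000000000000000000000000000000000000000000000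
set_option linter.all false
open scoped Cfsg.Agent.FastGrp

-- part: SylowL5/Calc
section
/-!
# Calculating with codes of `UT_5(2)`

Inverse, conjugates and commutators of codes; relabelling by the graph automorphism and by the two
"extremal" automorphisms; cardinalities of coordinate subgroups.
-/

set_option autoImplicit false

namespace Cfsg.Agent.SylowL5.Calc

open Cfsg.Agent.SylowL5.Setup

/-- `force n f` is `f n`, but the kernel evaluates `n` to a literal before it substitutes it. -/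
@[reducible] def force {α : Sort _} (n : ℕ) (f : ℕ → α) : α :=
  Nat.rec (f 0) (fun k _ => f (Nat.succ k)) n

theorem force_eq {α : Sort _} (n : ℕ) (f : ℕ → α) : force n f = f n := by
  cases n <;> rfl

/-- inverse (seventh power) -/
def iv (a : ℕ) : ℕ := force a fun a => force (mu a a) fun b => force (mu b b) fun c =>
  force (mu c b) fun d => mu d a

/-- commutator `a b a⁻¹ b⁻¹` -/
def cm (a b : ℕ) : ℕ := force (mu a b) fun c => force (mu b a) fun d => force (iv d) fun e => mu c e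

/-- conjugate `a b a⁻¹` -/
def cc (a b : ℕ) : ℕ := force (mu a b) fun c => force (iv a) fun d => mu c d

/-- `a` has only bits in `K` -/
def sb (a K : ℕ) : Bool := Nat.beq (Nat.land a K) a

theorem sb_iff {a K : ℕ} : sb a K = true ↔ SubK a K := by
  rw [subK_iff]
  unfold sb
  rw [Nat.beq_eq]

/-- bit as a Boolean -/
def tb (a k : ℕ) : Bool := Nat.beq (bt a k) 1

theorem iv_eq (a : ℕ) : iv a = mu (mu (mu (mu a a) (mu a a)) (mu a a)) a := by
  simp only [iv, force_eq]

theorem cm_eq (a b : ℕ) : cm a b = mu (mu a b) (iv (mu b a)) := by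
  simp only [cm, force_eq]

theorem cc_eq (a b : ℕ) : cc a b = mu (mu a b) (iv a) := by
  simp only [cc, force_eq]

theorem iv_lt {a : ℕ} (ha : a < 1024) : iv a < 1024 := by
  rw [iv_eq]
  have h1 := mu_lt ha ha
  exact mu_lt (mu_lt (mu_lt h1 h1) h1) ha

theorem cm_lt {a b : ℕ} (ha : a < 1024) (hb : b < 1024) : cm a b < 1024 := by
  rw [cm_eq]
  exact mu_lt (mu_lt ha hb) (iv_lt (mu_lt hb ha))

theorem cc_lt {a b : ℕ} (ha : a < 1024) (hb : b < 1024) : cc a b < 1024 := by
  rw [cc_eq]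
  exact mu_lt (mu_lt ha hb) (iv_lt ha)

theorem mu_zero' : allb 1024 (fun a => Nat.beq (mu a 0) a && Nat.beq (mu 0 a) a) = true := by
  decide +kernel

theorem mu_iv' : allb 1024 (fun a => Nat.beq (mu a (iv a)) 0 && Nat.beq (mu (iv a) a) 0) = true := by
  decide +kernel

theorem mu_zero {a : ℕ} (ha : a < 1024) : mu a 0 = a := by
  have h := of_allb mu_zero' a ha
  simp only [Bool.and_eq_true, Nat.beq_eq] at h
  exact h.1

theorem mu_iv {a : ℕ} (ha : a < 1024) : mu a (iv a) = 0 := by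
  have h := of_allb mu_iv' a ha
  simp only [Bool.and_eq_true, Nat.beq_eq] at h
  exact h.1

/-- bounded existential quantifier -/
def anyb (N : ℕ) (P : ℕ → Bool) : Bool :=
  Nat.rec false (fun n ih => cond (P n) true ih) N

theorem of_anyb {N : ℕ} {P : ℕ → Bool} (h : anyb N P = true) : ∃ n < N, P n = true := by
  induction N with
  | zero => exact absurd h Bool.false_ne_true
  | succ N ih =>
    have h' : cond (P N) true (anyb N P) = true := h
    rcases hp : P N with _ | _
    · rw [hp] at h'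
      obtain ⟨n, hn, hn2⟩ := ih h'
      exact ⟨n, by omega, hn2⟩
    · exact ⟨N, by omega, hp⟩

/-- every non-zero code is a smaller code times a root element -/
theorem red' : allb 1024 (fun a => Nat.beq a 0 ||
    anyb 10 fun k => force (Nat.pow 2 k) fun g => force (mu a g) fun b =>
      Nat.blt b a && Nat.beq (mu b g) a) = true := by
  decide +kernel

theorem red {a : ℕ} (ha : a < 1024) (h0 : a ≠ 0) :
    ∃ k b, k < 10 ∧ b < a ∧ mu b (2 ^ k) = a := by
  have h := of_allb red' a ha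
  simp only [Bool.or_eq_true, Nat.beq_eq] at h
  rcases h with h | h
  · exact absurd h h0
  · obtain ⟨k, hk, h2⟩ := of_anyb h
    simp only [force_eq, Bool.and_eq_true, Nat.blt_eq, Nat.beq_eq] at h2
    exact ⟨k, mu a (Nat.pow 2 k), hk, h2.1, h2.2⟩

/-- induction over the codes: multiplying by root elements -/
theorem code_induction {P : ℕ → Prop} (h0 : P 0)
    (h1 : ∀ b k, b < 1024 → k < 10 → P b → mu b (2 ^ k) < 1024 → P (mu b (2 ^ k))) :
    ∀ a, a < 1024 → P a := by
  intro a
  induction a using Nat.strong_induction_on with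
  | _ a ih =>
    intro ha
    by_cases h : a = 0
    · rw [h]; exact h0
    · obtain ⟨k, b, hk, hb, hab⟩ := red ha h
      rw [← hab]
      exact h1 b k (by omega) hk (ih b hb (by omega)) (by rw [hab]; exact ha)

section

variable {G : Type*} [Group G] {S : Subgroup G} {u : ℕ → G}

theorem inv_eq (h : Emb S u) {a : ℕ} (ha : a < 1024) : u (iv a) = (u a)⁻¹ := by
  have h1 : u (mu a (iv a)) = u a * u (iv a) := h.mul ha (iv_lt ha)
  rw [mu_iv ha, h.zero] at h1
  exact (inv_eq_of_mul_eq_one_right h1.symm).symm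

theorem cm_u (h : Emb S u) {a b : ℕ} (ha : a < 1024) (hb : b < 1024) :
    u (cm a b) = u a * u b * (u a)⁻¹ * (u b)⁻¹ := by
  rw [cm_eq, h.mul (mu_lt ha hb) (iv_lt (mu_lt hb ha)), inv_eq h (mu_lt hb ha), h.mul ha hb,
    h.mul hb ha, mul_inv_rev]
  group

theorem cc_u (h : Emb S u) {a b : ℕ} (ha : a < 1024) (hb : b < 1024) :
    u (cc a b) = u a * u b * (u a)⁻¹ := by
  rw [cc_eq, h.mul (mu_lt ha hb) (iv_lt ha), inv_eq h ha, h.mul ha hb]

theorem eq_iff (h : Emb S u) {a b : ℕ} (ha : a < 1024) (hb : b < 1024) : u a = u b ↔ a = b :=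
  ⟨h.inj ha hb, fun h => by rw [h]⟩

theorem u_mem_CS (h : Emb S u) {K a : ℕ} (hK : closedK K = true) (ha : a < 1024) :
    u a ∈ CS u K ↔ sb a K = true := by
  rw [h.mem_CS hK, sb_iff]
  constructor
  · rintro ⟨b, hb, hb', hab⟩
    rwa [← h.inj hb ha hab]
  · intro h1
    exact ⟨a, ha, h1, rfl⟩

theorem assoc_of_emb (h : Emb S u) {a b c : ℕ} (ha : a < 1024) (hb : b < 1024) (hc : c < 1024) :
    mu (mu a b) c = mu a (mu b c) := by
  apply h.inj (mu_lt (mu_lt ha hb) hc) (mu_lt ha (mu_lt hb hc))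
  rw [h.mul (mu_lt ha hb) hc, h.mul ha (mu_lt hb hc), h.mul ha hb, h.mul hb hc, mul_assoc]

/-- A map of codes which is multiplicative on (arbitrary) × (root element) is multiplicative. -/
theorem hom_of_roots (h : Emb S u) (f : ℕ → ℕ) (hf : ∀ a, a < 1024 → f a < 1024)
    (h0 : f 0 = 0)
    (h1 : ∀ a k, a < 1024 → k < 10 → f (mu a (2 ^ k)) = mu (f a) (f (2 ^ k))) :
    ∀ a b, a < 1024 → b < 1024 → f (mu a b) = mu (f a) (f b) := by
  intro a b ha hb
  have h2k : ∀ k, k < 10 → 2 ^ k < 1024 := by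
    intro k hk
    calc 2 ^ k < 2 ^ 10 := Nat.pow_lt_pow_right (by norm_num) hk
      _ = 1024 := by norm_num
  refine code_induction (P := fun b => f (mu a b) = mu (f a) (f b)) ?_ ?_ b hb
  · rw [mu_zero ha, h0, mu_zero (hf a ha)]
  · intro b k hb hk ih _
    rw [← assoc_of_emb h ha hb (h2k k hk), h1 _ k (mu_lt ha hb) hk, ih, h1 b k hb hk,
      assoc_of_emb h (hf a ha) (hf b hb) (hf _ (h2k k hk))]

/-- relabelling by a checked automorphism -/
def isAut (f : ℕ → ℕ) : Bool :=
  allb 1024 (fun a => Nat.blt (f a) 1024 && Nat.beq (f (f a)) a &&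
    allb 10 (fun k => force (f a) fun fa => force (f (Nat.pow 2 k)) fun fk =>
      force (mu a (Nat.pow 2 k)) fun c => Nat.beq (f c) (mu fa fk))) && Nat.beq (f 0) 0

theorem emb_of_isAut (h : Emb S u) {f : ℕ → ℕ} (hf : isAut f = true) : Emb S (fun a => u (f a)) := by
  unfold isAut at hf
  simp only [Bool.and_eq_true, Nat.beq_eq] at hf
  obtain ⟨h1, h0⟩ := hf
  have h2 := of_allb h1
  simp only [Bool.and_eq_true, Nat.blt_eq, Nat.beq_eq] at h2
  have hlt : ∀ a, a < 1024 → f a < 1024 := fun a ha => (h2 a ha).1.1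
  apply h.comp f hlt
  · apply hom_of_roots h f hlt h0
    intro a k ha hk
    have h3 := of_allb (h2 a ha).2 k hk
    simp only [force_eq, Nat.beq_eq] at h3
    exact h3
  · intro a b ha hb hab
    rw [← (h2 a ha).1.2, ← (h2 b hb).1.2, hab]

end

/-- the graph automorphism: inverse of the anti-transpose -/
def du (a : ℕ) : ℕ := force (iv a) fun b =>
  Nat.xor (Nat.xor (Nat.xor (Nat.shiftLeft (bt b 0) 3) (Nat.shiftLeft (bt b 3) 0))
    (Nat.xor (Nat.shiftLeft (bt b 1) 2) (Nat.shiftLeft (bt b 2) 1)))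
    (Nat.xor (Nat.xor (Nat.xor (Nat.shiftLeft (bt b 4) 6) (Nat.shiftLeft (bt b 6) 4))
      (Nat.shiftLeft (bt b 5) 5))
      (Nat.xor (Nat.xor (Nat.shiftLeft (bt b 7) 8) (Nat.shiftLeft (bt b 8) 7))
        (Nat.shiftLeft (bt b 9) 9)))

/-- the automorphism `x12 ↦ x12 x35`, fixing `x23`, `x34`, `x45` -/
def ps (a : ℕ) : ℕ :=
  Nat.xor (Nat.xor a (Nat.shiftLeft (bt a 0) 6))
    (Nat.xor (Nat.shiftLeft (Nat.xor (Nat.mul (bt a 0) (bt a 1)) (bt a 4)) 8)
      (Nat.shiftLeft (Nat.mul (bt a 4) (Nat.xor 1 (bt a 0))) 9))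

/-- the automorphism `x45 ↦ x45 x13`, fixing `x12`, `x23`, `x34` -/
def pt (a : ℕ) : ℕ :=
  Nat.xor (Nat.xor a (Nat.shiftLeft (bt a 3) 4))
    (Nat.xor (Nat.shiftLeft (Nat.xor (Nat.mul (bt a 2) (bt a 3)) (bt a 6)) 7)
      (Nat.shiftLeft (Nat.mul (bt a 6) (Nat.xor 1 (bt a 3))) 9))

theorem CS_comp {G : Type*} [Group G] {S : Subgroup G} {u : ℕ → G} (h : Emb S u) {f : ℕ → ℕ}
    (hf : isAut f = true) {K K' : ℕ} (hK : closedK K = true) (hK' : closedK K' = true)
    (hKK : allb 1024 (fun a => !(sb a K) || sb (f a) K') = true)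
    (hKK' : allb 1024 (fun a => !(sb a K') || sb (f a) K) = true) :
    CS (fun a => u (f a)) K = CS u K' := by
  have hE := emb_of_isAut h hf
  unfold isAut at hf
  simp only [Bool.and_eq_true, Nat.beq_eq] at hf
  have h2 := of_allb hf.1
  simp only [Bool.and_eq_true, Nat.blt_eq, Nat.beq_eq] at h2
  have h3 := of_allb hKK
  have h4 := of_allb hKK'
  simp only [Bool.or_eq_true, Bool.not_eq_true'] at h3 h4
  ext g
  rw [hE.mem_CS hK, h.mem_CS hK']
  constructor
  · rintro ⟨a, ha, haK, rfl⟩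
    refine ⟨f a, (h2 a ha).1.1, ?_, rfl⟩
    rw [← sb_iff] at haK ⊢
    rcases h3 a ha with h5 | h5
    · rw [haK] at h5; exact absurd h5 (by decide)
    · exact h5
  · rintro ⟨a, ha, haK, rfl⟩
    refine ⟨f a, (h2 a ha).1.1, ?_, ?_⟩
    · rw [← sb_iff] at haK ⊢
      rcases h4 a ha with h5 | h5
      · rw [haK] at h5; exact absurd h5 (by decide)
      · exact h5
    · show u (f (f a)) = u a
      rw [(h2 a ha).1.2]

/-- counting -/
def cntb (N : ℕ) (P : ℕ → Bool) : ℕ :=
  Nat.rec 0 (fun n ih => cond (P n) (Nat.succ ih) ih) N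

theorem cntb_eq (N : ℕ) (P : ℕ → Bool) :
    cntb N P = ((Finset.range N).filter (fun n => P n = true)).card := by
  induction N with
  | zero => rfl
  | succ N ih =>
    have h1 : cntb (N + 1) P = cond (P N) (Nat.succ (cntb N P)) (cntb N P) := rfl
    rw [h1, Finset.range_add_one, Finset.filter_insert]
    rcases hp : P N with _ | _
    · simp [ih]
    · simp [ih]

theorem card_CS {G : Type*} [Group G] {S : Subgroup G} {u : ℕ → G} (h : Emb S u) {K : ℕ}
    (hK : closedK K = true) : Nat.card (CS u K) = cntb 1024 (fun a => sb a K) := by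
  rw [cntb_eq]
  have hmem : ∀ a : ℕ, a ∈ (Finset.range 1024).filter (fun n => sb n K = true) →
      a < 1024 ∧ sb a K = true := by
    intro a ha
    rw [Finset.mem_filter, Finset.mem_range] at ha
    exact ha
  have e : ((Finset.range 1024).filter (fun n => sb n K = true) : Finset ℕ) ≃ CS u K :=
    Equiv.ofBijective (fun a => ⟨u a.1, (u_mem_CS h hK (hmem a.1 a.2).1).2 (hmem a.1 a.2).2⟩) (by
      constructor
      · intro a b hab
        exact Subtype.ext (h.inj (hmem a.1 a.2).1 (hmem b.1 b.2).1 (congrArg Subtype.val hab))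
      · rintro ⟨g, hg⟩
        obtain ⟨a, ha, haK, rfl⟩ := (h.mem_CS hK).1 hg
        exact ⟨⟨a, by rw [Finset.mem_filter, Finset.mem_range]; exact ⟨ha, sb_iff.2 haK⟩⟩, rfl⟩)
  rw [← Nat.card_congr e, Nat.card_eq_fintype_card, Fintype.card_coe]

theorem isAut_du : isAut du = true := by decide +kernel
theorem isAut_ps : isAut ps = true := by decide +kernel
theorem isAut_pt : isAut pt = true := by decide +kernel

end Cfsg.Agent.SylowL5.Calc
end

-- part: SylowL5/Elem
section
/-!
# Large elementary abelian subgroups of `UT_5(2)`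

`A1`, `A2` are the only elementary abelian subgroups of order 64; every elementary abelian subgroup
of order 32 lies in `A1` or `A2` or is one of four explicit groups; `Q` is the only subgroup of order
128 containing `z` which is elementary abelian modulo `z`.
-/

set_option autoImplicit false

namespace Cfsg.Agent.SylowL5.Elem

open Subgroup
open Cfsg.Agent.SylowL5.Setup Cfsg.Agent.SylowL5.Calc Cfsg.Agent.SylowL5.Weak

/-- `A1 A2`: all bits but 12, 45 -/
abbrev kJ : ℕ := 1014
/-- 13 15 23 25 -/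
abbrev kD1 : ℕ := 786
/-- 13 15 23 25 45 -/
abbrev kB1 : ℕ := 794
/-- 12 14 15 34 35 -/
abbrev kB2 : ℕ := 709

/-! ### Boolean facts -/

/-- commuting codes -/
def co (a b : ℕ) : Bool := Nat.beq (mu a b) (mu b a)

theorem factJ : allb 1024 (fun a => !(sb a kJ) || !(Nat.beq (mu a a) 0) || sb a kA1 || sb a kA2)
    = true := by decide +kernel

theorem fact1 : allb 1024 (fun c => !(sb c 418) || allb 1024 fun a => !(tb a 0) ||
    !(co a c) || (sb c 384 && !(Nat.beq c 256))) = true := by decide +kernel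

theorem fact2 : allb 1024 (fun b => tb b 0 || !(tb b 3) || (!(co b 128) && !(co b 384)))
    = true := by decide +kernel

theorem fact3 : allb 1024 (fun b => tb b 0 || !(tb b 3) || !(Nat.beq (mu b b) 0) || tb b 6 ||
    (sb b kB1 && allb 1024 fun c => !(sb c kA1) || !(co b c) || sb c kD1)) = true := by decide +kernel

theorem closed_kJ : closedK kJ = true := by decide
theorem closed_kA1 : closedK kA1 = true := by decide
theorem closed_kA2 : closedK kA2 = true := by decide
theorem closed_kB1 : closedK kB1 = true := by decide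
theorem closed_kB2 : closedK kB2 = true := by decide
theorem closed_kD1 : closedK kD1 = true := by decide
theorem closed_kQ : closedK kQ = true := by decide

section
variable {G : Type*} [Group G] {S : Subgroup G} {u : ℕ → G}

theorem co_iff (h : Emb S u) {a b : ℕ} (ha : a < 1024) (hb : b < 1024) :
    co a b = true ↔ u a * u b = u b * u a := by
  unfold co
  rw [Nat.beq_eq, ← h.mul ha hb, ← h.mul hb ha, eq_iff h (mu_lt ha hb) (mu_lt hb ha)]

theorem card_mul_le [Finite G] {X K T : Subgroup G} (hX : X ≤ T) (hK : K ≤ T)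
    (hd : ∀ g, g ∈ X → g ∈ K → g = 1) : Nat.card X * Nat.card K ≤ Nat.card T := by
  have hd' : Disjoint X K := by
    rw [Subgroup.disjoint_def]
    intro x hx hk
    exact hd x hx hk
  have h1 := Subgroup.mul_injective_of_disjoint hd'
  rw [← Nat.card_prod]
  apply Nat.card_le_card_of_injective (fun g : X × K => (⟨g.1 * g.2, T.mul_mem (hX g.1.2) (hK g.2.2)⟩ : T))
  intro a b hab
  exact h1 (congrArg Subtype.val hab)

theorem comm_of_sq {X : Subgroup G} (h2 : ∀ x ∈ X, x * x = 1) :
    ∀ x ∈ X, ∀ y ∈ X, x * y = y * x := by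
  intro x hx y hy
  have h1 := h2 (x * y) (X.mul_mem hx hy)
  have h3 := h2 x hx
  have h4 := h2 y hy
  have h5 : x * y = (x * y)⁻¹ := (inv_eq_of_mul_eq_one_right h1).symm
  rw [h5, mul_inv_rev, inv_eq_of_mul_eq_one_right h3, inv_eq_of_mul_eq_one_right h4]

/-- membership of the unused part -/
theorem mem_of_le (h : Emb S u) {X : Subgroup G} (hX : X ≤ S) {x : G} (hx : x ∈ X) :
    ∃ a, a < 1024 ∧ u a = x ∧ u a ∈ X := by
  obtain ⟨a, ha, rfl⟩ := h.surj x (hX hx)
  exact ⟨a, ha, rfl, hx⟩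

theorem le_CS_of (h : Emb S u) {X : Subgroup G} (hX : X ≤ S) {K : ℕ} (hK : closedK K = true)
    (hXK : ∀ a, a < 1024 → u a ∈ X → sb a K = true) : X ≤ CS u K := by
  intro x hx
  obtain ⟨a, ha, rfl, hx'⟩ := mem_of_le h hX hx
  exact (u_mem_CS h hK ha).2 (hXK a ha hx')

end

/-- `bt` is additive for the simple roots. -/
theorem tb_xor {a b k : ℕ} (hk : k < 4) : tb (mu a b) k = (tb a k ^^ tb b k) := by
  have h1 : ∀ a k, tb a k = a.testBit k := by
    intro a k
    unfold tb
    have h0 := testBit_bt a k 0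
    rcases bt_cases a k with h | h
    · rw [h] at h0 ⊢
      have h1 : a.testBit k = false := by simpa using h0
      rw [h1]; rfl
    · rw [h] at h0 ⊢
      have h1 : a.testBit k = true := by simpa using h0
      rw [h1]; rfl
  rw [h1, h1, h1, testBit_mu]
  have h4 : ¬ k = 4 := by omega
  have h5 : ¬ k = 5 := by omega
  have h6 : ¬ k = 6 := by omega
  have h7 : ¬ k = 7 := by omega
  have h8 : ¬ k = 8 := by omega
  have h9 : ¬ k = 9 := by omega
  simp [h4, h5, h6, h7, h8, h9]

theorem factK : allb 1024 (fun a => (sb a kJ || tb a 0 || tb a 3) &&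
    (!(sb a kJ) || (!(tb a 0) && !(tb a 3)))) = true := by decide +kernel

section
variable {G : Type*} [Group G] [Finite G] {S : Subgroup G} {u : ℕ → G}

/-- first case: `X ∩ J ≤ A1` -/
theorem el_one (h : Emb S u) (X : Subgroup G) (hX : X ≤ S) (h2 : ∀ x ∈ X, x * x = 1)
    (hJ : ∀ a, a < 1024 → u a ∈ X → sb a kJ = true → sb a kA1 = true) :
    Nat.card X ≤ 16 ∨ X ≤ CS u kA1 ∨ X ≤ CS u kB1 ∨ X ≤ cj (u x34) (CS u kB1) := by
  have hcomm := comm_of_sq h2
  have hfinS := h.finite
  have hco : ∀ a b, a < 1024 → b < 1024 → u a ∈ X → u b ∈ X → co a b = true := by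
    intro a b ha hb haX hbX
    rw [co_iff h ha hb]
    exact hcomm _ haX _ hbX
  have hJ' : ∀ a, a < 1024 → u a ∈ X → tb a 0 = false → tb a 3 = false → sb a kA1 = true := by
    intro a ha haX h0 h3
    apply hJ a ha haX
    have h4 := of_allb factK a ha
    rw [h0, h3] at h4
    simpa using h4
  by_cases hc : ∃ a, a < 1024 ∧ u a ∈ X ∧ tb a 0 = true
  · left
    obtain ⟨a, ha, haX, ha0⟩ := hc
    -- a useful consequence of `fact1`
    have f1 : ∀ c, c < 1024 → u c ∈ X → sb c 418 = true → sb c 384 = true ∧ c ≠ 256 := by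
      intro c hc hcX hc4
      have h4 := of_allb (of_allb fact1 c hc |> fun h => by
        rw [hc4] at h
        simpa using h) a ha
      rw [ha0, hco a c ha hc haX hcX] at h4
      simp only [Bool.not_true, Bool.false_or, Bool.and_eq_true, Bool.not_eq_true'] at h4
      refine ⟨h4.1, fun h5 => ?_⟩
      rw [h5] at h4
      exact absurd h4.2 (by decide)
    by_cases hd : ∃ b, b < 1024 ∧ u b ∈ X ∧ tb b 0 = false ∧ tb b 3 = true
    · obtain ⟨b, hb, hbX, hb0, hb3⟩ := hd
      have f2 := of_allb fact2 b hb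
      rw [hb0, hb3] at f2
      simp only [Bool.not_true, Bool.false_or, Bool.and_eq_true, Bool.not_eq_true'] at f2
      have hcl : closedK 486 = true := by decide
      have hcard : Nat.card (CS u 486) = 64 := by
        rw [card_CS h hcl]; decide +kernel
      have h5 := card_mul_le hX (h.CS_le 486) (by
        intro g hgX hgK
        obtain ⟨c, hc, hcK, rfl⟩ := (h.mem_CS hcl).1 hgK
        rw [← sb_iff] at hcK
        have h6 : sb c kA1 = true := hJ c hc hgX (by
          have := of_allb (P := fun c => !(sb c 486) || sb c kJ) (N := 1024) (by decide +kernel) c hc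
          rw [hcK] at this
          simpa using this)
        have h7 : sb c 418 = true := by
          have := of_allb (P := fun c => !(sb c 486) || !(sb c kA1) || sb c 418) (N := 1024)
            (by decide +kernel) c hc
          rw [hcK, h6] at this
          simpa using this
        obtain ⟨h8, h9⟩ := f1 c hc hgX h7
        have h10 := of_allb (P := fun c => !(sb c 384) || Nat.beq c 0 || Nat.beq c 128 ||
          Nat.beq c 256 || Nat.beq c 384) (N := 1024) (by decide +kernel) c hc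
        rw [h8] at h10
        simp only [Bool.not_true, Bool.false_or, Bool.or_eq_true, Nat.beq_eq] at h10
        rcases h10 with ((h10 | h10) | h10) | h10
        · rw [h10, h.zero]
        · exfalso
          have := hco b c hb hc hbX hgX
          rw [h10, f2.1] at this
          exact absurd this (by decide)
        · exact absurd h10 h9
        · exfalso
          have := hco b c hb hc hbX hgX
          rw [h10, f2.2] at this
          exact absurd this (by decide))
      rw [hcard, h.card] at h5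
      omega
    · push Not at hd
      have hcl : closedK 366 = true := by decide
      have hcard : Nat.card (CS u 366) = 64 := by
        rw [card_CS h hcl]; decide +kernel
      have h5 := card_mul_le hX (h.CS_le 366) (by
        intro g hgX hgK
        obtain ⟨c, hc, hcK, rfl⟩ := (h.mem_CS hcl).1 hgK
        rw [← sb_iff] at hcK
        have hc0 : tb c 0 = false := by
          have := of_allb (P := fun c => !(sb c 366) || !(tb c 0)) (N := 1024)
            (by decide +kernel) c hc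
          rw [hcK] at this
          simpa using this
        have hc3 : tb c 3 = false := by
          have := hd c hc hgX hc0
          simpa using this
        have h6 := hJ' c hc hgX hc0 hc3
        have h7 : sb c 418 = true ∧ sb c 290 = true := by
          have := of_allb (P := fun c => !(sb c 366) || !(sb c kA1) || (sb c 418 && sb c 290))
            (N := 1024) (by decide +kernel) c hc
          rw [hcK, h6] at this
          simpa using this
        obtain ⟨h8, h9⟩ := f1 c hc hgX h7.1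
        have h10 := of_allb (P := fun c => !(sb c 384) || !(sb c 290) || Nat.beq c 0 ||
          Nat.beq c 256) (N := 1024) (by decide +kernel) c hc
        rw [h8, h7.2] at h10
        simp only [Bool.not_true, Bool.false_or, Bool.or_eq_true, Nat.beq_eq] at h10
        rcases h10 with h10 | h10
        · rw [h10, h.zero]
        · exact absurd h10 h9)
      rw [hcard, h.card] at h5
      omega
  · push Not at hc
    right
    have hc' : ∀ a, a < 1024 → u a ∈ X → tb a 0 = false := by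
      intro a ha haX
      simpa using hc a ha haX
    by_cases hd : ∃ b, b < 1024 ∧ u b ∈ X ∧ tb b 3 = true
    · right
      obtain ⟨b, hb, hbX, hb3⟩ := hd
      -- the key computation
      have key : ∀ (Y : Subgroup G), Y ≤ S → (∀ y ∈ Y, y * y = 1) →
          (∀ a, a < 1024 → u a ∈ Y → tb a 0 = false) →
          (∀ a, a < 1024 → u a ∈ Y → tb a 3 = false → sb a kA1 = true) →
          ∀ b, b < 1024 → u b ∈ Y → tb b 3 = true → tb b 6 = false → Y ≤ CS u kB1 := by
        intro Y hY hY2 hY0 hY3 b hb hbY hb3 hb6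
        have hYc := comm_of_sq hY2
        have hbb : Nat.beq (mu b b) 0 = true := by
          rw [Nat.beq_eq]
          apply h.inj (mu_lt hb hb) (by norm_num)
          rw [h.mul hb hb, h.zero, hY2 _ hbY]
        have f3 := of_allb fact3 b hb
        rw [hY0 b hb hbY, hb3, hbb, hb6] at f3
        simp only [Bool.not_true, Bool.false_or, Bool.and_eq_true] at f3
        obtain ⟨f3, f4⟩ := f3
        have f5 := of_allb f4
        intro y hy
        obtain ⟨c, hc, rfl, hcY⟩ := mem_of_le h hY hy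
        have k1 : ∀ c, c < 1024 → u c ∈ Y → tb c 3 = false → u c ∈ CS u kB1 := by
          intro c hc hcY hc3
          rw [u_mem_CS h closed_kB1 hc]
          have f6 := f5 c hc
          have f7 : co b c = true := by
            rw [co_iff h hb hc]; exact hYc _ hbY _ hcY
          rw [hY3 c hc hcY hc3, f7] at f6
          simp only [Bool.not_true, Bool.false_or] at f6
          have := of_allb (P := fun c => !(sb c kD1) || sb c kB1) (N := 1024) (by decide +kernel) c hc
          rw [f6] at this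
          simpa using this
        cases hc3 : tb c 3
        · exact k1 c hc hcY hc3
        · have h6 := mu_lt hc hb
          have h7 : u (mu c b) ∈ Y := by rw [h.mul hc hb]; exact Y.mul_mem hcY hbY
          have h8 : tb (mu c b) 3 = false := by
            rw [tb_xor (by norm_num), hc3, hb3]; rfl
          have h9 := k1 _ h6 h7 h8
          have h10 : u b ∈ CS u kB1 := (u_mem_CS h closed_kB1 hb).2 f3
          rw [h.mul hc hb] at h9
          exact (Subgroup.mul_mem_cancel_right _ h10).1 h9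
      have hX3 : ∀ a, a < 1024 → u a ∈ X → tb a 3 = false → sb a kA1 = true :=
        fun a ha haX h3 => hJ' a ha haX (hc' a ha haX) h3
      cases hb6 : tb b 6
      · left
        exact key X hX h2 hc' hX3 b hb hbX hb3 hb6
      · right
        -- conjugate by `x34`
        have h34 : (4 : ℕ) < 1024 := by norm_num
        have hinv : (u x34)⁻¹ = u x34 := by
          rw [← inv_eq h h34]; rfl
        have hconj : ∀ a, a < 1024 → u (cc x34 a) = u x34 * u a * (u x34)⁻¹ := fun a ha => cc_u h h34 ha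
        have hback : ∀ a, a < 1024 → u a ∈ cj (u x34) X → u (cc x34 a) ∈ X := by
          intro a ha haX
          rw [mem_cj] at haX
          rw [hconj a ha]
          rw [hinv] at haX ⊢
          exact haX
        have fc := of_allb (P := fun a => Nat.beq (bt (cc x34 a) 0) (bt a 0) &&
          Nat.beq (bt (cc x34 a) 3) (bt a 3) && (!(sb (cc x34 a) kA1) || sb a kA1) &&
          (!(tb a 3) || tb a 2 || tb a 0 || Nat.beq (bt (cc x34 a) 6) (Nat.sub 1 (bt a 6))) &&
          Nat.beq (cc x34 (cc x34 a)) a) (N := 1024)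
          (by decide +kernel)
        simp only [Bool.and_eq_true, Nat.beq_eq] at fc
        have hle : cj (u x34) X ≤ CS u kB1 := by
          have hb2 := fc b hb
          have hcb : cc x34 b < 1024 := cc_lt h34 hb
          apply key (cj (u x34) X) _ _ _ _ (cc x34 b) hcb
          · rw [mem_cj, hconj b hb]
            have : (u x34)⁻¹ * (u x34 * u b * (u x34)⁻¹) * u x34 = u b := by group
            rw [this]; exact hbX
          · have : tb (cc x34 b) 3 = tb b 3 := by
              unfold tb; rw [hb2.1.1.1.2]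
            rw [this]; exact hb3
          · have hbb : Nat.beq (mu b b) 0 = true := by
              rw [Nat.beq_eq]
              apply h.inj (mu_lt hb hb) (by norm_num)
              rw [h.mul hb hb, h.zero, h2 _ hbX]
            have h12 := of_allb (P := fun b => !(Nat.beq (mu b b) 0) || !(tb b 3) || !(tb b 2)) (N := 1024)
              (by decide +kernel) b hb
            rw [hbb, hb3] at h12
            simp only [Bool.not_true, Bool.false_or, Bool.not_eq_true'] at h12
            have h13 := hb2.1.2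
            rw [hb3, h12, hc' b hb hbX] at h13
            simp only [Bool.not_true, Bool.false_or, Nat.beq_eq] at h13
            unfold tb at hb6 ⊢
            rw [Nat.beq_eq] at hb6
            rw [h13, hb6]
            rfl
          · rw [cj_le_iff]
            intro x hx
            exact S.mul_mem (S.mul_mem (h.mem h34) (hX hx)) (S.inv_mem (h.mem h34))
          · rintro _ ⟨x, hx, rfl⟩
            show (u x34 * x * (u x34)⁻¹) * (u x34 * x * (u x34)⁻¹) = 1
            have : (u x34 * x * (u x34)⁻¹) * (u x34 * x * (u x34)⁻¹) = u x34 * (x * x) * (u x34)⁻¹ := by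
              group
            rw [this, h2 x hx]; group
          · intro a ha haX
            have h3 := hc' _ (cc_lt h34 ha) (hback a ha haX)
            unfold tb at h3 ⊢
            rw [(fc a ha).1.1.1.1] at h3
            exact h3
          · intro a ha haX ha3
            have h3 := (fc a ha).1.1.2
            have h4 := hX3 _ (cc_lt h34 ha) (hback a ha haX) (by
              unfold tb at ha3 ⊢
              rw [(fc a ha).1.1.1.2]
              exact ha3)
            rw [h4] at h3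
            simpa using h3
        intro x hx
        rw [mem_cj]
        have h3 : u x34 * x * (u x34)⁻¹ ∈ CS u kB1 := hle ⟨x, hx, rfl⟩
        have h4 : (u x34)⁻¹ * x * u x34 = u x34 * x * (u x34)⁻¹ := by rw [hinv]
        rw [h4]
        exact h3
    · left
      push Not at hd
      apply le_CS_of h hX closed_kA1
      intro a ha haX
      exact hJ' a ha haX (hc' a ha haX) (by simpa using hd a ha haX)

omit [Finite G] in
/-- relabelling by the graph automorphism -/
theorem emb_du (h : Emb S u) : Emb S (fun a => u (du a)) := emb_of_isAut h isAut_du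

omit [Finite G] in
theorem CS_du_A1 (h : Emb S u) : CS (fun a => u (du a)) kA1 = CS u kA2 :=
  CS_comp h isAut_du closed_kA1 closed_kA2 (by decide +kernel) (by decide +kernel)

omit [Finite G] in
theorem CS_du_B1 (h : Emb S u) : CS (fun a => u (du a)) kB1 = CS u kB2 :=
  CS_comp h isAut_du closed_kB1 closed_kB2 (by decide +kernel) (by decide +kernel)

/-- Elementary abelian subgroups of order at least 32. -/
theorem el (h : Emb S u) (X : Subgroup G) (hX : X ≤ S) (h2 : ∀ x ∈ X, x * x = 1)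
    (hc : 16 < Nat.card X) :
    X ≤ CS u kA1 ∨ X ≤ CS u kA2 ∨ X ≤ CS u kB1 ∨ X ≤ cj (u x34) (CS u kB1) ∨
      X ≤ CS u kB2 ∨ X ≤ cj (u x23) (CS u kB2) := by
  have hJ : ∀ a, a < 1024 → u a ∈ X → sb a kJ = true → sb a kA1 = true ∨ sb a kA2 = true := by
    intro a ha haX haJ
    have h3 := of_allb factJ a ha
    have h4 : Nat.beq (mu a a) 0 = true := by
      rw [Nat.beq_eq]
      apply h.inj (mu_lt ha ha) (by norm_num)
      rw [h.mul ha ha, h.zero, h2 _ haX]
    rw [haJ, h4] at h3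
    simpa using h3
  by_cases h1 : ∀ a, a < 1024 → u a ∈ X → sb a kJ = true → sb a kA1 = true
  · rcases el_one h X hX h2 h1 with h3 | h3 | h3 | h3
    · omega
    · exact Or.inl h3
    · exact Or.inr (Or.inr (Or.inl h3))
    · exact Or.inr (Or.inr (Or.inr (Or.inl h3)))
  · push Not at h1
    obtain ⟨a, ha, haX, haJ, haA⟩ := h1
    have haA2 : sb a kA2 = true := by
      rcases hJ a ha haX haJ with h3 | h3
      · exact absurd h3 haA
      · exact h3
    have h4 : ∀ b, b < 1024 → u b ∈ X → sb b kJ = true → sb b kA2 = true := by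
      intro b hb hbX hbJ
      rcases hJ b hb hbX hbJ with h3 | h3
      · -- `a b` is in `J`
        have h5 : u (mu a b) ∈ X := by rw [h.mul ha hb]; exact X.mul_mem haX hbX
        have h6 : sb (mu a b) kJ = true := by
          rw [sb_iff] at haJ hbJ ⊢
          exact haJ.mu closed_kJ hbJ
        rcases hJ _ (mu_lt ha hb) h5 h6 with h7 | h7
        · exfalso
          apply haA
          rw [← u_mem_CS h closed_kA1 (mu_lt ha hb), h.mul ha hb] at h7
          have h8 := (u_mem_CS h closed_kA1 hb).2 h3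
          rw [← u_mem_CS h closed_kA1 ha]
          exact (Subgroup.mul_mem_cancel_right _ h8).1 h7
        · rw [← u_mem_CS h closed_kA2 (mu_lt ha hb), h.mul ha hb] at h7
          have h8 := (u_mem_CS h closed_kA2 ha).2 haA2
          rw [← u_mem_CS h closed_kA2 hb]
          exact (Subgroup.mul_mem_cancel_left _ h8).1 h7
      · exact h3
    have hE := emb_du h
    have hd := of_allb (P := fun a => Nat.blt (du a) 1024 && Nat.beq (du (du a)) a &&
      (!(sb a kJ) || sb (du a) kJ) && (!(sb (du a) kA2) || sb a kA1)) (N := 1024) (by decide +kernel)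
    simp only [Bool.and_eq_true, Nat.blt_eq, Nat.beq_eq] at hd
    have h5 := el_one hE X hX h2 (by
      intro b hb hbX hbJ
      have h6 := hd b hb
      have h7 := h6.1.2
      rw [hbJ] at h7
      have h8 := h4 (du b) h6.1.1.1 hbX (by simpa using h7)
      have h9 := h6.2
      rw [h8] at h9
      simpa using h9)
    rw [CS_du_A1 h, CS_du_B1 h] at h5
    have h34 : du x34 = x23 := by decide +kernel
    rw [h34] at h5
    rcases h5 with h3 | h3 | h3 | h3
    · omega
    · exact Or.inr (Or.inl h3)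
    · exact Or.inr (Or.inr (Or.inr (Or.inr (Or.inl h3))))
    · exact Or.inr (Or.inr (Or.inr (Or.inr (Or.inr h3))))

omit [Finite G] in
theorem card_A1 (h : Emb S u) : Nat.card (CS u kA1) = 64 := by
  rw [card_CS h closed_kA1]; decide +kernel
omit [Finite G] in
theorem card_A2 (h : Emb S u) : Nat.card (CS u kA2) = 64 := by
  rw [card_CS h closed_kA2]; decide +kernel
omit [Finite G] in
theorem card_B1 (h : Emb S u) : Nat.card (CS u kB1) = 32 := by
  rw [card_CS h closed_kB1]; decide +kernel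
omit [Finite G] in
theorem card_B2 (h : Emb S u) : Nat.card (CS u kB2) = 32 := by
  rw [card_CS h closed_kB2]; decide +kernel
omit [Finite G] in
theorem card_Q (h : Emb S u) : Nat.card (CS u kQ) = 128 := by
  rw [card_CS h closed_kQ]; decide +kernel

/-- `A1`, `A2` are the only elementary abelian subgroups of order 64. -/
theorem eq_of_card_64 (h : Emb S u) (X : Subgroup G) (hX : X ≤ S) (h2 : ∀ x ∈ X, x * x = 1)
    (hc : Nat.card X = 64) : X = CS u kA1 ∨ X = CS u kA2 := by
  have hle : ∀ K : Subgroup G, X ≤ K → Nat.card K = 32 → False := by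
    intro K hK hcK
    have := Nat.le_of_dvd (by rw [hcK]; norm_num) (Subgroup.card_dvd_of_le hK)
    omega
  have heq : ∀ K : Subgroup G, X ≤ K → Nat.card K = 64 → X = K := fun K hK hcK =>
    Subgroup.eq_of_le_of_card_ge hK (by rw [hcK, hc])
  rcases el h X hX h2 (by omega) with h3 | h3 | h3 | h3 | h3 | h3
  · exact Or.inl (heq _ h3 (card_A1 h))
  · exact Or.inr (heq _ h3 (card_A2 h))
  · exact (hle _ h3 (card_B1 h)).elim
  · exact (hle _ h3 ((card_cj _ _).trans (card_B1 h))).elim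
  · exact (hle _ h3 (card_B2 h)).elim
  · exact (hle _ h3 ((card_cj _ _).trans (card_B2 h))).elim

/-- Elementary abelian subgroups of order 32. -/
theorem eq_of_card_32 (h : Emb S u) (X : Subgroup G) (hX : X ≤ S) (h2 : ∀ x ∈ X, x * x = 1)
    (hc : Nat.card X = 32) :
    X ≤ CS u kA1 ∨ X ≤ CS u kA2 ∨ X = CS u kB1 ∨ X = cj (u x34) (CS u kB1) ∨
      X = CS u kB2 ∨ X = cj (u x23) (CS u kB2) := by
  have heq : ∀ K : Subgroup G, X ≤ K → Nat.card K = 32 → X = K := fun K hK hcK =>
    Subgroup.eq_of_le_of_card_ge hK (by rw [hcK, hc])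
  rcases el h X hX h2 (by omega) with h3 | h3 | h3 | h3 | h3 | h3
  · exact Or.inl h3
  · exact Or.inr (Or.inl h3)
  · exact Or.inr (Or.inr (Or.inl (heq _ h3 (card_B1 h))))
  · exact Or.inr (Or.inr (Or.inr (Or.inl (heq _ h3 ((card_cj _ _).trans (card_B1 h))))))
  · exact Or.inr (Or.inr (Or.inr (Or.inr (Or.inl (heq _ h3 (card_B2 h))))))
  · exact Or.inr (Or.inr (Or.inr (Or.inr (Or.inr (heq _ h3 ((card_cj _ _).trans (card_B2 h)))))))

/-! ### Uniqueness of `Q` -/

/-- code of `1` or `z` -/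
def zz (a : ℕ) : Bool := Nat.beq a 0 || Nat.beq a 512

theorem factQ1 : allb 1024 (fun a => !(zz (mu a a)) || !(tb a 1) || !(tb a 2)) = true := by
  decide +kernel

theorem factQ2 : allb 1024 (fun c => !(sb c 73) || Nat.beq c 0 || allb 1024 fun a => !(tb a 1) ||
    !(zz (cm a c)) || (!(tb c 0) && tb c 3)) = true := by decide +kernel

theorem factQ3 : allb 1024 (fun c => !(sb c 73) || allb 1024 fun a => tb a 1 || tb a 2 ||
    !(tb a 5) || !(zz (cm a c)) || (!(tb c 0) && !(tb c 3))) = true := by decide +kernel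

theorem factQ4 : allb 1024 (fun c => tb c 1 || tb c 2 || tb c 5 || sb c kQ) = true := by
  decide +kernel

omit [Finite G] in
theorem card_le_two [Finite G] (X L : Subgroup G)
    (hL : ∀ x ∈ X, ∀ y ∈ X, x ∉ L → y ∉ L → x⁻¹ * y ∈ L) :
    Nat.card X ≤ 2 * Nat.card (X ⊓ L : Subgroup G) := by
  classical
  by_cases hc : ∃ x₀ ∈ X, x₀ ∉ L
  · obtain ⟨x₀, hx₀, hx₀L⟩ := hc
    let f : X → Bool × (X ⊓ L : Subgroup G) := fun y =>
      if hy : (y : G) ∈ L then (false, ⟨y, y.2, hy⟩)
      else (true, ⟨x₀⁻¹ * y, X.mul_mem (X.inv_mem hx₀) y.2, hL _ hx₀ _ y.2 hx₀L hy⟩)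
    have hf : Function.Injective f := by
      intro a b hab
      simp only [f] at hab
      split_ifs at hab with h1 h2 h2
      · have := congrArg (fun p => (p.2 : G)) hab
        exact Subtype.ext this
      · exact absurd (congrArg Prod.fst hab) Bool.false_ne_true
      · exact absurd (congrArg Prod.fst hab).symm Bool.false_ne_true
      · have := congrArg (fun p => (p.2 : G)) hab
        exact Subtype.ext (mul_left_cancel this)
    have h1 := Nat.card_le_card_of_injective f hf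
    rwa [Nat.card_prod, Nat.card_eq_fintype_card (α := Bool), Fintype.card_bool] at h1
  · push Not at hc
    have h1 : X ⊓ L = X := inf_eq_left.2 hc
    rw [h1]
    omega

omit [Finite G] in
theorem zz_iff (h : Emb S u) {a : ℕ} (ha : a < 1024) : zz a = true ↔ u a ∈ CS u 512 := by
  rw [u_mem_CS h (by decide) ha]
  have := of_allb (P := fun a => Nat.beq (cond (zz a) 1 0) (cond (sb a 512) 1 0)) (N := 1024)
    (by decide +kernel) a ha
  rw [Nat.beq_eq] at this
  cases h1 : zz a <;> cases h2 : sb a 512 <;> rw [h1, h2] at this <;> simp at this ⊢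

/-- the case "some element has entry 23" -/
theorem q_one (h : Emb S u) (X : Subgroup G) (hX : X ≤ S)
    (hsq : ∀ x ∈ X, x * x ∈ CS u 512) (hcm : ∀ x ∈ X, ∀ y ∈ X, x * y * x⁻¹ * y⁻¹ ∈ CS u 512)
    (ha : ∃ a, a < 1024 ∧ u a ∈ X ∧ tb a 1 = true) : Nat.card X ≤ 64 := by
  obtain ⟨a, ha, haX, ha1⟩ := ha
  have hsq' : ∀ a, a < 1024 → u a ∈ X → zz (mu a a) = true := by
    intro a ha haX
    rw [zz_iff h (mu_lt ha ha), h.mul ha ha]; exact hsq _ haX
  have hcm' : ∀ a b, a < 1024 → b < 1024 → u a ∈ X → u b ∈ X → zz (cm a b) = true := by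
    intro a b ha hb haX hbX
    rw [zz_iff h (cm_lt ha hb), cm_u h ha hb]; exact hcm _ haX _ hbX
  have hb2 : ∀ c, c < 1024 → u c ∈ X → tb c 2 = false := by
    intro c hc hcX
    by_contra h2
    rw [Bool.not_eq_false] at h2
    have h3 := of_allb factQ1 c hc
    rw [hsq' c hc hcX, h2] at h3
    simp only [Bool.not_true, Bool.false_or, Bool.or_false, Bool.not_eq_true'] at h3
    have hac := mu_lt ha hc
    have hacX : u (mu a c) ∈ X := by rw [h.mul ha hc]; exact X.mul_mem haX hcX
    have h4 := of_allb factQ1 _ hac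
    have h5 := of_allb factQ1 a ha
    rw [hsq' a ha haX, ha1] at h5
    simp only [Bool.not_true, Bool.false_or, Bool.not_eq_true'] at h5
    rw [hsq' _ hac hacX, tb_xor (by norm_num), tb_xor (by norm_num), ha1, h3, h2, h5] at h4
    exact absurd h4 (by decide)
  have q2 : ∀ c, c < 1024 → u c ∈ X → sb c 73 = true → c = 0 ∨ (tb c 0 = false ∧ tb c 3 = true) := by
    intro c hc hcX hc7
    have h3 := of_allb factQ2 c hc
    rw [hc7] at h3
    simp only [Bool.not_true, Bool.false_or, Bool.or_eq_true, Nat.beq_eq] at h3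
    rcases h3 with h3 | h3
    · exact Or.inl h3
    · have h4 := of_allb h3 a ha
      rw [ha1, hcm' a c ha hc haX hcX] at h4
      right
      simpa using h4
  by_cases hb : ∃ b, b < 1024 ∧ u b ∈ X ∧ tb b 1 = false ∧ tb b 5 = true
  · obtain ⟨b, hb, hbX, hb1, hb5⟩ := hb
    have hcl : closedK 77 = true := by decide
    have hcard : Nat.card (CS u 77) = 16 := by rw [card_CS h hcl]; decide +kernel
    have h5 := card_mul_le hX (h.CS_le 77) (by
      intro g hgX hgK
      obtain ⟨c, hc, hcK, rfl⟩ := (h.mem_CS hcl).1 hgK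
      rw [← sb_iff] at hcK
      have h6 : sb c 73 = true := by
        have := of_allb (P := fun c => !(sb c 77) || tb c 2 || sb c 73) (N := 1024)
          (by decide +kernel) c hc
        rw [hcK, hb2 c hc hgX] at this
        simpa using this
      have h7 := of_allb (of_allb factQ3 c hc |> fun h => by
        rw [h6] at h
        simpa using h) b hb
      rw [hb1, hb2 b hb hbX, hb5, hcm' b c hb hc hbX hgX] at h7
      simp only [Bool.not_true, Bool.false_or, Bool.and_eq_true, Bool.not_eq_true'] at h7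
      rcases q2 c hc hgX h6 with h8 | h8
      · rw [h8, h.zero]
      · rw [h7.2] at h8
        exact absurd h8.2 (by decide))
    rw [hcard, h.card] at h5
    omega
  · push Not at hb
    have h1 := card_le_two X (CS u kQ) (by
      intro x hx y hy hxQ hyQ
      obtain ⟨c, hc, rfl, hcX⟩ := mem_of_le h hX hx
      obtain ⟨d, hd, rfl, hdX⟩ := mem_of_le h hX hy
      have hQ : ∀ c, c < 1024 → u c ∈ X → tb c 1 = false → u c ∈ CS u kQ := by
        intro c hc hcX hc1
        rw [u_mem_CS h closed_kQ hc]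
        have h3 := of_allb factQ4 c hc
        have h4 : tb c 5 = false := by simpa using hb c hc hcX hc1
        rw [hc1, hb2 c hc hcX, h4] at h3
        simpa using h3
      have hc1 : tb c 1 = true := by
        by_contra h3
        rw [Bool.not_eq_true] at h3
        exact hxQ (hQ c hc hcX h3)
      have hd1 : tb d 1 = true := by
        by_contra h3
        rw [Bool.not_eq_true] at h3
        exact hyQ (hQ d hd hdX h3)
      have h5 : u (mu (iv c) d) ∈ X := by
        rw [h.mul (iv_lt hc) hd, inv_eq h hc]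
        exact X.mul_mem (X.inv_mem hcX) hdX
      have h6 := hQ _ (mu_lt (iv_lt hc) hd) h5 (by
        have h7 : tb (iv c) 1 = true := by
          have h8 : tb (mu c (iv c)) 1 = false := by rw [mu_iv hc]; rfl
          rw [tb_xor (by norm_num), hc1] at h8
          simpa using h8
        rw [tb_xor (by norm_num), h7, hd1]; rfl)
      rwa [h.mul (iv_lt hc) hd, inv_eq h hc] at h6)
    have hcl : closedK 65 = true := by decide
    have hcard : Nat.card (CS u 65) = 4 := by rw [card_CS h hcl]; decide +kernel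
    have h5 := card_mul_le (X := X ⊓ CS u kQ) (K := CS u 65) (T := CS u kQ) inf_le_right (by
        intro g hg
        obtain ⟨c, hc, hcK, rfl⟩ := (h.mem_CS hcl).1 hg
        rw [u_mem_CS h closed_kQ hc]
        rw [← sb_iff] at hcK
        have := of_allb (P := fun c => !(sb c 65) || sb c kQ) (N := 1024)
          (by decide +kernel) c hc
        rw [hcK] at this
        simpa using this) (by
      rintro g ⟨hgX, -⟩ hgK
      obtain ⟨c, hc, hcK, rfl⟩ := (h.mem_CS hcl).1 hgK
      rw [← sb_iff] at hcK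
      have h6 : sb c 73 = true ∧ tb c 3 = false := by
        have := of_allb (P := fun c => !(sb c 65) || (sb c 73 && !(tb c 3))) (N := 1024)
          (by decide +kernel) c hc
        rw [hcK] at this
        simpa using this
      rcases q2 c hc hgX h6.1 with h8 | h8
      · rw [h8, h.zero]
      · rw [h6.2] at h8
        exact absurd h8.2 (by decide))
    rw [hcard, card_Q h] at h5
    omega

theorem factQ5 : allb 1024 (fun c => !(sb c 9) || Nat.beq c 0 || (sb c 73 && (tb c 0 || tb c 3)))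
    = true := by decide +kernel

omit [Finite G] in
theorem CS_du_Q (h : Emb S u) : CS (fun a => u (du a)) kQ = CS u kQ :=
  CS_comp h isAut_du closed_kQ closed_kQ (by decide +kernel) (by decide +kernel)

omit [Finite G] in
theorem CS_du_Z (h : Emb S u) : CS (fun a => u (du a)) 512 = CS u 512 :=
  CS_comp h isAut_du (by decide) (by decide) (by decide +kernel) (by decide +kernel)

/-- `Q` is the only subgroup of order 128 containing `z` and elementary abelian modulo `z`. -/
theorem eq_Q (h : Emb S u) (X : Subgroup G) (hX : X ≤ S)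
    (hsq : ∀ x ∈ X, x * x ∈ CS u 512) (hcm : ∀ x ∈ X, ∀ y ∈ X, x * y * x⁻¹ * y⁻¹ ∈ CS u 512)
    (hc : Nat.card X = 128) : X = CS u kQ := by
  have hno1 : ∀ a, a < 1024 → u a ∈ X → tb a 1 = false := by
    intro a ha haX
    by_contra h1
    rw [Bool.not_eq_false] at h1
    have := q_one h X hX hsq hcm ⟨a, ha, haX, h1⟩
    omega
  have hd := of_allb (P := fun a => Nat.blt (du a) 1024 && Nat.beq (du (du a)) a &&
      (Nat.beq (bt (du a) 1) (bt a 2))) (N := 1024) (by decide +kernel)
  simp only [Bool.and_eq_true, Nat.blt_eq, Nat.beq_eq] at hd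
  have hno2 : ∀ a, a < 1024 → u a ∈ X → tb a 2 = false := by
    intro a ha haX
    by_contra h1
    rw [Bool.not_eq_false] at h1
    have h2 := q_one (emb_du h) X hX (by rw [CS_du_Z h]; exact hsq) (by rw [CS_du_Z h]; exact hcm)
      ⟨du a, (hd a ha).1.1, by
        show u (du (du a)) ∈ X
        rw [(hd a ha).1.2]; exact haX, by
        unfold tb at h1 ⊢
        rw [(hd a ha).2]; exact h1⟩
    omega
  have hcm' : ∀ a b, a < 1024 → b < 1024 → u a ∈ X → u b ∈ X → zz (cm a b) = true := by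
    intro a b ha hb haX hbX
    rw [zz_iff h (cm_lt ha hb), cm_u h ha hb]; exact hcm _ haX _ hbX
  have hle : X ≤ CS u kQ := by
    apply le_CS_of h hX closed_kQ
    by_contra hcon
    push Not at hcon
    obtain ⟨b, hb, hbX, hbQ⟩ := hcon
    have hb5 : tb b 5 = true := by
      have h3 := of_allb factQ4 b hb
      have hbQ' : sb b kQ = false := by simpa using hbQ
      rw [hno1 b hb hbX, hno2 b hb hbX, hbQ'] at h3
      simpa using h3
    have hQ : ∀ c, c < 1024 → u c ∈ X → tb c 5 = false → u c ∈ CS u kQ := by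
      intro c hc hcX hc1
      rw [u_mem_CS h closed_kQ hc]
      have h3 := of_allb factQ4 c hc
      rw [hno1 c hc hcX, hno2 c hc hcX, hc1] at h3
      simpa using h3
    have hclP : closedK 1017 = true := by decide
    have hP : ∀ c, c < 1024 → u c ∈ X → sb c 1017 = true := by
      intro c hc hcX
      have := of_allb (P := fun c => tb c 1 || tb c 2 || sb c 1017) (N := 1024)
        (by decide +kernel) c hc
      rw [hno1 c hc hcX, hno2 c hc hcX] at this
      simpa using this
    have h1 := card_le_two X (CS u kQ) (by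
      intro x hx y hy hxQ hyQ
      obtain ⟨c, hc, rfl, hcX⟩ := mem_of_le h hX hx
      obtain ⟨d, hd, rfl, hdX⟩ := mem_of_le h hX hy
      have hc1 : tb c 5 = true := by
        by_contra h3
        rw [Bool.not_eq_true] at h3
        exact hxQ (hQ c hc hcX h3)
      have hd1 : tb d 5 = true := by
        by_contra h3
        rw [Bool.not_eq_true] at h3
        exact hyQ (hQ d hd hdX h3)
      have h5 : u (mu (iv c) d) ∈ X := by
        rw [h.mul (iv_lt hc) hd, inv_eq h hc]
        exact X.mul_mem (X.inv_mem hcX) hdX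
      have h6 := hQ _ (mu_lt (iv_lt hc) hd) h5 (by
        have e1 : ∀ a b, tb a 1 = false → tb b 2 = false → tb (mu a b) 5 = (tb a 5 ^^ tb b 5) := by
          intro a b h1 h2
          have h3 : ∀ a k, tb a k = a.testBit k := by
            intro a k
            unfold tb
            have h0 := testBit_bt a k 0
            rcases bt_cases a k with h | h
            · rw [h] at h0 ⊢
              have h1 : a.testBit k = false := by simpa using h0
              rw [h1]; rfl
            · rw [h] at h0 ⊢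
              have h1 : a.testBit k = true := by simpa using h0
              rw [h1]; rfl
          rw [h3] at h1 h2 ⊢
          rw [testBit_mu, h1, h2, h3, h3]
          simp
        have e2 : tb (iv c) 1 = false := by
          have h8 : tb (mu c (iv c)) 1 = false := by rw [mu_iv hc]; rfl
          rw [tb_xor (by norm_num), hno1 c hc hcX] at h8
          simpa using h8
        have e3 : tb (iv c) 2 = false := by
          have h8 : tb (mu c (iv c)) 2 = false := by rw [mu_iv hc]; rfl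
          rw [tb_xor (by norm_num), hno2 c hc hcX] at h8
          simpa using h8
        have e4 : tb (iv c) 5 = true := by
          have h8 : tb (mu c (iv c)) 5 = false := by rw [mu_iv hc]; rfl
          rw [e1 _ _ (hno1 c hc hcX) e3, hc1] at h8
          simpa using h8
        rw [e1 _ _ e2 (hno2 d hd hdX), e4, hd1]; rfl)
      rwa [h.mul (iv_lt hc) hd, inv_eq h hc] at h6)
    have hcl : closedK 9 = true := by decide
    have hcard : Nat.card (CS u 9) = 4 := by rw [card_CS h hcl]; decide +kernel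
    have h5 := card_mul_le (X := X ⊓ CS u kQ) (K := CS u 9) (T := CS u kQ) inf_le_right (by
        intro g hg
        obtain ⟨c, hc, hcK, rfl⟩ := (h.mem_CS hcl).1 hg
        rw [u_mem_CS h closed_kQ hc]
        rw [← sb_iff] at hcK
        have := of_allb (P := fun c => !(sb c 9) || sb c kQ) (N := 1024)
          (by decide +kernel) c hc
        rw [hcK] at this
        simpa using this) (by
      rintro g ⟨hgX, -⟩ hgK
      obtain ⟨c, hc, hcK, rfl⟩ := (h.mem_CS hcl).1 hgK
      rw [← sb_iff] at hcK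
      have h6 := of_allb factQ5 c hc
      rw [hcK] at h6
      simp only [Bool.not_true, Bool.false_or, Bool.or_eq_true, Nat.beq_eq, Bool.and_eq_true] at h6
      rcases h6 with h6 | ⟨h6, h7⟩
      · rw [h6, h.zero]
      · exfalso
        have h8 := of_allb (of_allb factQ3 c hc |> fun h => by
          rw [h6] at h
          simpa using h) b hb
        rw [hno1 b hb hbX, hno2 b hb hbX, hb5, hcm' b c hb hc hbX hgX] at h8
        simp only [Bool.not_true, Bool.false_or, Bool.and_eq_true, Bool.not_eq_true'] at h8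
        rw [h8.1, h8.2] at h7
        simp at h7)
    rw [hcard, card_Q h] at h5
    omega
  exact Subgroup.eq_of_le_of_card_ge hle (by rw [card_Q h, hc])

end

end Cfsg.Agent.SylowL5.Elem
end

private theorem dce_b7d45431f666 : _root_.True := by
  try have : _root_.True := by simp only [_root_.Cfsg.Agent.SylowL5.Calc.cm.eq_1]
  try have : _root_.True := by simp only [_root_.Cfsg.Agent.SylowL5.Calc.cc.eq_1]
  try have : _root_.True := by simp only [_root_.Cfsg.Agent.SylowL5.Calc.iv.eq_1]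
  exact _root_.True.intro
end

-- part: SylowL5/Act
section
prune_inst 0x1000000022000000000010000000400000000000000000000001020040004000000000000004120002880000000000000000000000000000000000000400000000020000400000000000000000000000000000000000000000000000000000000000000
set_option linter.all false
open scoped Cfsg.Agent.FastGrp

-- part: SylowL5/Transv
section
/-!
# Transvections in a Sylow 2-subgroup determine an invariant centre or axis

Let `X` act on the elementary abelian 2-group `W` (additively written) with invariant subgroup `Z`.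
If all elements of the Sylow 2-subgroup `P` acting as transvections on `W / Z` have the same centre `c`
and their axes cover `W`, then `c` is `X`-invariant (mod `Z`).  Dually for a common axis.
-/

set_option autoImplicit false

namespace Cfsg.Agent.SylowL5.Transv

open Subgroup

/-- Modulo a normal subgroup a 2-group is conjugate into a Sylow 2-subgroup. -/
theorem exists_mod {X : Type*} [Group X] [Finite X] (P : Sylow 2 X) (K : Subgroup X) [K.Normal]
    (D : Subgroup X) (hD : IsPGroup 2 (D.map (QuotientGroup.mk' K))) :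
    ∃ m : X, ∀ d ∈ D, ∃ s ∈ P, s⁻¹ * (m * d * m⁻¹) ∈ K := by
  have f2 : Fact (Nat.Prime 2) := ⟨Nat.prime_two⟩
  obtain ⟨R, hR⟩ := hD.exists_le_sylow
  obtain ⟨g, hg⟩ := MulAction.exists_smul_eq (X ⧸ K) R
    (P.mapSurjective (QuotientGroup.mk'_surjective K))
  obtain ⟨m, rfl⟩ := QuotientGroup.mk'_surjective K g
  refine ⟨m, fun d hd => ?_⟩
  have h1 : QuotientGroup.mk' K d ∈ (R : Subgroup (X ⧸ K)) := hR ⟨d, hd, rfl⟩
  have h2 : QuotientGroup.mk' K m * QuotientGroup.mk' K d * (QuotientGroup.mk' K m)⁻¹ ∈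
      ((P.mapSurjective (QuotientGroup.mk'_surjective K) : Sylow 2 (X ⧸ K)) : Subgroup (X ⧸ K)) := by
    rw [← hg, Sylow.coe_subgroup_smul]
    exact ⟨_, h1, rfl⟩
  rw [Sylow.coe_mapSurjective] at h2
  obtain ⟨s, hs, hs2⟩ := h2
  refine ⟨s, hs, ?_⟩
  rw [← map_mul, ← map_inv, ← map_mul] at hs2
  exact QuotientGroup.eq.1 hs2

section

variable {X : Type*} [Group X]

theorem sq_of_mem_closure {a b : X} (ha : a * a = 1) (hb : b * b = 1) (hab : a * b = b * a) :
    ∀ x ∈ closure ({a, b} : Set X), x * x = 1 := by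
  have key : ∀ x ∈ closure ({a, b} : Set X), x = 1 ∨ x = a ∨ x = b ∨ x = a * b := by
    intro x hx
    induction hx using Subgroup.closure_induction'' with
    | mem x hx =>
      rcases hx with rfl | rfl
      · right; left; rfl
      · right; right; left; rfl
    | inv_mem x hx =>
      rcases hx with rfl | rfl
      · right; left; exact inv_eq_of_mul_eq_one_right ha
      · right; right; left; exact inv_eq_of_mul_eq_one_right hb
    | one => left; rfl
    | mul x y _ _ h1 h2 =>
      have h3 : b * a = a * b := hab.symm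
      have h4 : ∀ c : X, a * (a * c) = c := fun c => by rw [← mul_assoc, ha, one_mul]
      have h5 : ∀ c : X, b * (b * c) = c := fun c => by rw [← mul_assoc, hb, one_mul]
      have h6 : ∀ c : X, b * (a * c) = a * (b * c) := fun c => by rw [← mul_assoc, h3, mul_assoc]
      rcases h1 with rfl | rfl | rfl | rfl <;> rcases h2 with rfl | rfl | rfl | rfl <;>
        simp [ha, hb, h3, h4, h5, h6, mul_assoc]
  intro x hx
  have h3 : b * a = a * b := hab.symm
  have h4 : ∀ c : X, a * (a * c) = c := fun c => by rw [← mul_assoc, ha, one_mul]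
  have h6 : ∀ c : X, b * (a * c) = a * (b * c) := fun c => by rw [← mul_assoc, h3, mul_assoc]
  rcases key x hx with rfl | rfl | rfl | rfl
  · simp
  · exact ha
  · exact hb
  · simp [h6, hb, ha, mul_assoc]

end

section

variable {X W : Type*} [Group X] [AddCommGroup W] [DistribMulAction X W]

/-- `x` acts on `W / Z` as a transvection with centre `c` (or trivially). -/
def Tr (Z : AddSubgroup W) (x : X) (c : W) : Prop := ∀ v, x • v - v ∈ Z ∨ x • v - v - c ∈ Z

/-- the kernel of the action on `W / Z` -/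
def ker (Z : AddSubgroup W) (hZ : ∀ (x : X), ∀ z ∈ Z, x • z ∈ Z) : Subgroup X where
  carrier := {x | ∀ v, x • v - v ∈ Z}
  one_mem' := by
    intro v
    rw [one_smul, sub_self]; exact Z.zero_mem
  mul_mem' := by
    intro a b ha hb v
    have h1 : (a * b) • v - v = a • (b • v - v) + (a • v - v) := by
      rw [mul_smul, smul_sub]; abel
    rw [h1]
    exact Z.add_mem (hZ a _ (hb v)) (ha v)
  inv_mem' := by
    intro a ha v
    have h1 : a⁻¹ • v - v = -(a⁻¹ • (a • v - v)) := by
      rw [smul_sub, inv_smul_smul]; abel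
    rw [h1]
    exact Z.neg_mem (hZ a⁻¹ _ (ha v))

theorem ker_normal (Z : AddSubgroup W) (hZ : ∀ (x : X), ∀ z ∈ Z, x • z ∈ Z) :
    (ker Z hZ).Normal := by
  refine ⟨fun x hx g v => ?_⟩
  have h1 : (g * x * g⁻¹) • v - v = g • (x • (g⁻¹ • v) - g⁻¹ • v) := by
    rw [smul_sub, smul_inv_smul, mul_smul, mul_smul]
  rw [h1]
  exact hZ g _ (hx _)

theorem Tr.conj {Z : AddSubgroup W} (hZ : ∀ (x : X), ∀ z ∈ Z, x • z ∈ Z) {x : X} {c : W}
    (h : Tr Z x c) (g : X) : Tr Z (g * x * g⁻¹) (g • c) := by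
  intro v
  have h1 : (g * x * g⁻¹) • v - v = g • (x • (g⁻¹ • v) - g⁻¹ • v) := by
    rw [smul_sub, smul_inv_smul, mul_smul, mul_smul]
  rcases h (g⁻¹ • v) with h2 | h2
  · left; rw [h1]; exact hZ g _ h2
  · right; rw [h1, ← smul_sub]; exact hZ g _ h2

/-- elements congruent modulo the kernel act in the same way -/
theorem congr_ker {Z : AddSubgroup W} (hZ : ∀ (x : X), ∀ z ∈ Z, x • z ∈ Z) {s x : X}
    (h : s⁻¹ * x ∈ ker Z hZ) (v : W) : s • v - x • v ∈ Z := by
  have h1 : s • v - x • v = -(s • ((s⁻¹ * x) • v - v)) := by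
    rw [smul_sub, mul_smul, smul_inv_smul]; abel
  rw [h1]
  exact Z.neg_mem (hZ s _ (h v))

theorem Tr.congr {Z : AddSubgroup W} (hZ : ∀ (x : X), ∀ z ∈ Z, x • z ∈ Z) {s x : X} {c : W}
    (h : s⁻¹ * x ∈ ker Z hZ) (hx : Tr Z x c) : Tr Z s c := by
  intro v
  have h1 := congr_ker hZ h v
  rcases hx v with h2 | h2
  · left
    have h3 : s • v - v = (s • v - x • v) + (x • v - v) := by abel
    rw [h3]; exact Z.add_mem h1 h2
  · right
    have h3 : s • v - v - c = (s • v - x • v) + (x • v - v - c) := by abel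
    rw [h3]; exact Z.add_mem h1 h2

/-- if `c` is the centre of the nontrivial transvection `x` then `x` fixes `c` modulo `Z`. -/
theorem Tr.fix {Z : AddSubgroup W} (hZ : ∀ (x : X), ∀ z ∈ Z, x • z ∈ Z) (hW : ∀ w : W, w + w = 0)
    {x : X} {c : W} (h : Tr Z x c) : x • c - c ∈ Z := by
  by_cases hc : c ∈ Z
  · exact Z.sub_mem (hZ x c hc) hc
  · rcases h c with h1 | h1
    · exact h1
    · exfalso
      apply hc
      have h2 : x • c - c - c = x • c := by
        have : c + c = 0 := hW c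
        have h3 : x • c - c - c = x • c - (c + c) := by abel
        rw [h3, this, sub_zero]
      rw [h2] at h1
      have h3 := hZ x⁻¹ _ h1
      rwa [inv_smul_smul] at h3

/-- product of a transvection and an element fixing its centre -/
theorem Tr.mul_sub {Z : AddSubgroup W} (hZ : ∀ (x : X), ∀ z ∈ Z, x • z ∈ Z)
    {x y : X} {d : W} (hy : Tr Z y d) (hxd : x • d - d ∈ Z) (v : W) :
    (x * y) • v - v - ((x • v - v) + (y • v - v)) ∈ Z := by
  have h1 : (x * y) • v - v - ((x • v - v) + (y • v - v)) = x • (y • v - v) - (y • v - v) := by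
    rw [mul_smul, smul_sub]; abel
  rw [h1]
  rcases hy v with h2 | h2
  · exact Z.sub_mem (hZ x _ h2) h2
  · have h3 : x • (y • v - v) - (y • v - v)
        = (x • (y • v - v - d) - (y • v - v - d)) + (x • d - d) := by
      rw [smul_sub x (y • v - v) d]; abel
    rw [h3]
    exact Z.add_mem (Z.sub_mem (hZ x _ h2) h2) hxd

/-- The subgroup generated by two transvections fixing each other's centre is a 2-group modulo
the kernel. -/
theorem isPGroup_of_tr {Z : AddSubgroup W} (hZ : ∀ (x : X), ∀ z ∈ Z, x • z ∈ Z)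
    (hW : ∀ w : W, w + w = 0) {x y : X} {c d : W} (hx : Tr Z x c) (hy : Tr Z y d)
    (hxd : x • d - d ∈ Z) (hyc : y • c - c ∈ Z) :
    have := ker_normal Z hZ
    IsPGroup 2 ((closure ({x, y} : Set X)).map (QuotientGroup.mk' (ker Z hZ))) := by
  intro hn
  have sq : ∀ {x : X} {c : W}, Tr Z x c → x * x ∈ ker Z hZ := by
    intro x c h v
    have h1 := Tr.mul_sub hZ h (Tr.fix hZ hW h) v
    have h2 : (x • v - v) + (x • v - v) = 0 := hW _
    rw [h2, sub_zero] at h1
    exact h1
  have hcomm : (x * y)⁻¹ * (y * x) ∈ ker Z hZ := by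
    intro v
    have h1 := Tr.mul_sub hZ hy hxd v
    have h2 := Tr.mul_sub hZ hx hyc v
    have h3 : (y * x) • v - (x * y) • v ∈ Z := by
      have : (y * x) • v - (x * y) • v = ((y * x) • v - v - ((y • v - v) + (x • v - v)))
          - ((x * y) • v - v - ((x • v - v) + (y • v - v))) := by abel
      rw [this]
      exact Z.sub_mem h2 h1
    have h4 : ((x * y)⁻¹ * (y * x)) • v - v = (x * y)⁻¹ • ((y * x) • v - (x * y) • v) := by
      rw [smul_sub, inv_smul_smul, ← mul_smul]
    rw [h4]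
    exact hZ _ _ h3
  have h1 : (closure ({x, y} : Set X)).map (QuotientGroup.mk' (ker Z hZ))
      = closure ({QuotientGroup.mk' (ker Z hZ) x, QuotientGroup.mk' (ker Z hZ) y} : Set (X ⧸ ker Z hZ)) := by
    rw [MonoidHom.map_closure, Set.image_pair]
  rw [h1]
  have ha : (QuotientGroup.mk' (ker Z hZ) x) * (QuotientGroup.mk' (ker Z hZ) x) = 1 := by
    rw [← map_mul]
    exact (QuotientGroup.eq_one_iff _).2 (sq hx)
  have hb : (QuotientGroup.mk' (ker Z hZ) y) * (QuotientGroup.mk' (ker Z hZ) y) = 1 := by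
    rw [← map_mul]
    exact (QuotientGroup.eq_one_iff _).2 (sq hy)
  have hab : (QuotientGroup.mk' (ker Z hZ) x) * (QuotientGroup.mk' (ker Z hZ) y)
      = (QuotientGroup.mk' (ker Z hZ) y) * (QuotientGroup.mk' (ker Z hZ) x) := by
    rw [← map_mul, ← map_mul]
    exact QuotientGroup.eq.2 hcomm
  have key := sq_of_mem_closure ha hb hab
  rintro ⟨w, hw⟩
  refine ⟨1, ?_⟩
  apply Subtype.ext
  show w ^ (2 ^ 1) = 1
  rw [pow_one, pow_two]
  exact key w hw

/-- **Common centre.** -/
theorem center_invariant [Finite X] (hW : ∀ w : W, w + w = 0) (Z : AddSubgroup W)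
    (hZ : ∀ (x : X), ∀ z ∈ Z, x • z ∈ Z) (P : Sylow 2 X) (c : W)
    (h1 : ∀ s ∈ P, ∀ c', Tr Z s c' → (∃ v, s • v - v ∉ Z) → c' - c ∈ Z)
    (h2 : ∀ w, ∃ θ ∈ P, Tr Z θ c ∧ (∃ v, θ • v - v ∉ Z) ∧ θ • w - w ∈ Z) (x : X) :
    x • c - c ∈ Z := by
  obtain ⟨θ, hθP, hθ, ⟨v, hv⟩, hθw⟩ := h2 (x • c)
  obtain ⟨θ₁, hθP₁, hθ₁, ⟨v₁, hv₁⟩, hθw₁⟩ := h2 (x⁻¹ • c)
  have hy : Tr Z (x * θ₁ * x⁻¹) (x • c) := hθ₁.conj hZ x
  have hyc : (x * θ₁ * x⁻¹) • c - c ∈ Z := by
    have h3 : (x * θ₁ * x⁻¹) • c - c = x • (θ₁ • (x⁻¹ • c) - x⁻¹ • c) := by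
      rw [smul_sub, smul_inv_smul, mul_smul, mul_smul]
    rw [h3]; exact hZ x _ hθw₁
  have hn := ker_normal Z hZ
  obtain ⟨m, hm⟩ := exists_mod P (ker Z hZ) _ (isPGroup_of_tr hZ hW hθ hy hθw hyc)
  have key : ∀ y : X, ∀ d : W, y ∈ closure ({θ, x * θ₁ * x⁻¹} : Set X) → Tr Z y d →
      (∃ v, y • v - v ∉ Z) → m • d - c ∈ Z := by
    intro y d hy hyd ⟨u, hu⟩
    obtain ⟨s, hs, hsK⟩ := hm y hy
    apply h1 s hs (m • d) ((hyd.conj hZ m).congr hZ hsK)
    refine ⟨m • u, fun h4 => hu ?_⟩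
    have h5 := congr_ker hZ hsK (m • u)
    have h6 : (m * y * m⁻¹) • (m • u) - m • u = m • (y • u - u) := by
      rw [smul_sub, mul_smul, mul_smul, inv_smul_smul]
    have h7 : m • (y • u - u) ∈ Z := by
      rw [← h6]
      have : (m * y * m⁻¹) • (m • u) - m • u = (s • (m • u) - m • u)
        - (s • (m • u) - (m * y * m⁻¹) • (m • u)) := by abel
      rw [this]
      exact Z.sub_mem h4 h5
    have h8 := hZ m⁻¹ _ h7
    rwa [inv_smul_smul] at h8
  have hA := key θ c (subset_closure (by simp)) hθ ⟨v, hv⟩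
  have hB := key (x * θ₁ * x⁻¹) (x • c) (subset_closure (by simp)) hy ⟨x • v₁, by
    intro h
    apply hv₁
    have h3 : (x * θ₁ * x⁻¹) • (x • v₁) - x • v₁ = x • (θ₁ • v₁ - v₁) := by
      rw [smul_sub, mul_smul, mul_smul, inv_smul_smul]
    rw [h3] at h
    have h4 := hZ x⁻¹ _ h
    rwa [inv_smul_smul] at h4⟩
  have hC : m • (x • c - c) ∈ Z := by
    have : m • (x • c - c) = (m • (x • c) - c) - (m • c - c) := by
      rw [smul_sub]; abel
    rw [this]
    exact Z.sub_mem hB hA
  have hD := hZ m⁻¹ _ hC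
  rwa [inv_smul_smul] at hD

/-- **Common axis.** -/
theorem axis_invariant [Finite X] (hW : ∀ w : W, w + w = 0) (Z : AddSubgroup W)
    (hZ : ∀ (x : X), ∀ z ∈ Z, x • z ∈ Z) (P : Sylow 2 X) (H : Set W)
    (h1 : ∀ s ∈ P, ∀ c', Tr Z s c' → (∃ v, s • v - v ∉ Z) → ∀ v, s • v - v ∈ Z ↔ v ∈ H)
    (h2 : ∀ x : X, ∃ θ ∈ P, ∃ c, Tr Z θ c ∧ (∃ v, θ • v - v ∉ Z) ∧ x • c ∈ H) (x : X) :
    ∀ v, v ∈ H ↔ x • v ∈ H := by
  obtain ⟨θ, hθP, c, hθ, ⟨v, hv⟩, hθw⟩ := h2 x⁻¹
  obtain ⟨θ₁, hθP₁, c₁, hθ₁, ⟨v₁, hv₁⟩, hθw₁⟩ := h2 x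
  have hθH := h1 θ hθP c hθ ⟨v, hv⟩
  have hθ₁H := h1 θ₁ hθP₁ c₁ hθ₁ ⟨v₁, hv₁⟩
  have hy : Tr Z (x * θ₁ * x⁻¹) (x • c₁) := hθ₁.conj hZ x
  have hyc : (x * θ₁ * x⁻¹) • c - c ∈ Z := by
    have h3 : (x * θ₁ * x⁻¹) • c - c = x • (θ₁ • (x⁻¹ • c) - x⁻¹ • c) := by
      rw [smul_sub, smul_inv_smul, mul_smul, mul_smul]
    rw [h3]; exact hZ x _ ((hθ₁H _).2 hθw)
  have hxd : θ • (x • c₁) - x • c₁ ∈ Z := (hθH _).2 hθw₁
  have hn := ker_normal Z hZ
  obtain ⟨m, hm⟩ := exists_mod P (ker Z hZ) _ (isPGroup_of_tr hZ hW hθ hy hxd hyc)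
  -- the axis of a transvection `y` in the closure is mapped by `m` to `H`
  have key : ∀ y : X, ∀ d : W, y ∈ closure ({θ, x * θ₁ * x⁻¹} : Set X) → Tr Z y d →
      (∃ v, y • v - v ∉ Z) → ∀ u, y • u - u ∈ Z ↔ m • u ∈ H := by
    intro y d hy hyd ⟨w, hw⟩ u
    obtain ⟨s, hs, hsK⟩ := hm y hy
    have h5 : ∀ u, s • (m • u) - m • u ∈ Z ↔ y • u - u ∈ Z := by
      intro u
      have h5 := congr_ker hZ hsK (m • u)
      have h6 : (m * y * m⁻¹) • (m • u) - m • u = m • (y • u - u) := by
        rw [smul_sub, mul_smul, mul_smul, inv_smul_smul]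
      constructor
      · intro h4
        have h7 : m • (y • u - u) ∈ Z := by
          rw [← h6]
          have : (m * y * m⁻¹) • (m • u) - m • u = (s • (m • u) - m • u)
            - (s • (m • u) - (m * y * m⁻¹) • (m • u)) := by abel
          rw [this]
          exact Z.sub_mem h4 h5
        have h8 := hZ m⁻¹ _ h7
        rwa [inv_smul_smul] at h8
      · intro h4
        have h7 := hZ m _ h4
        rw [← h6] at h7
        have : s • (m • u) - m • u = (s • (m • u) - (m * y * m⁻¹) • (m • u))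
          + ((m * y * m⁻¹) • (m • u) - m • u) := by abel
        rw [this]
        exact Z.add_mem h5 h7
    rw [← h5 u]
    exact h1 s hs (m • d) ((hyd.conj hZ m).congr hZ hsK) ⟨m • w, fun h => hw ((h5 w).1 h)⟩ _
  have hA := key θ c (subset_closure (by simp)) hθ ⟨v, hv⟩
  have hB := key (x * θ₁ * x⁻¹) (x • c₁) (subset_closure (by simp)) hy ⟨x • v₁, by
    intro h
    apply hv₁
    have h3 : (x * θ₁ * x⁻¹) • (x • v₁) - x • v₁ = x • (θ₁ • v₁ - v₁) := by
      rw [smul_sub, mul_smul, mul_smul, inv_smul_smul]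
    rw [h3] at h
    have h4 := hZ x⁻¹ _ h
    rwa [inv_smul_smul] at h4⟩
  intro u
  -- `u ∈ H ↔ θ₁ • u - u ∈ Z ↔ (x θ₁ x⁻¹)(x u) - x u ∈ Z ↔ m x u ∈ H ↔ θ (x u) - x u ∈ Z ↔ x u ∈ H`
  have h3 : (x * θ₁ * x⁻¹) • (x • u) - x • u ∈ Z ↔ θ₁ • u - u ∈ Z := by
    have h4 : (x * θ₁ * x⁻¹) • (x • u) - x • u = x • (θ₁ • u - u) := by
      rw [smul_sub, mul_smul, mul_smul, inv_smul_smul]
    rw [h4]
    constructor
    · intro h
      have h5 := hZ x⁻¹ _ h
      rwa [inv_smul_smul] at h5
    · intro h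
      exact hZ x _ h
  rw [← hθ₁H u, ← h3, hB (x • u), ← hA (x • u), hθH]

end

end Cfsg.Agent.SylowL5.Transv
end

-- part: SylowL5/Tools
section
/-!
# Tools: generators of coordinate subgroups, transvection lemmas for subgroups of `G`
-/

set_option autoImplicit false

namespace Cfsg.Agent.SylowL5.Tools

open Subgroup
open Cfsg.Agent.SignalizersComponents.RelSylow
open Cfsg.Agent.SylowL5.Setup Cfsg.Agent.SylowL5.Calc Cfsg.Agent.SylowL5.Weak
  Cfsg.Agent.SylowL5.Elem

/-- the coordinate subgroup `K` is generated by its root elements -/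
def genK (K : ℕ) : Bool :=
  allb 1024 fun a => !(sb a K) || Nat.beq a 0 || anyb 10 fun k => tb K k &&
    force (Nat.pow 2 k) fun g => force (mu a g) fun b => Nat.blt b a && sb b K && Nat.beq (mu b g) a

section

variable {G : Type*} [Group G] {S : Subgroup G} {u : ℕ → G}

theorem two_pow_lt {k : ℕ} (hk : k < 10) : 2 ^ k < 1024 := by
  calc 2 ^ k < 2 ^ 10 := Nat.pow_lt_pow_right (by norm_num) hk
    _ = 1024 := by norm_num

theorem sb_pow {K k : ℕ} (hk : tb K k = true) : sb (2 ^ k) K = true := by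
  rw [sb_iff]
  intro j hj
  rw [Nat.testBit_two_pow] at hj
  simp only [decide_eq_true_eq] at hj
  subst hj
  unfold tb at hk
  rw [Nat.beq_eq] at hk
  have h3 := testBit_bt K k 0
  rw [hk] at h3
  simpa using h3.symm

theorem le_of_gens (h : Emb S u) {K : ℕ} (hK : closedK K = true) (hg : genK K = true)
    {V : Subgroup G} (hV : ∀ k, k < 10 → tb K k = true → u (2 ^ k) ∈ V) : CS u K ≤ V := by
  have key : ∀ a, a < 1024 → sb a K = true → u a ∈ V := by
    intro a
    induction a using Nat.strong_induction_on with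
    | _ a ih =>
      intro ha haK
      have h1 := of_allb hg a ha
      simp only [haK, Bool.not_true, Bool.false_or, Bool.or_eq_true, Nat.beq_eq] at h1
      rcases h1 with h1 | h1
      · rw [h1, h.zero]; exact V.one_mem
      · obtain ⟨k, hk, h2⟩ := of_anyb h1
        simp only [force_eq, Bool.and_eq_true, Nat.blt_eq, Nat.beq_eq] at h2
        obtain ⟨h2, ⟨h3, h4⟩, h5⟩ := h2
        have h6 := ih _ h3 (by omega) h4
        have h7 : u (mu (mu a (Nat.pow 2 k)) (Nat.pow 2 k)) = u (mu a (Nat.pow 2 k)) * u (2 ^ k) :=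
          h.mul (mu_lt ha (two_pow_lt hk)) (two_pow_lt hk)
        rw [← h5, h7]
        exact V.mul_mem h6 (hV k hk h2)
  intro g hgK
  obtain ⟨a, ha, haK, rfl⟩ := (h.mem_CS hK).1 hgK
  exact key a ha (sb_iff.2 haK)

theorem closed_1023 : closedK 1023 = true := by decide

theorem S_eq (h : Emb S u) : S = CS u 1023 := by
  apply le_antisymm
  · intro g hg
    obtain ⟨a, ha, rfl⟩ := h.surj g hg
    rw [u_mem_CS h closed_1023 ha]
    exact of_allb (P := fun a => sb a 1023) (N := 1024) (by decide +kernel) a ha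
  · exact h.CS_le _

/-- `x` conjugates the coordinate subgroup `K` into `V` -/
theorem conj_of_gens (h : Emb S u) {K : ℕ} (hK : closedK K = true) (hg : genK K = true)
    {V : Subgroup G} {x : G} (hV : ∀ k, k < 10 → tb K k = true → x * u (2 ^ k) * x⁻¹ ∈ V) :
    ∀ y ∈ CS u K, x * y * x⁻¹ ∈ V := by
  have h1 : CS u K ≤ V.comap (MulAut.conj x).toMonoidHom := le_of_gens h hK hg hV
  exact fun y hy => h1 hy

theorem mem_normalizer_of_gens [Finite G] (h : Emb S u) {K : ℕ} (hK : closedK K = true)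
    (hg : genK K = true) {x : G}
    (hV : ∀ k, k < 10 → tb K k = true → x * u (2 ^ k) * x⁻¹ ∈ CS u K) :
    x ∈ normalizer (CS u K : Set G) := by
  rw [← cj_eq_iff]
  exact cj_eq_of_le (cj_le_iff.2 (conj_of_gens h hK hg hV)) le_rfl

/-- the root elements of `R` normalise `K` -/
def normc (R K : ℕ) : Bool := allb 10 fun j => !(tb R j) || allb 10 fun k => !(tb K k) ||
  sb (cc (Nat.pow 2 j) (Nat.pow 2 k)) K

theorem normalizes_of [Finite G] (h : Emb S u) {R K : ℕ} (hR : closedK R = true)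
    (hgR : genK R = true) (hK : closedK K = true) (hgK : genK K = true) (hn : normc R K = true) :
    CS u R ≤ normalizer (CS u K : Set G) := by
  apply le_of_gens h hR hgR
  intro j hj hjR
  apply mem_normalizer_of_gens h hK hgK
  intro k hk hkK
  have h1 := of_allb hn j hj
  simp only [hjR, Bool.not_true, Bool.false_or] at h1
  have h2 := of_allb h1 k hk
  simp only [hkK, Bool.not_true, Bool.false_or] at h2
  have h3 := (u_mem_CS h hK (cc_lt (two_pow_lt hj) (two_pow_lt hk))).2 h2
  rwa [cc_u h (two_pow_lt hj) (two_pow_lt hk)] at h3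

theorem S_normalizes [Finite G] (h : Emb S u) {K : ℕ}
    (hK : closedK K = true) (hgK : genK K = true) (hn : normc 1023 K = true) :
    S ≤ normalizer (CS u K : Set G) := by
  calc S = CS u 1023 := S_eq h
    _ ≤ _ := normalizes_of h closed_1023 (by decide +kernel) hK hgK hn

/-- commutators with `x` -/
theorem comm_of_gens (h : Emb S u) {K : ℕ} (hK : closedK K = true) (hg : genK K = true)
    {V : Subgroup G} (hVn : CS u K ≤ normalizer (V : Set G)) {x : G}
    (hV : ∀ k, k < 10 → tb K k = true → x * u (2 ^ k) * x⁻¹ * (u (2 ^ k))⁻¹ ∈ V) :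
    ∀ y ∈ CS u K, x * y * x⁻¹ * y⁻¹ ∈ V := by
  let W : Subgroup G :=
    { carrier := {y | y ∈ normalizer (V : Set G) ∧ x * y * x⁻¹ * y⁻¹ ∈ V}
      one_mem' := ⟨one_mem _, by simp⟩
      mul_mem' := by
        rintro a b ⟨ha, ha'⟩ ⟨hb, hb'⟩
        refine ⟨mul_mem ha hb, ?_⟩
        have h1 : x * (a * b) * x⁻¹ * (a * b)⁻¹ = x * a * x⁻¹ * a⁻¹ * (a * (x * b * x⁻¹ * b⁻¹) * a⁻¹) := by
          group
        rw [h1]
        exact V.mul_mem ha' ((Subgroup.mem_normalizer_iff.1 ha _).1 hb')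
      inv_mem' := by
        rintro a ⟨ha, ha'⟩
        refine ⟨inv_mem ha, ?_⟩
        have h1 : x * a⁻¹ * x⁻¹ * a⁻¹⁻¹ = a⁻¹ * (x * a * x⁻¹ * a⁻¹)⁻¹ * a⁻¹⁻¹ := by group
        rw [h1]
        exact (Subgroup.mem_normalizer_iff.1 (inv_mem ha) _).1 (V.inv_mem ha') }
  have h1 : CS u K ≤ W := by
    apply le_of_gens h hK hg
    intro k hk hkK
    refine ⟨hVn ?_, hV k hk hkK⟩
    rw [u_mem_CS h hK (two_pow_lt hk)]
    exact sb_pow hkK
  exact fun y hy => (h1 hy).2

end

end Cfsg.Agent.SylowL5.Tools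
end

-- part: SylowL5/TransvG
section
/-!
# The transvection lemmas for subgroups of `G` acting by conjugation
-/

set_option autoImplicit false

namespace Cfsg.Agent.SylowL5.TransvG

open Subgroup
open Cfsg.Agent.SignalizersComponents.RelSylow
open Cfsg.Agent.SylowL5.Transv

variable {G : Type*} [Group G]

/-- the abelian subgroup `V` as a commutative group -/
abbrev commGroup (V : Subgroup G) (hc : ∀ x ∈ V, ∀ y ∈ V, x * y = y * x) : CommGroup V :=
  { (inferInstance : Group V) with mul_comm := fun a b => Subtype.ext (hc a a.2 b b.2) }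

/-- conjugation action on the additive version of `V` -/
abbrev conjAct (N V : Subgroup G) (hc : ∀ x ∈ V, ∀ y ∈ V, x * y = y * x)
    (hN : ∀ n ∈ N, ∀ v ∈ V, n * v * n⁻¹ ∈ V) :
    letI := commGroup V hc
    DistribMulAction N (Additive V) :=
  letI := commGroup V hc
  { smul := fun n w => Additive.ofMul ⟨n * (Additive.toMul w : V) * (n : G)⁻¹,
      hN n n.2 _ (Additive.toMul w).2⟩
    one_smul := fun w => by
      apply Subtype.ext
      show ((1 : N) : G) * (Additive.toMul w : V) * ((1 : N) : G)⁻¹ = (Additive.toMul w : V)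
      simp
    mul_smul := fun a b w => by
      apply Subtype.ext
      show ((a * b : N) : G) * (Additive.toMul w : V) * ((a * b : N) : G)⁻¹
        = a * (b * (Additive.toMul w : V) * (b : G)⁻¹) * (a : G)⁻¹
      rw [Subgroup.coe_mul]; group
    smul_zero := fun a => by
      apply Subtype.ext
      show (a : G) * ((1 : V) : G) * (a : G)⁻¹ = 1
      simp
    smul_add := fun a v w => by
      apply Subtype.ext
      show (a : G) * (((Additive.toMul v : V) : G) * ((Additive.toMul w : V) : G)) * (a : G)⁻¹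
        = (a * (Additive.toMul v : V) * (a : G)⁻¹) * (a * (Additive.toMul w : V) * (a : G)⁻¹)
      group }

section
variable {N V Z P : Subgroup G}

/-- `x` acts on `V / Z` as a transvection with centre `c` -/
def TrG (V Z : Subgroup G) (x c : G) : Prop :=
  ∀ v ∈ V, x * v * x⁻¹ * v⁻¹ ∈ Z ∨ x * v * x⁻¹ * v⁻¹ * c⁻¹ ∈ Z

theorem center_inv [Finite G] (hP : IsMaxP 2 N P) (h2 : ∀ v ∈ V, v * v = 1)
    (hc : ∀ x ∈ V, ∀ y ∈ V, x * y = y * x)
    (hN : ∀ n ∈ N, ∀ v ∈ V, n * v * n⁻¹ ∈ V) (hZ : ∀ n ∈ N, ∀ v ∈ Z, n * v * n⁻¹ ∈ Z)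
    {c : G} (hcV : c ∈ V)
    (H1 : ∀ s ∈ P, ∀ c' ∈ V, TrG V Z s c' → (∃ v ∈ V, s * v * s⁻¹ * v⁻¹ ∉ Z) → c' * c⁻¹ ∈ Z)
    (H2 : ∀ w ∈ V, ∃ θ ∈ P, TrG V Z θ c ∧ (∃ v ∈ V, θ * v * θ⁻¹ * v⁻¹ ∉ Z) ∧
      θ * w * θ⁻¹ * w⁻¹ ∈ Z) {x : G} (hx : x ∈ N) : x * c * x⁻¹ * c⁻¹ ∈ Z := by
  let _ := commGroup V hc
  let _ := conjAct N V hc hN
  let Z' : AddSubgroup (Additive V) := (Z.subgroupOf V).toAddSubgroup
  have hW : ∀ w : Additive V, w + w = 0 := fun w => Subtype.ext (h2 _ (Additive.toMul w).2)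
  have hs1 : ∀ v w : Additive V, v - w ∈ Z' ↔
      ((Additive.toMul v : V) : G) * ((Additive.toMul w : V) : G)⁻¹ ∈ Z := by
    intro v w
    show ((Additive.toMul v : V) : G) / ((Additive.toMul w : V) : G) ∈ Z ↔ _
    rw [div_eq_mul_inv]
  have hs2 : ∀ u v w : Additive V, u - v - w ∈ Z' ↔
      ((Additive.toMul u : V) : G) * ((Additive.toMul v : V) : G)⁻¹ *
        ((Additive.toMul w : V) : G)⁻¹ ∈ Z := by
    intro u v w
    show (((Additive.toMul u : V) : G) / ((Additive.toMul v : V) : G)) /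
      ((Additive.toMul w : V) : G) ∈ Z ↔ _
    rw [div_eq_mul_inv, div_eq_mul_inv]
  have hP' : ∀ s : N, s ∈ hP.toSylow ↔ (s : G) ∈ P := by
    intro s
    show s ∈ (hP.toSylow : Subgroup N) ↔ _
    rw [hP.coe_toSylow]; rfl
  have key := center_invariant (X := N) (W := Additive V) hW Z'
    (fun x z hz => hZ x x.2 _ hz) hP.toSylow (Additive.ofMul ⟨c, hcV⟩) (by
      intro s hs c' hTr hv
      obtain ⟨v, hv⟩ := hv
      have h3 := H1 s ((hP' s).1 hs) (Additive.toMul c' : V) (Additive.toMul c').2 (by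
        intro v hv
        rcases hTr (Additive.ofMul ⟨v, hv⟩) with h4 | h4
        · left; exact (hs1 _ _).1 h4
        · right; exact (hs2 _ _ _).1 h4)
        ⟨(Additive.toMul v : V), (Additive.toMul v).2, fun h => hv ((hs1 _ _).2 h)⟩
      exact (hs1 _ _).2 h3) (by
      intro w
      obtain ⟨θ, hθ, hT, ⟨v, hvV, hv⟩, hw⟩ := H2 (Additive.toMul w : V) (Additive.toMul w).2
      refine ⟨⟨θ, hP.2.1 hθ⟩, (hP' _).2 hθ, ?_,
        ⟨Additive.ofMul ⟨v, hvV⟩, fun h => hv ((hs1 _ _).1 h)⟩, (hs1 _ _).2 hw⟩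
      intro v
      rcases hT (Additive.toMul v : V) (Additive.toMul v).2 with h4 | h4
      · left; exact (hs1 _ _).2 h4
      · right; exact (hs2 _ _ _).2 h4) ⟨x, hx⟩
  exact (hs1 _ _).1 key

end

end Cfsg.Agent.SylowL5.TransvG
end

-- part: SylowL5/WC
section
/-!
# Weak closure of `A1`, `A2` and `Q`
-/

set_option autoImplicit false

namespace Cfsg.Agent.SylowL5.WC

open Subgroup
open Cfsg.Agent.SignalizersComponents.RelSylow
open Cfsg.Agent.SylowL5.Setup Cfsg.Agent.SylowL5.Calc Cfsg.Agent.SylowL5.Weak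
  Cfsg.Agent.SylowL5.Elem Cfsg.Agent.SylowL5.Tools

variable {G : Type*} [Group G]

/-- a 2-element normalising a maximal 2-subgroup lies in it -/
theorem mem_of_norm [Finite G] {M R : Subgroup G} (hR : IsMaxP 2 M R) {x : G} (hx : x ∈ M)
    (hxR : cj x R = R) {k : ℕ} (hk : x ^ (2 ^ k) = 1) : x ∈ R := by
  have f2 : Fact (Nat.Prime 2) := ⟨Nat.prime_two⟩
  have h1 : IsPGroup 2 (zpowers x) := by
    intro y
    obtain ⟨n, hn⟩ := Subgroup.mem_zpowers_iff.1 y.2
    refine ⟨k, Subtype.ext ?_⟩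
    show (y : G) ^ (2 ^ k) = 1
    rw [← hn, ← zpow_natCast, ← zpow_mul, mul_comm, zpow_mul, zpow_natCast, hk, one_zpow]
  have h2 : zpowers x ≤ normalizer (R : Set G) := by
    rw [zpowers_le]
    exact cj_eq_iff.1 hxR
  have h3 : IsPGroup 2 (zpowers x ⊔ R : Subgroup G) := h1.to_sup_of_normal_right' hR.1 h2
  exact hR.2.2 _ h3 (sup_le (by rwa [zpowers_le]) hR.2.1) le_sup_right
    (mem_sup_left (mem_zpowers x))

/-- odd-order elements: if `x ^ 2` normalises `A` and `x` has odd order then `x` normalises `A`;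
more generally for any subgroup. -/
theorem mem_of_sq_mem {H : Subgroup G} {x : G} (hx : Odd (orderOf x)) (h2 : x ^ 2 ∈ H) :
    x ∈ H := by
  obtain ⟨m, hm⟩ := hx
  have h3 : x = (x ^ 2) ^ (m + 1) := by
    rw [← pow_mul]
    have : 2 * (m + 1) = orderOf x + 1 := by omega
    rw [this, pow_succ, pow_orderOf_eq_one, one_mul]
  rw [h3]
  exact H.pow_mem h2 _

/-- the odd part of an element: some power with odd order; the complementary power is a
`2`-element -/
theorem exists_odd_pow [Finite G] (x : G) : ∃ m k : ℕ, Odd m ∧ (x ^ m) ^ (2 ^ k) = 1 := by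
  have h0 : orderOf x ≠ 0 := (orderOf_pos x).ne'
  obtain ⟨k, m, hm, hk⟩ := Nat.exists_eq_two_pow_mul_odd h0
  refine ⟨m, k, hm, ?_⟩
  rw [← pow_mul, mul_comm, ← hk, pow_orderOf_eq_one]

section
variable {S : Sylow 2 G} {u : ℕ → G}

theorem sqA1 {S : Subgroup G} (h : Emb S u) : ∀ x ∈ CS u kA1, x * x = 1 := by
  intro x hx
  obtain ⟨a, ha, haK, rfl⟩ := (h.mem_CS closed_kA1).1 hx
  have h1 := of_allb (P := fun a => !(sb a kA1) || Nat.beq (mu a a) 0) (N := 1024)
    (by decide +kernel) a ha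
  rw [sb_iff.2 haK] at h1
  simp only [Bool.not_true, Bool.false_or, Nat.beq_eq] at h1
  rw [← h.mul ha ha, h1, h.zero]

theorem commA1 {S : Subgroup G} (h : Emb S u) : ∀ x ∈ CS u kA1, ∀ y ∈ CS u kA1, x * y = y * x :=
  comm_of_sq (sqA1 h)

theorem S_norm_A1 {S : Subgroup G} [Finite G] (h : Emb S u) :
    S ≤ normalizer (CS u kA1 : Set G) :=
  S_normalizes h closed_kA1 (by decide +kernel) (by decide +kernel)

theorem S_norm_A2 {S : Subgroup G} [Finite G] (h : Emb S u) :
    S ≤ normalizer (CS u kA2 : Set G) :=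
  S_normalizes h closed_kA2 (by decide +kernel) (by decide +kernel)

theorem S_norm_Q {S : Subgroup G} [Finite G] (h : Emb S u) :
    S ≤ normalizer (CS u kQ : Set G) :=
  S_normalizes h closed_kQ (by decide +kernel) (by decide +kernel)

theorem sq_cj {A : Subgroup G} (hA : ∀ x ∈ A, x * x = 1) (g : G) : ∀ x ∈ cj g A, x * x = 1 := by
  rintro _ ⟨x, hx, rfl⟩
  show g * x * g⁻¹ * (g * x * g⁻¹) = 1
  have : g * x * g⁻¹ * (g * x * g⁻¹) = g * (x * x) * g⁻¹ := by group
  rw [this, hA x hx]; group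

theorem A1_ne_A2 {S : Subgroup G} (h : Emb S u) : CS u kA1 ≠ CS u kA2 := by
  intro h1
  have h2 : u 2 ∈ CS u kA1 := (u_mem_CS h closed_kA1 (by norm_num)).2 (by decide)
  rw [h1, u_mem_CS h closed_kA2 (by norm_num)] at h2
  exact absurd h2 (by decide)

variable [Finite G]

/-- no element fuses `A1` to `A2` -/
theorem cj_A1_ne (h : Emb (S : Subgroup G) u) (g : G) : cj g (CS u kA1) ≠ CS u kA2 := by
  have f2 : Fact (Nat.Prime 2) := ⟨Nat.prime_two⟩
  intro hg
  -- two Sylow subgroups of the normalizer of `A1`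
  have hS1 : IsMaxP 2 (normalizer (CS u kA1 : Set G)) (S : Subgroup G) :=
    isMaxP_of_le S (S_norm_A1 h)
  have hS2 : cj g⁻¹ (S : Subgroup G) ≤ normalizer (CS u kA1 : Set G) := by
    rw [cj_le_iff]
    intro s hs
    rw [← cj_eq_iff, cj_mul, cj_mul, inv_inv, hg, cj_eq_iff.2 (S_norm_A2 h hs), ← hg, cj_inv_cj]
  obtain ⟨c, hc, hcR⟩ := hS1.exists_conj_le (isPGroup_cj (g := g⁻¹) hS1.1) hS2
  have hy : cj (c * g⁻¹) (S : Subgroup G) = S := by
    rw [cj_mul]
    exact cj_eq_of_le hcR (by rw [card_cj])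
  set y := c * g⁻¹ with hydef
  have hy2 : cj y (CS u kA2) = CS u kA1 := by
    rw [hydef, cj_mul, ← hg, cj_inv_cj, cj_eq_iff.2 hc]
  have hy1 : cj y (CS u kA1) = CS u kA2 := by
    rcases eq_of_card_64 h (cj y (CS u kA1)) (by
        calc cj y (CS u kA1) ≤ cj y (S : Subgroup G) := cj_mono (h.CS_le _)
          _ = S := hy) (sq_cj (sqA1 h) y) ((card_cj _ _).trans (card_A1 h)) with h3 | h3
    · exact absurd (cj_inj (h3.trans hy2.symm)) (A1_ne_A2 h)
    · exact h3
  -- odd powers swap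
  have key : ∀ m : ℕ, cj (y ^ (2 * m)) (CS u kA1) = CS u kA1 ∧
      cj (y ^ (2 * m + 1)) (CS u kA1) = CS u kA2 := by
    intro m
    induction m with
    | zero =>
      refine ⟨by rw [mul_zero, pow_zero, cj_one], by rw [mul_zero, zero_add, pow_one, hy1]⟩
    | succ m ih =>
      have h3 : cj (y ^ (2 * (m + 1))) (CS u kA1) = CS u kA1 := by
        have : 2 * (m + 1) = (2 * m + 1) + 1 := by ring
        rw [this, pow_succ', cj_mul, ih.2, hy2]
      refine ⟨h3, ?_⟩
      rw [pow_succ', cj_mul, h3, hy1]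
  obtain ⟨m, k, ⟨j, hj⟩, hk⟩ := exists_odd_pow y
  have hyS : ∀ n : ℕ, cj (y ^ n) (S : Subgroup G) = S := by
    intro n
    induction n with
    | zero => rw [pow_zero, cj_one]
    | succ n ih => rw [pow_succ', cj_mul, ih, hy]
  have h5 : y ^ m ∈ (S : Subgroup G) := mem_of_norm (isMaxP_sylow S) (mem_top _) (hyS m) hk
  have h6 := cj_eq_iff.2 (S_norm_A1 h h5)
  rw [hj, (key j).2] at h6
  exact A1_ne_A2 h h6.symm

theorem wA1 (h : Emb (S : Subgroup G) u) : WeakCl ⊤ (CS u kA1) (S : Subgroup G) := by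
  refine ⟨h.CS_le _, fun g _ hg => ?_⟩
  rcases eq_of_card_64 h (cj g (CS u kA1)) hg (sq_cj (sqA1 h) g)
    ((card_cj _ _).trans (card_A1 h)) with h3 | h3
  · exact h3
  · exact absurd h3 (cj_A1_ne h g)

theorem wA2 (h : Emb (S : Subgroup G) u) : WeakCl ⊤ (CS u kA2) (S : Subgroup G) := by
  rw [← CS_du_A1 h]
  exact wA1 (emb_du h)

omit [Finite G] in
theorem Z_central (h : Emb (S : Subgroup G) u) {g : G} (hg : g * u 512 = u 512 * g) :
    ∀ x ∈ CS u 512, g * x * g⁻¹ = x := by
  intro x hx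
  obtain ⟨a, ha, haK, rfl⟩ := (h.mem_CS (by decide)).1 hx
  have h1 := of_allb (P := fun a => !(sb a 512) || Nat.beq a 0 || Nat.beq a 512) (N := 1024)
    (by decide +kernel) a ha
  rw [sb_iff.2 haK] at h1
  simp only [Bool.not_true, Bool.false_or, Bool.or_eq_true, Nat.beq_eq] at h1
  rcases h1 with rfl | rfl
  · rw [h.zero]; group
  · rw [hg]; group

theorem wQ (h : Emb (S : Subgroup G) u) :
    WeakCl (centralizer {u 512}) (CS u kQ) (S : Subgroup G) := by
  have hZsq : ∀ x ∈ CS u kQ, x * x ∈ CS u 512 := by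
    intro x hx
    obtain ⟨a, ha, haK, rfl⟩ := (h.mem_CS closed_kQ).1 hx
    have h1 := of_allb (P := fun a => !(sb a kQ) || sb (mu a a) 512) (N := 1024)
      (by decide +kernel) a ha
    rw [sb_iff.2 haK] at h1
    rw [← h.mul ha ha, u_mem_CS h (by decide) (mu_lt ha ha)]
    simpa using h1
  have hgZ : CS u kQ ≤ normalizer (CS u 512 : Set G) :=
    (h.CS_le _).trans (S_normalizes h (by decide) (by decide +kernel) (by decide +kernel))
  have hcomm : ∀ x ∈ CS u kQ, ∀ y ∈ CS u kQ, x * y * x⁻¹ * y⁻¹ ∈ CS u 512 := by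
    intro x hx
    apply comm_of_gens h closed_kQ (by decide +kernel) hgZ
    intro k hk hkQ
    have h1 : (u (2 ^ k)) * x * (u (2 ^ k))⁻¹ * x⁻¹ ∈ CS u 512 := by
      revert x
      apply comm_of_gens h closed_kQ (by decide +kernel) hgZ
      intro j hj hjQ
      have h2 := of_allb (P := fun k => !(tb kQ k) || allb 10 fun j => !(tb kQ j) ||
        sb (cm (Nat.pow 2 k) (Nat.pow 2 j)) 512) (N := 10) (by decide +kernel) k hk
      simp only [hkQ, Bool.not_true, Bool.false_or] at h2
      have h3 := of_allb h2 j hj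
      simp only [hjQ, Bool.not_true, Bool.false_or] at h3
      have h4 := (u_mem_CS h (K := 512) (by decide) (cm_lt (two_pow_lt hk) (two_pow_lt hj))).2 h3
      rwa [cm_u h (two_pow_lt hk) (two_pow_lt hj)] at h4
    have h2 : x * u (2 ^ k) * x⁻¹ * (u (2 ^ k))⁻¹ = (u (2 ^ k) * x * (u (2 ^ k))⁻¹ * x⁻¹)⁻¹ := by
      group
    rw [h2]
    exact inv_mem h1
  refine ⟨h.CS_le _, fun g hg hgS => ?_⟩
  have hgz := Z_central h (mem_centralizer_singleton_iff.1 hg)
  apply eq_Q h _ hgS
  · rintro _ ⟨x, hx, rfl⟩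
    show g * x * g⁻¹ * (g * x * g⁻¹) ∈ _
    have h3 : g * x * g⁻¹ * (g * x * g⁻¹) = g * (x * x) * g⁻¹ := by group
    rw [h3, hgz _ (hZsq x hx)]
    exact hZsq x hx
  · rintro _ ⟨x, hx, rfl⟩ _ ⟨y, hy, rfl⟩
    show g * x * g⁻¹ * (g * y * g⁻¹) * (g * x * g⁻¹)⁻¹ * (g * y * g⁻¹)⁻¹ ∈ _
    have h3 : g * x * g⁻¹ * (g * y * g⁻¹) * (g * x * g⁻¹)⁻¹ * (g * y * g⁻¹)⁻¹
      = g * (x * y * x⁻¹ * y⁻¹) * g⁻¹ := by group
    rw [h3, hgz _ (hcomm x hx y hy)]
    exact hcomm x hx y hy
  · rw [card_cj, card_Q h]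

end

end Cfsg.Agent.SylowL5.WC
end

-- part: SylowL5/Act
section
/-!
# The action of `N1 = C_G(z) ∩ N(A1)` on `A1`
-/

set_option autoImplicit false

namespace Cfsg.Agent.SylowL5.Act

open Subgroup
open Cfsg.Agent.SignalizersComponents.RelSylow
open Cfsg.Agent.SylowL5.Setup Cfsg.Agent.SylowL5.Calc Cfsg.Agent.SylowL5.Weak
  Cfsg.Agent.SylowL5.Elem Cfsg.Agent.SylowL5.Tools Cfsg.Agent.SylowL5.WC
  Cfsg.Agent.SylowL5.TransvG Cfsg.Agent.SylowL5.Transv

variable {G : Type*} [Group G]

/-! ### General lemmas -/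

/-- Elements of a normal subgroup which is a 2-group modulo `K` lie in `S K`. -/
theorem exists_modG [Finite G] {N K L P : Subgroup G} (hP : IsMaxP 2 N P)
    (hKn : ∀ n ∈ N, ∀ k ∈ K, n * k * n⁻¹ ∈ K) (hL : L ≤ N)
    (hLn : ∀ n ∈ N, ∀ l ∈ L, n * l * n⁻¹ ∈ L) (hKL : K ≤ L)
    (h2 : ∀ l ∈ L, ∃ k : ℕ, l ^ (2 ^ k) ∈ K) :
    ∀ l ∈ L, ∃ s ∈ P, s ∈ L ∧ s⁻¹ * l ∈ K := by
  have hKnorm : (K.subgroupOf N).Normal := ⟨fun k hk n => hKn n n.2 k hk⟩
  obtain ⟨m, hm⟩ := exists_mod hP.toSylow (K.subgroupOf N) (L.subgroupOf N) (by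
    rintro ⟨x, hx⟩
    obtain ⟨l, hl, rfl⟩ := hx
    obtain ⟨k, hk⟩ := h2 l hl
    refine ⟨k, Subtype.ext ?_⟩
    show (QuotientGroup.mk' (K.subgroupOf N) l) ^ (2 ^ k) = 1
    rw [← map_pow]
    exact (QuotientGroup.eq_one_iff _).2 hk)
  intro l hl
  have h1 : (m : G)⁻¹ * l * m ∈ L := by
    have := hLn _ (N.inv_mem m.2) l hl
    rwa [inv_inv] at this
  obtain ⟨s, hs, hs2⟩ := hm ⟨_, hL h1⟩ h1
  have hs3 : (s : G) ∈ P := by
    have : s ∈ (hP.toSylow : Subgroup N) := hs
    rw [hP.coe_toSylow] at this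
    exact this
  have hs4 : (s : G)⁻¹ * l ∈ K := by
    have h6 : (s : G)⁻¹ * ((m : G) * ((m : G)⁻¹ * l * (m : G)) * (m : G)⁻¹) ∈ K := hs2
    have h5 : (m : G) * ((m : G)⁻¹ * l * (m : G)) * (m : G)⁻¹ = l := by group
    rwa [h5] at h6
  refine ⟨s, hs3, ?_, hs4⟩
  have h5 : (s : G) = l * ((s : G)⁻¹ * l)⁻¹ := by group
  rw [h5]
  exact L.mul_mem hl (L.inv_mem (hKL hs4))

theorem isMaxP_inter [Finite G] {N L S : Subgroup G} (hS : IsMaxP 2 N S) (hL : L ≤ N)
    (hLn : ∀ n ∈ N, ∀ l ∈ L, n * l * n⁻¹ ∈ L) : IsMaxP 2 L (S ⊓ L) := by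
  have f2 : Fact (Nat.Prime 2) := ⟨Nat.prime_two⟩
  refine ⟨hS.1.to_le inf_le_left, inf_le_right, ?_⟩
  intro R hR hRL hle
  obtain ⟨c, hc, hcR⟩ := hS.exists_conj_le hR (hRL.trans hL)
  have h1 : cj c R ≤ S ⊓ L := by
    refine le_inf hcR ?_
    rw [cj_le_iff]
    exact fun x hx => hLn c hc x (hRL hx)
  have h2 : Nat.card R ≤ Nat.card (S ⊓ L : Subgroup G) := by
    rw [← card_cj c R]
    exact Nat.le_of_dvd Nat.card_pos (Subgroup.card_dvd_of_le h1)
  exact (Subgroup.eq_of_le_of_card_ge hle h2).ge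

/-- `a` and `b` act in the same way on `V` -/
def Sim (V : Subgroup G) (a b : G) : Prop := ∀ v ∈ V, a * v * a⁻¹ = b * v * b⁻¹

theorem nrm {V : Subgroup G} {n v : G} (hn : n ∈ normalizer (V : Set G)) (hv : v ∈ V) :
    n * v * n⁻¹ ∈ V := (Subgroup.mem_normalizer_iff.1 hn v).1 hv

section
variable {V : Subgroup G} {a b c d n : G}

theorem Sim.refl (a : G) : Sim V a a := fun _ _ => rfl

theorem Sim.symm (h : Sim V a b) : Sim V b a := fun v hv => (h v hv).symm

theorem Sim.trans (h : Sim V a b) (h' : Sim V b c) : Sim V a c :=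
  fun v hv => (h v hv).trans (h' v hv)

theorem Sim.mul (h1 : Sim V a b) (h2 : Sim V c d) (hd : d ∈ normalizer (V : Set G)) :
    Sim V (a * c) (b * d) := by
  intro v hv
  have h3 : a * c * v * (a * c)⁻¹ = a * (c * v * c⁻¹) * a⁻¹ := by group
  have h4 : b * d * v * (b * d)⁻¹ = b * (d * v * d⁻¹) * b⁻¹ := by group
  rw [h3, h4, h2 v hv, h1 _ (nrm hd hv)]

theorem Sim.inv (h : Sim V a b) (ha : a ∈ normalizer (V : Set G)) : Sim V a⁻¹ b⁻¹ := by
  intro v hv
  have h1 := nrm (inv_mem ha) hv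
  have h2 := h _ h1
  have h3 : a * (a⁻¹ * v * a⁻¹⁻¹) * a⁻¹ = v := by group
  rw [h3] at h2
  calc a⁻¹ * v * a⁻¹⁻¹ = b⁻¹ * (b * (a⁻¹ * v * a⁻¹⁻¹) * b⁻¹) * b⁻¹⁻¹ := by group
    _ = _ := by rw [← h2]

theorem Sim.conj (h : Sim V a b) (hn : n ∈ normalizer (V : Set G)) :
    Sim V (n * a * n⁻¹) (n * b * n⁻¹) := by
  intro v hv
  have h1 := nrm (inv_mem hn) hv
  have h2 := h _ h1
  calc n * a * n⁻¹ * v * (n * a * n⁻¹)⁻¹ = n * (a * (n⁻¹ * v * n⁻¹⁻¹) * a⁻¹) * n⁻¹ := by group
    _ = n * (b * (n⁻¹ * v * n⁻¹⁻¹) * b⁻¹) * n⁻¹ := by rw [h2]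
    _ = _ := by group

theorem sim_one_iff : Sim V a 1 ↔ a ∈ centralizer (V : Set G) := by
  rw [mem_centralizer_iff]
  constructor
  · intro h v hv
    have h1 := h v hv
    rw [one_mul, inv_one, mul_one] at h1
    calc v * a = (a * v * a⁻¹) * a := by rw [h1]
      _ = a * v := by group
  · intro h v hv
    rw [one_mul, inv_one, mul_one, ← h v hv]; group

theorem sim_iff :
    Sim V a b ↔ b⁻¹ * a ∈ centralizer (V : Set G) := by
  rw [mem_centralizer_iff]
  constructor
  · intro h v hv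
    have h1 := h v hv
    calc v * (b⁻¹ * a) = b⁻¹ * (b * v * b⁻¹) * a := by group
      _ = b⁻¹ * (a * v * a⁻¹) * a := by rw [h1]
      _ = _ := by group
  · intro h v hv
    have h1 := h v hv
    calc a * v * a⁻¹ = b * (b⁻¹ * a * v) * a⁻¹ := by group
      _ = b * (v * (b⁻¹ * a)) * a⁻¹ := by rw [← h1]
      _ = _ := by group

/-- transport of commutators -/
theorem Sim.comm {e e' : G} (h : Sim V (n * e * n⁻¹) e') (hn : n ∈ normalizer (V : Set G))
    {v : G} (hv : v ∈ V) :
    n * (e * v * e⁻¹ * v⁻¹) * n⁻¹ = e' * (n * v * n⁻¹) * e'⁻¹ * (n * v * n⁻¹)⁻¹ := by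
  rw [← h _ (nrm hn hv)]
  group

/-- commutators with a fixed element are additive on an abelian group -/
theorem comm_mul' (hc : ∀ x ∈ V, ∀ y ∈ V, x * y = y * x) {e v w : G}
    (hew : e * w * e⁻¹ ∈ V) (hv : v ∈ V) (hw : w ∈ V) :
    e * (v * w) * e⁻¹ * (v * w)⁻¹ = (e * v * e⁻¹ * v⁻¹) * (e * w * e⁻¹ * w⁻¹) := by
  have h1 : e * (v * w) * e⁻¹ * (v * w)⁻¹ = (e * v * e⁻¹) * ((e * w * e⁻¹ * w⁻¹) * v⁻¹) := by
    group
  have h2 : e * w * e⁻¹ * w⁻¹ ∈ V := V.mul_mem hew (V.inv_mem hw)
  rw [h1, hc _ h2 _ (V.inv_mem hv), ← mul_assoc]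

/-- the commutator map of the square is the square of the commutator map -/
theorem comm_sq (h2 : ∀ v ∈ V, v * v = 1) {v : G}
    (hv : n * v * n⁻¹ ∈ V) (hv' : v ∈ V) :
    (n * n) * v * (n * n)⁻¹ * v⁻¹ =
      n * (n * v * n⁻¹ * v⁻¹) * n⁻¹ * (n * v * n⁻¹ * v⁻¹)⁻¹ := by
  have hd : n * v * n⁻¹ * v⁻¹ ∈ V := V.mul_mem hv (V.inv_mem hv')
  have h3 : (n * v * n⁻¹ * v⁻¹)⁻¹ = n * v * n⁻¹ * v⁻¹ := inv_eq_of_mul_eq_one_right (h2 _ hd)
  have h4 : v * v = 1 := h2 v hv'
  have h5 : v⁻¹ = v := inv_eq_of_mul_eq_one_right h4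
  rw [h3]
  calc n * n * v * (n * n)⁻¹ * v⁻¹ = n * (n * v * n⁻¹ * v⁻¹) * n⁻¹ * (n * v * n⁻¹ * v⁻¹) := by group
    _ = _ := rfl

/-- an element acting trivially on the factors of a chain of length 4 -/
theorem pow_four_mem (h2 : ∀ v ∈ V, v * v = 1) (hn : n ∈ normalizer (V : Set G))
    {W U Z : Subgroup G} (hWV : W ≤ V) (hUW : U ≤ W)
    (h3 : ∀ v ∈ V, n * v * n⁻¹ * v⁻¹ ∈ W) (h4 : ∀ v ∈ W, n * v * n⁻¹ * v⁻¹ ∈ U)
    (h5 : ∀ v ∈ U, n * v * n⁻¹ * v⁻¹ ∈ Z) (h6 : ∀ v ∈ Z, n * v * n⁻¹ * v⁻¹ = 1) :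
    n ^ (2 ^ 2) ∈ centralizer (V : Set G) := by
  have h7 : ∀ v ∈ V, (n * n) * v * (n * n)⁻¹ * v⁻¹ ∈ U := by
    intro v hv
    rw [comm_sq h2 (nrm hn hv) hv]
    exact h4 _ (h3 v hv)
  have h8 : ∀ v ∈ U, (n * n) * v * (n * n)⁻¹ * v⁻¹ = 1 := by
    intro v hv
    have hv' := hWV (hUW hv)
    rw [comm_sq h2 (nrm hn hv') hv']
    exact h6 _ (h5 v hv)
  have h9 : n * n ∈ normalizer (V : Set G) := mul_mem hn hn
  rw [mem_centralizer_iff]
  intro v hv
  have h10 : (n * n * (n * n)) * v * (n * n * (n * n))⁻¹ * v⁻¹ = 1 := by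
    rw [comm_sq h2 (nrm h9 hv) hv]
    exact h8 _ (h7 v hv)
  have h11 : n ^ (2 ^ 2) = n * n * (n * n) := by
    rw [show (2 : ℕ) ^ 2 = 4 from rfl, show (4 : ℕ) = 2 + 2 from rfl, pow_add, pow_two]
  rw [h11]
  have h12 := mul_inv_eq_one.1 h10
  have h13 := mul_inv_eq_iff_eq_mul.1 h12
  exact h13.symm

end

end Cfsg.Agent.SylowL5.Act
end
end

-- part: SylowL5/Trans
section
prune_inst 0x301005000400000000180000000020003000000000600000c040000001010101a04001010240120201102460200a002001100049421000000a00020000040000000220c09008000001000000c000000000000000000000000000000000000000000000000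
set_option linter.all false
open scoped Cfsg.Agent.FastGrp

/-!
# A strong form of Thompson's transfer lemma

If `G` has no subgroup of index two, `M` is a subgroup of index two of the Sylow 2-subgroup `S`, `t` is an
involution and `P` a 2-subgroup centralising `t`, then some conjugate of `P` lies in `S` such that the
corresponding conjugate of `t` lies in `M`.
-/

set_option autoImplicit false

namespace Cfsg.Agent.SylowL5.Trans

open Subgroup

theorem exists_conj {G : Type*} [Group G] [Finite G] (hG : ∀ H : Subgroup G, H.index ≠ 2)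
    (S : Sylow 2 G) (M : Subgroup G) (hMS : M ≤ (S : Subgroup G))
    (hM : M.relIndex (S : Subgroup G) = 2) (t : G) (ht : t ^ 2 = 1) (P : Subgroup G)
    (hP : IsPGroup 2 P) (hPt : ∀ p ∈ P, p * t = t * p) :
    ∃ g : G, (∀ p ∈ P, g * p * g⁻¹ ∈ (S : Subgroup G)) ∧ g * t * g⁻¹ ∈ M := by
  classical
  have f2 : Fact (Nat.Prime 2) := ⟨Nat.prime_two⟩
  have : Fintype (G ⧸ M) := Fintype.ofFinite _
  have : Fintype (G ⧸ (S : Subgroup G)) := Fintype.ofFinite _
  set m := (S : Subgroup G).index with hm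
  have hmodd : Odd m := by
    rw [← Nat.not_even_iff_odd, even_iff_two_dvd]
    exact S.not_dvd_index
  have hcard : Fintype.card (G ⧸ M) = 2 * m := by
    rw [← Nat.card_eq_fintype_card, ← Subgroup.index, ← Subgroup.relIndex_mul_index hMS, hM]
  have hSM : ∀ s ∈ (S : Subgroup G), ∀ x, x ∈ M ↔ s * x * s⁻¹ ∈ M := by
    have hn : (M.subgroupOf (S : Subgroup G)).Normal := Subgroup.normal_of_index_eq_two hM
    have h1 : ∀ s ∈ (S : Subgroup G), ∀ x ∈ M, s * x * s⁻¹ ∈ M := by
      intro s hs x hx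
      exact hn.conj_mem ⟨x, hMS hx⟩ hx ⟨s, hs⟩
    intro s hs x
    refine ⟨h1 s hs x, fun h => ?_⟩
    have h2 := h1 s⁻¹ (inv_mem hs) _ h
    have h3 : s⁻¹ * (s * x * s⁻¹) * s⁻¹⁻¹ = x := by group
    rwa [h3] at h2
  -- the set of good cosets
  let Om : Set (G ⧸ (S : Subgroup G)) := {q | ∃ x : G, (x : G ⧸ (S : Subgroup G)) = q ∧ x⁻¹ * t * x ∈ M}
  have hOm : ∀ x : G, ((x : G ⧸ (S : Subgroup G)) ∈ Om ↔ x⁻¹ * t * x ∈ M) := by
    intro x
    constructor
    · rintro ⟨y, hy, hyM⟩
      have h1 : y⁻¹ * x ∈ (S : Subgroup G) := QuotientGroup.eq.1 hy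
      have h2 := (hSM _ (inv_mem h1) (y⁻¹ * t * y)).1 hyM
      have h3 : (y⁻¹ * x)⁻¹ * (y⁻¹ * t * y) * (y⁻¹ * x)⁻¹⁻¹ = x⁻¹ * t * x := by group
      rwa [h3] at h2
    · intro h
      exact ⟨x, rfl, h⟩
  -- fixed points of `t` on `G ⧸ M`
  let σ : Equiv.Perm (G ⧸ M) := MulAction.toPermHom G (G ⧸ M) t
  have hσ2 : σ ^ 2 = 1 := by
    show (MulAction.toPermHom G (G ⧸ M) t) ^ 2 = 1
    rw [← map_pow, ht, map_one]
  have hfix : ∀ x : G, (x : G ⧸ M) ∈ Function.fixedPoints σ ↔ x⁻¹ * t * x ∈ M := by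
    intro x
    have h1 : ((x : G ⧸ M) ∈ Function.fixedPoints σ) ↔ ((t * x : G) : G ⧸ M) = (x : G ⧸ M) := Iff.rfl
    rw [h1, QuotientGroup.eq]
    have h3 : x⁻¹ * t * x = ((t * x)⁻¹ * x)⁻¹ := by group
    rw [h3, inv_mem_iff]
  let e := Subgroup.quotientEquivProdOfLE hMS
  have he : ∀ q : G ⧸ M, q ∈ Function.fixedPoints σ ↔ (e q).1 ∈ Om := by
    intro q
    obtain ⟨x, rfl⟩ := QuotientGroup.mk_surjective q
    have h1 : (e (x : G ⧸ M)).1 = (x : G ⧸ (S : Subgroup G)) := rfl
    rw [h1, hOm, hfix]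
  have hcardfix : Fintype.card (Function.fixedPoints σ) = Nat.card Om * 2 := by
    have e2 : Function.fixedPoints σ ≃ Om × ((S : Subgroup G) ⧸ M.subgroupOf (S : Subgroup G)) :=
      { toFun := fun q => (⟨(e q.1).1, (he q.1).1 q.2⟩, (e q.1).2)
        invFun := fun r => ⟨e.symm (r.1.1, r.2), (he _).2 (by rw [Equiv.apply_symm_apply]; exact r.1.2)⟩
        left_inv := fun q => by
          apply Subtype.ext
          simp
        right_inv := fun r => by
          apply Prod.ext
          · apply Subtype.ext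
            simp
          · simp }
    rw [← Nat.card_eq_fintype_card, Nat.card_congr e2, Nat.card_prod]
    congr 1
  -- the sign is trivial
  let f : G →* ℤˣ := Equiv.Perm.sign.comp (MulAction.toPermHom G (G ⧸ M))
  have hf : f t = 1 := by
    rcases Int.units_eq_one_or (f t) with h | h
    · exact h
    · exfalso
      apply hG f.ker
      rw [Subgroup.index_ker]
      have htop : f.range = ⊤ := by
        rw [eq_top_iff]
        intro u _
        rcases Int.units_eq_one_or u with rfl | rfl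
        · exact Subgroup.one_mem _
        · exact ⟨t, h⟩
      rw [htop, Subgroup.card_top]
      simp
  have hsign : Equiv.Perm.sign σ = 1 := hf
  rw [Equiv.Perm.sign_of_pow_two_eq_one hσ2, hcard, hcardfix] at hsign
  have hle : Nat.card Om ≤ m := by
    have h1 : Nat.card Om ≤ Nat.card (G ⧸ (S : Subgroup G)) := Nat.card_le_card_of_injective _ Subtype.val_injective
    exact h1
  have hodd : Odd (Nat.card Om) := by
    have h1 : (2 * m - Nat.card Om * 2) / 2 = m - Nat.card Om := by omega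
    rw [h1] at hsign
    have h2 : Even (m - Nat.card Om) := by
      by_contra h3
      rw [Nat.not_even_iff_odd] at h3
      rw [h3.neg_one_pow] at hsign
      exact absurd hsign (by decide)
    obtain ⟨a, ha⟩ := hmodd
    obtain ⟨b, hb⟩ := h2
    exact ⟨a - b, by omega⟩
  -- `P` acts on `Om`
  have hPOm : ∀ p : P, ∀ q ∈ Om, (p : G) • q ∈ Om := by
    rintro p _ ⟨x, rfl, hx⟩
    refine ⟨p * x, rfl, ?_⟩
    have h1 := hPt p p.2
    have h2 : ((p : G) * x)⁻¹ * t * (p * x) = x⁻¹ * t * x := by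
      calc ((p : G) * x)⁻¹ * t * (p * x) = x⁻¹ * (p : G)⁻¹ * (t * p) * x := by group
        _ = x⁻¹ * (p : G)⁻¹ * (p * t) * x := by rw [h1]
        _ = x⁻¹ * t * x := by group
    rwa [h2]
  let act : MulAction P Om :=
    { smul := fun p q => ⟨(p : G) • q.1, hPOm p q.1 q.2⟩
      one_smul := by
        intro q
        apply Subtype.ext
        exact one_smul G q.1
      mul_smul := by
        intro a b q
        apply Subtype.ext
        exact mul_smul (a : G) (b : G) q.1 }
  have hmod := hP.card_modEq_card_fixedPoints Om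
  have hne : Nat.card (MulAction.fixedPoints P Om) ≠ 0 := by
    intro h0
    rw [h0] at hmod
    have := (Nat.modEq_zero_iff_dvd.1 hmod)
    rw [← Nat.not_even_iff_odd, even_iff_two_dvd] at hodd
    exact hodd this
  have hne' : Nonempty (MulAction.fixedPoints P Om) := (Nat.card_pos_iff.1 (Nat.pos_of_ne_zero hne)).1
  obtain ⟨⟨⟨q, hq⟩, hqf⟩⟩ := hne'
  obtain ⟨x, rfl, hx⟩ := hq
  refine ⟨x⁻¹, ?_, by rwa [inv_inv]⟩
  intro p hp
  have h1 := congrArg Subtype.val (hqf ⟨p, hp⟩)
  have h2 : ((p * x : G) : G ⧸ (S : Subgroup G)) = (x : G ⧸ (S : Subgroup G)) := h1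
  have h3 := QuotientGroup.eq.1 h2
  have h4 : x⁻¹ * p * x⁻¹⁻¹ = ((p * x)⁻¹ * x)⁻¹ := by group
  rw [h4]
  exact inv_mem h3

end Cfsg.Agent.SylowL5.Trans
end
end
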