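import Mathlib
import Cfsg.Prelude.Def_Local
import Cfsg.Prelude.Def_Transfer
import Cfsg.Agent.Lib.Cores
import Cfsg.Agent.ThreePrime.CoreConj
import Cfsg.Agent.FastGrp
import Cfsg.Agent.Prune
set_option linter.all false
prune_inst 0x7f00000000000000000000000000000000000000000000000000000000000000000000000000000000000000000000000000000000000000000000000000000000000000000000000000000000000000003fffffffffffffffffffffffffffbeffbdffffffff
open scoped Cfsg.Agent.FastGrp

/-!
# Cores and centralizers modulo a central 2-subgroup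

`Z` a central 2-subgroup of the finite group `Y`.
* `comap_core_le` : the preimage of `O(Y/Z)` is contained in `O(Y) Z`.
* `core_map_le` : the image of `O(C_Y(t))` is contained in `O(C_{Y/Z}(tZ))`.
* `solvable_centralizer` : if `C_Y(t)` is solvable, so is `C_{Y/Z}(tZ)`.
* `centralizer_le` : if `C_Y(t) = O(C_Y(t)) N`-like, then the same in `Y/Z`.
-/

set_option autoImplicit false

namespace Cfsg.Agent.SylowL5.LiftQuot

open Cfsg Subgroup

variable {Y : Type*} [Group Y] [Finite Y] {Z : Subgroup Y} [Z.Normal]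

/-- the preimage of `O(Y/Z)` is `O(Y) Z` -/
theorem comap_core_le (hZc : ∀ z ∈ Z, ∀ y : Y, z * y = y * z) (hZ2 : IsPGroup 2 Z) :
    (pPrimeCore 2 (Y ⧸ Z)).comap (QuotientGroup.mk' Z) ≤ pPrimeCore 2 Y ⊔ Z := by
  have hfact : Fact (Nat.Prime 2) := ⟨Nat.prime_two⟩
  set H : Subgroup Y := (pPrimeCore 2 (Y ⧸ Z)).comap (QuotientGroup.mk' Z) with hH
  have hHn : H.Normal := (Lib.Cores.pPrimeCore_normal 2).comap _
  have hZH : Z ≤ H := by
    intro z hz
    rw [hH, mem_comap, QuotientGroup.mk'_apply, (QuotientGroup.eq_one_iff z).2 hz]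
    exact one_mem _
  -- the index of `Z` in `H` is odd
  have hidx : ¬ 2 ∣ (Z.subgroupOf H).index := by
    have h1 : (Z.subgroupOf H).index = Nat.card (H.map (QuotientGroup.mk' Z)) := by
      have h2 := relIndex_ker (f := QuotientGroup.mk' Z) (K := H)
      rw [QuotientGroup.ker_mk'] at h2
      exact h2
    rw [h1, hH, map_comap_eq_self_of_surjective (QuotientGroup.mk'_surjective Z)]
    exact (Nat.Prime.coprime_iff_not_dvd Nat.prime_two).1 (Lib.Cores.pPrimeCore_coprime 2).symm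
  have hT2 : IsPGroup 2 (Z.subgroupOf H) :=
    hZ2.comap_of_injective H.subtype H.subtype_injective
  let T : Sylow 2 H := hT2.toSylow hidx
  have hTcoe : (T : Subgroup H) = Z.subgroupOf H := rfl
  have hnc : normalizer ((T : Subgroup H) : Set H) ≤ centralizer ((T : Subgroup H) : Set H) := by
    intro x _
    rw [mem_centralizer_iff]
    intro t ht
    exact Subtype.ext (hZc _ ht x)
  have hcomp := MonoidHom.ker_transferSylow_isComplement' T hnc
  have hK := MonoidHom.not_dvd_card_ker_transferSylow T hnc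
  have h1 : (MonoidHom.transferSylow T hnc).ker ≤ pPrimeCore 2 H :=
    Lib.Cores.le_pPrimeCore inferInstance ((Nat.Prime.coprime_iff_not_dvd Nat.prime_two).2 hK).symm
  have h2 : pPrimeCore 2 H ⊔ Z.subgroupOf H = ⊤ := by
    rw [eq_top_iff, ← hcomp.sup_eq_top]
    exact sup_le_sup_right h1 _
  have h3 := congrArg (Subgroup.map H.subtype) h2
  rw [Subgroup.map_sup, Lib.Cores.map_subtype_pPrimeCore 2 hHn, subgroupOf_map_subtype,
    inf_eq_left.2 hZH, ← MonoidHom.range_eq_map, H.range_subtype] at h3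
  rw [← h3]
  exact sup_le_sup_right inf_le_right _

/-- lifting `O(Y/Z) N = Y/Z` -/
theorem lift (hZc : ∀ z ∈ Z, ∀ y : Y, z * y = y * z) (hZ2 : IsPGroup 2 Z) {N : Subgroup Y}
    (hZN : Z ≤ N) (h : pPrimeCore 2 (Y ⧸ Z) ⊔ N.map (QuotientGroup.mk' Z) = ⊤) :
    ∀ g : Y, ∃ a ∈ pPrimeCore 2 Y, ∃ n ∈ N, g = a * n := by
  intro g
  have hn : (pPrimeCore 2 (Y ⧸ Z)).Normal := Lib.Cores.pPrimeCore_normal 2
  have h1 : (QuotientGroup.mk' Z g) ∈ pPrimeCore 2 (Y ⧸ Z) ⊔ N.map (QuotientGroup.mk' Z) := by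
    rw [h]; exact mem_top _
  obtain ⟨x, hx, _, ⟨n, hn', rfl⟩, hxn⟩ := mem_sup_of_normal_left.1 h1
  have h2 : g * n⁻¹ ∈ (pPrimeCore 2 (Y ⧸ Z)).comap (QuotientGroup.mk' Z) := by
    rw [mem_comap, map_mul, map_inv, ← hxn, mul_inv_cancel_right]
    exact hx
  have h3 := comap_core_le hZc hZ2 h2
  have hn2 : (pPrimeCore 2 Y).Normal := Lib.Cores.pPrimeCore_normal 2
  obtain ⟨a, ha, z, hz, haz⟩ := mem_sup_of_normal_left.1 h3
  refine ⟨a, ha, z * n, N.mul_mem (hZN hz) hn', ?_⟩
  rw [← mul_assoc, haz]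
  group

end Cfsg.Agent.SylowL5.LiftQuot
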