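import Mathlib
import Cfsg.Prelude.Def_Local
import Cfsg.Prelude.Def_Involutions
import Cfsg.Agent.Lib.Cores
import Cfsg.Agent.S0058
import Cfsg.Agent.S0205
import Cfsg.Agent.R15.NormalElem
import Cfsg.Agent.SignalizersComponents.CoreOfCentralizer
import Cfsg.Agent.Lib.CoreCent
import Cfsg.Agent.Held.AffineIso
import Cfsg.Agent.Held.HeldCardLe
import Cfsg.Agent.Lib.TwoClassEnd_m3
import Cfsg.Agent.Solvable.Gaschutz
import Cfsg.Agent.SylowL5.Setup
import Cfsg.Agent.Lib.Refl
import Cfsg.Agent.SylowL5.FusMain_m3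
import Cfsg.Agent.SylowL5.Act_m3
import Cfsg.Agent.SylowL5.OddLift
import Cfsg.Agent.SylowL5.TypeAGen
import Cfsg.Agent.R15.Lite
import Cfsg.Agent.SignalizersComponents.CentralizerCore
import Cfsg.Agent.SignalizersComponents.CoprimeGen
import Cfsg.Agent.Transfer.PGroupNormal
import Cfsg.Agent.PLocal.ZJReduction
import Cfsg.Agent.OddHalf.UT5.KBasic
import Cfsg.Agent.Held.SideHyp_mg
import Cfsg.Agent.S1716
import Cfsg.Agent.Held.HeldCtl
import Cfsg.Agent.Held.HeldTri
import Cfsg.Agent.FastGrp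
import Cfsg.Agent.Prune
set_option linter.all false

section
prune_inst 0x7f00000000000000000000000000000000000000000000000000000000000000000000000000000000000000000000000000000000000000000000000000000000000000000000000000000000000000003fffffffffffffffffffffffffffbeffbdffffffff

-- part: SylowL5/Quot
section
set_option linter.all false
open scoped Cfsg.Agent.FastGrp

-- part: SylowL5/Functor
section
/-!
# The signalizer functor on a `z`-pure elementary abelian subgroup

`Con X` : `X / O(X)` is of characteristic 2 (constrained).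
If all non-identity elements of `E` (elementary abelian of order `≥ 8`) are conjugate to `z` and
`C_G(z)` is constrained, then `W = ⟨O(C_G(e)) : e ∈ E#⟩` has odd order, `W ∩ C_G(e) = O(C_G(e))`, and
`W` is normalised by `N_G(E)`, by `C_G(z)` if `C_G(z) = O(C_G(z)) N(E)`, and by `N_G(A)` for every
elementary abelian `A` with `|A ∩ E| ≥ 4`.
-/

set_option autoImplicit false

namespace Cfsg.Agent.SylowL5.Functor

open Cfsg Subgroup
open Cfsg.Agent.SignalizersComponents

/-- `X / O(X)` is of characteristic 2. -/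
def Con (X : Type*) [Group X] : Prop :=
  centralizer (pCore 2 (X ⧸ pPrimeCore 2 X) : Set (X ⧸ pPrimeCore 2 X)) ≤
    pCore 2 (X ⧸ pPrimeCore 2 X)

theorem con_iff {X : Type*} [Group X] : Con X ↔ ∀ x : X ⧸ pPrimeCore 2 X,
    (∀ y ∈ pCore 2 (X ⧸ pPrimeCore 2 X), y * x = x * y) → x ∈ pCore 2 (X ⧸ pPrimeCore 2 X) := by
  unfold Con
  constructor
  · intro h x hx
    apply h
    rw [mem_centralizer_iff]
    intro y hy
    exact hx y hy
  · intro h x hx
    rw [mem_centralizer_iff] at hx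
    exact h x hx

theorem Con.congr {X Y : Type*} [Group X] [Group Y] (e : X ≃* Y) (h : Con X) : Con Y := by
  have h1 : (pPrimeCore 2 X).map e.toMonoidHom = pPrimeCore 2 Y :=
    Lib.Cores.map_equiv_pPrimeCore e 2
  let f : X ⧸ pPrimeCore 2 X ≃* Y ⧸ pPrimeCore 2 Y :=
    QuotientGroup.congr (pPrimeCore 2 X) (pPrimeCore 2 Y) e h1
  have h2 : (pCore 2 (X ⧸ pPrimeCore 2 X)).map f.toMonoidHom = pCore 2 (Y ⧸ pPrimeCore 2 Y) :=
    Lib.Cores.map_equiv_pCore f 2
  rw [con_iff] at h ⊢
  intro y hy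
  obtain ⟨x, rfl⟩ := f.surjective y
  rw [← h2]
  refine ⟨x, h x ?_, rfl⟩
  intro x' hx'
  apply f.injective
  rw [map_mul, map_mul]
  apply hy
  rw [← h2]
  exact ⟨x', hx', rfl⟩

theorem le_pPrimeCore_of_con {X : Type*} [Group X] [Finite X] (hX : Con X)
    (P : Subgroup X) (hP : IsPGroup 2 P) (H : Subgroup X) (hH : (Nat.card H).Coprime 2)
    (hHP : H ≤ centralizer (P : Set X))
    (hn : centralizer (P : Set X) ≤ normalizer (H : Set X)) :
    H ≤ pPrimeCore 2 X := by
  have h2 : Fact (Nat.Prime 2) := ⟨Nat.prime_two⟩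
  have hN : (pPrimeCore 2 X).Normal := pPrimeCore_normal 2 X
  have hNp : ¬ 2 ∣ Nat.card (pPrimeCore 2 X) :=
    (Nat.prime_two.coprime_iff_not_dvd).mp (Lib.Cores.pPrimeCore_coprime 2).symm
  let f : X →* X ⧸ pPrimeCore 2 X := QuotientGroup.mk' (pPrimeCore 2 X)
  have hbot : H.map f = ⊥ := by
    refine CoreOfCentralizer.eq_bot_of_centralizer_pCore_le hX (P.map f) (hP.map f) (H.map f)
      ?_ ?_ ?_
    · exact Nat.Coprime.coprime_dvd_left (card_dvd_of_surjective (f.subgroupMap H)
        (f.subgroupMap_surjective H)) hH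
    · rintro _ ⟨h, hh, rfl⟩
      rw [mem_centralizer_iff]
      rintro _ ⟨a, ha, rfl⟩
      rw [← map_mul, ← map_mul, mem_centralizer_iff.mp (hHP hh) a ha]
    · rintro c ⟨hc, -⟩
      obtain ⟨g, hg, hgc⟩ := CoreOfCentralizer.exists_centralizing_of_quotient P hP
        (pPrimeCore 2 X) hNp c (fun a ha => mem_centralizer_iff.mp hc (f a) ⟨a, ha, rfl⟩)
      have hgn : g ∈ normalizer (H : Set X) := by
        apply hn
        rw [mem_centralizer_iff]
        exact hg
      rw [← hgc]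
      have h1 : f g ∈ (normalizer (H : Set X)).map f := ⟨g, hgn, rfl⟩
      exact le_normalizer_map f h1
  intro h hh
  have h1 : f h ∈ H.map f := ⟨h, hh, rfl⟩
  rw [hbot, mem_bot] at h1
  exact (QuotientGroup.eq_one_iff h).mp h1

section

variable {G : Type*} [Group G]

/-- the core of the centralizer -/
abbrev th (a : G) : Subgroup G := centralizerPPrimeCore 2 a

/-- centralizers of conjugates are isomorphic -/
theorem con_conj {a : G} (g : G) (h : Con ↥(centralizer ({a} : Set G))) :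
    Con ↥(centralizer ({g * a * g⁻¹} : Set G)) := by
  have h1 : (centralizer ({a} : Set G)).map (MulAut.conj g).toMonoidHom =
      centralizer ({g * a * g⁻¹} : Set G) := by
    ext x
    constructor
    · rintro ⟨y, hy, rfl⟩
      have hy' : y * a = a * y := mem_centralizer_singleton_iff.1 hy
      rw [mem_centralizer_singleton_iff]
      show g * y * g⁻¹ * (g * a * g⁻¹) = g * a * g⁻¹ * (g * y * g⁻¹)
      calc g * y * g⁻¹ * (g * a * g⁻¹) = g * (y * a) * g⁻¹ := by group
        _ = g * (a * y) * g⁻¹ := by rw [hy']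
        _ = _ := by group
    · intro hx
      rw [mem_centralizer_singleton_iff] at hx
      refine ⟨g⁻¹ * x * g, ?_, ?_⟩
      · show g⁻¹ * x * g ∈ centralizer ({a} : Set G)
        rw [mem_centralizer_singleton_iff]
        calc g⁻¹ * x * g * a = g⁻¹ * (x * (g * a * g⁻¹)) * g := by group
          _ = g⁻¹ * (g * a * g⁻¹ * x) * g := by rw [hx]
          _ = a * (g⁻¹ * x * g) := by group
      · show g * (g⁻¹ * x * g) * g⁻¹ = x
        group
  have e : ↥(centralizer ({a} : Set G)) ≃* ↥(centralizer ({g * a * g⁻¹} : Set G)) :=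
    ((centralizer ({a} : Set G)).equivMapOfInjective (MulAut.conj g).toMonoidHom
      (MulAut.conj g).injective).trans (MulEquiv.subgroupCongr h1)
  exact h.congr e

theorem con_isConj {a b : G} (hab : IsConj a b) (h : Con ↥(centralizer ({a} : Set G))) :
    Con ↥(centralizer ({b} : Set G)) := by
  obtain ⟨g, hg⟩ := isConj_iff.1 hab
  rw [← hg]
  exact con_conj g h

variable [Finite G]

/-- balance for a constrained centralizer -/
theorem balance_of_con (a b : G) (hab : a * b = b * a) (ha : a * a = 1)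
    (hb : Con ↥(centralizer ({b} : Set G))) :
    th a ⊓ centralizer ({b} : Set G) ≤ th b := by
  have haC : a ∈ centralizer ({b} : Set G) := mem_centralizer_singleton_iff.2 hab
  let C : Subgroup G := centralizer ({b} : Set G)
  let a' : C := ⟨a, haC⟩
  let H : Subgroup C := (th a).subgroupOf C
  have hP : IsPGroup 2 (zpowers a') := by
    rintro ⟨z, hz⟩
    obtain ⟨n, rfl⟩ := mem_zpowers_iff.mp hz
    refine ⟨1, ?_⟩
    apply Subtype.ext
    apply Subtype.ext
    show (a ^ n) ^ 2 ^ 1 = 1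
    rw [← zpow_natCast, ← zpow_mul, mul_comm, zpow_mul, zpow_natCast, pow_one, pow_two, ha,
      one_zpow]
  have hcentr : ∀ c : C, c ∈ centralizer (zpowers a' : Set C) ↔
      (c : G) ∈ centralizer ({a} : Set G) := by
    intro c
    rw [mem_centralizer_iff, mem_centralizer_iff]
    constructor
    · intro h g hg
      rw [Set.mem_singleton_iff.mp hg]
      exact congrArg Subtype.val (h a' (mem_zpowers a'))
    · intro h g hg
      obtain ⟨n, rfl⟩ := mem_zpowers_iff.mp hg
      have h1 : Commute a' c := Subtype.ext (h a rfl)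
      exact (h1.zpow_left n).eq
  have hle : H ≤ pPrimeCore 2 C := by
    apply le_pPrimeCore_of_con hb (zpowers a') hP H
    · exact Nat.Coprime.coprime_dvd_left (card_comap_dvd_of_injective _ _
        C.subtype_injective) (CoreOfCentralizer.card_centralizerPPrimeCore_coprime 2 a)
    · intro h hh
      rw [hcentr]
      exact CoreOfCentralizer.centralizerPPrimeCore_le 2 a hh
    · intro c hc
      rw [hcentr] at hc
      have h1 := CoreOfCentralizer.centralizer_le_normalizer_centralizerPPrimeCore 2 a hc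
      rw [mem_normalizer_iff] at h1 ⊢
      intro g
      exact h1 g
  rintro g ⟨hg1, hg2⟩
  exact ⟨⟨g, hg2⟩, hle hg1, rfl⟩

theorem th_odd (a : G) : Odd (Nat.card (th a)) := by
  have h : ¬ 2 ∣ Nat.card (th a) := Lib.CoreCent.core_card 2 a
  exact Nat.odd_iff.2 (by omega)

theorem th_solvable (a : G) : Group.IsSolvable ↥(th a) := S0205.result (th_odd a)

theorem th_conj (a g : G) : th (g * a * g⁻¹) = (th a).map (MulAut.conj g).toMonoidHom :=
  Lib.CoreCent.core_conj 2 a g

/-- the join of the `O(C_G(e))`, `e ∈ E#` -/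
def W (E : Subgroup G) : Subgroup G := ⨆ a : {a : G // a ∈ E ∧ a ≠ 1}, th (a : G)

theorem le_W {E : Subgroup G} {a : G} (ha : a ∈ E) (ha1 : a ≠ 1) : th a ≤ W E :=
  le_iSup (fun a : {a : G // a ∈ E ∧ a ≠ 1} => th (a : G)) ⟨a, ha, ha1⟩

theorem W_le {E H : Subgroup G} (h : ∀ a ∈ E, a ≠ 1 → th a ≤ H) : W E ≤ H :=
  iSup_le fun a => h a a.2.1 a.2.2

/-- a subgroup generated by the cores of a conjugation invariant family -/
theorem mem_normalizer_of_perm {W : Subgroup G} {X : Set G} (hW : W = ⨆ x : X, th (x : G)) {n : G}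
    (hn : ∀ x ∈ X, n * x * n⁻¹ ∈ X) (hn' : ∀ x ∈ X, n⁻¹ * x * n ∈ X) :
    n ∈ normalizer (W : Set G) := by
  have key : ∀ m : G, (∀ x ∈ X, m * x * m⁻¹ ∈ X) → W.map (MulAut.conj m).toMonoidHom ≤ W := by
    intro m hm
    rw [hW, Subgroup.map_iSup]
    refine iSup_le ?_
    rintro ⟨x, hx⟩
    show (th x).map (MulAut.conj m).toMonoidHom ≤ _
    rw [← th_conj x m]
    exact le_iSup (fun x : X => th (x : G)) ⟨m * x * m⁻¹, hm x hx⟩
  rw [mem_normalizer_iff]
  intro x
  constructor
  · intro hx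
    exact key n hn ⟨x, hx, rfl⟩
  · intro hx
    have h1 := key n⁻¹ (by simpa only [_root_.inv_inv] using hn') ⟨_, hx, rfl⟩
    have h2 : (MulAut.conj n⁻¹).toMonoidHom (n * x * n⁻¹) = x := by
      show n⁻¹ * (n * x * n⁻¹) * n⁻¹⁻¹ = x
      group
    rw [h2] at h1
    exact h1

/-- `E` is elementary abelian, all its non-identity elements are conjugate to `z`. -/
structure Pure (z : G) (E : Subgroup G) : Prop where
  comm : ∀ a ∈ E, ∀ b ∈ E, a * b = b * a
  sq : ∀ a ∈ E, a * a = 1
  card : 8 ≤ Nat.card E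
  conj : ∀ a ∈ E, a ≠ 1 → IsConj z a

variable {z : G} (hz : Con ↥(centralizer ({z} : Set G)))

include hz

theorem closure {E : Subgroup G} (hE : Pure z E) :
    Odd (Nat.card (W E)) ∧ ∀ a ∈ E, a ≠ 1 → W E ⊓ centralizer ({a} : Set G) = th a := by
  have h2 : Fact (Nat.Prime 2) := ⟨Nat.prime_two⟩
  have hV2' : ∀ a ∈ E, a ^ 2 = 1 := fun a ha => by rw [pow_two]; exact hE.sq a ha
  have hmain := SFTwo.result E hE.comm hV2' (by norm_num only []; exact hE.card)
    (fun a => centralizerPPrimeCore 2 a)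
    (fun a _ _ => Lib.CoreCent.core_le 2 a)
    (fun a _ _ => Lib.CoreCent.core_card 2 a)
    (fun a ha _ b hb x hx => by
      have h := Lib.CoreCent.core_normalized 2 a
        (mem_centralizer_singleton_iff.2 (hE.comm b hb a ha))
      exact (mem_normalizer_iff.1 h x).1 hx)
    (fun a _ _ => th_solvable a)
    (fun a ha _ b hb hb1 =>
      balance_of_con a b (hE.comm a ha b hb) (hE.sq a ha) (con_isConj (hE.conj b hb hb1) hz))
  refine ⟨?_, hmain.2⟩
  have h := hmain.1
  rw [Nat.odd_iff]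
  change ¬ 2 ∣ Nat.card (W E) at h
  omega

omit hz in
/-- elements normalising `E` normalise `W` -/
theorem normalizer_le (E : Subgroup G) : normalizer (E : Set G) ≤ normalizer (W E : Set G) := by
  intro n hn
  have hn1 := mem_normalizer_iff.1 hn
  have hn2 := mem_normalizer_iff.1 (inv_mem hn)
  apply mem_normalizer_of_perm (X := {a : G | a ∈ E ∧ a ≠ 1}) rfl
  · rintro x ⟨hx, hx1⟩
    refine ⟨(hn1 x).1 hx, fun h => hx1 ?_⟩
    have := congrArg (fun y => n⁻¹ * y * n) h
    simpa [mul_assoc] using this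
  · rintro x ⟨hx, hx1⟩
    refine ⟨by simpa using (hn2 x).1 hx, fun h => hx1 ?_⟩
    have := congrArg (fun y => n * y * n⁻¹) h
    simpa [mul_assoc] using this

omit hz in
/-- generation by centralizers of the elements of a subgroup of order at least 4 -/
theorem gen_le {F K : Subgroup G} (hFc : ∀ a ∈ F, ∀ b ∈ F, a * b = b * a) (hF2 : ∀ a ∈ F, a * a = 1)
    (hF4 : 4 ≤ Nat.card F) (hK : Odd (Nat.card K)) (hFK : F ≤ normalizer (K : Set G))
    {H : Subgroup G} (h : ∀ f ∈ F, f ≠ 1 → K ⊓ centralizer ({f} : Set G) ≤ H) : K ≤ H := by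
  have : IsMulCommutative F := IsMulCommutative.of_setLike_mul_comm hFc
  have hncyc : ¬ IsCyclic F := by
    intro hcyc
    obtain ⟨g, hg⟩ := IsCyclic.exists_generator (α := F)
    have h3 : orderOf g = Nat.card F := orderOf_eq_card_of_forall_mem_zpowers hg
    have h4 : g ^ 2 = 1 := by
      ext
      simpa only [pow_two, _root_.Subgroup.coe_mul, _root_.OneMemClass.coe_one] using hF2 g g.2
    have h5 : orderOf g ≤ 2 := orderOf_le_of_pow_eq_one (by norm_num) h4
    omega
  have hp : IsPGroup 2 F := by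
    rintro ⟨x, hx⟩
    exact ⟨1, Subtype.ext (by show x ^ 2 ^ 1 = 1; rw [pow_one, pow_two]; exact hF2 x hx)⟩
  have hcop : (Nat.card F).Coprime (Nat.card K) := by
    have h2 : Fact (Nat.Prime 2) := ⟨Nat.prime_two⟩
    obtain ⟨n, hn⟩ := (IsPGroup.iff_card (p := 2)).1 hp
    rw [hn]
    exact Nat.Coprime.pow_left n (Nat.coprime_two_left.2 hK)
  have h7 := S0058.result F K hncyc hFK hcop
  rw [← h7]
  refine iSup₂_le ?_
  rintro a ⟨ha, ha1⟩
  exact h a ha ha1

theorem th_le_W {E : Subgroup G} (hE : Pure z E) {F : Subgroup G} (hFE : F ≤ E)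
    (hF4 : 4 ≤ Nat.card F) {b : G} (hb : ∀ f ∈ F, f * b = b * f) (hb2 : b * b = 1) :
    th b ≤ W E := by
  apply gen_le (F := F) (fun a ha c hc => hE.comm a (hFE ha) c (hFE hc))
    (fun a ha => hE.sq a (hFE ha)) hF4 (th_odd b)
  · intro f hf
    exact Lib.CoreCent.core_normalized 2 b (mem_centralizer_singleton_iff.2 (hb f hf))
  · intro f hf hf1
    refine le_trans (balance_of_con b f (hb f hf).symm hb2 ?_) (le_W (hFE hf) hf1)
    exact con_isConj (hE.conj f (hFE hf) hf1) hz

/-- the normalizer of `A` normalises `W` if `A` is elementary abelian and `|A ∩ E| ≥ 4` -/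
theorem normalizer_le_of_inf {E A : Subgroup G} (hE : Pure z E)
    (hAc : ∀ a ∈ A, ∀ b ∈ A, a * b = b * a) (hA2 : ∀ a ∈ A, a * a = 1)
    (hAE : 4 ≤ Nat.card (A ⊓ E : Subgroup G)) :
    normalizer (A : Set G) ≤ normalizer (W E : Set G) := by
  obtain ⟨hodd, hW⟩ := closure hz hE
  have hEq : W E = ⨆ x : {b : G | b ∈ A ∧ IsConj z b}, th (x : G) := by
    apply le_antisymm
    · apply gen_le (F := A ⊓ E) (fun a ha c hc => hE.comm a ha.2 c hc.2)
        (fun a ha => hE.sq a ha.2) hAE hodd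
      · intro f hf
        apply normalizer_le E
        exact le_normalizer hf.2
      · intro f hf hf1
        rw [hW f hf.2 hf1]
        exact le_iSup (fun x : {b : G | b ∈ A ∧ IsConj z b} => th (x : G))
          ⟨f, hf.1, hE.conj f hf.2 hf1⟩
    · refine iSup_le ?_
      rintro ⟨b, hb, hbz⟩
      exact th_le_W hz hE inf_le_right hAE (fun f hf => hAc f hf.1 b hb) (hA2 b hb)
  intro n hn
  have hn1 := mem_normalizer_iff.1 hn
  have hn2 := mem_normalizer_iff.1 (inv_mem hn)
  apply mem_normalizer_of_perm hEq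
  · rintro x ⟨hx, hx1⟩
    exact ⟨(hn1 x).1 hx, hx1.trans (isConj_iff.2 ⟨n, rfl⟩)⟩
  · rintro x ⟨hx, hx1⟩
    exact ⟨by simpa using (hn2 x).1 hx, hx1.trans (isConj_iff.2 ⟨n⁻¹, by simp⟩)⟩

omit hz in
/-- the centralizer of `z` normalises `W` -/
theorem centralizer_le {E : Subgroup G} (hzE : z ∈ E) (hz1 : z ≠ 1)
    (hC : ∀ g ∈ centralizer ({z} : Set G), ∃ a ∈ th z, ∃ n ∈ normalizer (E : Set G), g = a * n) :
    centralizer ({z} : Set G) ≤ normalizer (W E : Set G) := by
  intro g hg
  obtain ⟨a, ha, n, hn, rfl⟩ := hC g hg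
  exact mul_mem (le_normalizer (le_W hzE hz1 ha)) (normalizer_le E hn)

end

end Cfsg.Agent.SylowL5.Functor
end

-- part: SylowL5/IdentCore
section
/-!
# Identification of an extension of `2^4` with the centralizer of a transvection of `SL(5,2)`

`Cfg em K`: `em` is an isomorphism from `F_2^4` onto a normal, self-centralizing subgroup `E` of `Y`, `K` is a
complement, `em e₃` is central. Then `Y` embeds in `CC`, and `Y ≃* CC` if `21504 ≤ |Y|`.
-/

set_option autoImplicit false

namespace Cfsg.Agent.SylowL5.IdentCore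

open Matrix Cfsg.Agent.SporadicRecognition.HeldModel Cfsg.Agent.Held.AffineIso

/-- `F_2^4` -/
abbrev F4 := Fin 4 → ZMod 2

/-- The configuration. -/
structure Cfg {Y : Type*} [Group Y] (em : F4 → Y) (K : Subgroup Y) : Prop where
  add : ∀ f g, em (f + g) = em f * em g
  inj : Function.Injective em
  conj : ∀ (y : Y) (f : F4), ∃ g, y⁻¹ * em f * y = em g
  cent : ∀ y, (∀ f, y * em f = em f * y) → ∃ f, y = em f
  cover : ∀ y, ∃ k ∈ K, ∃ f, y = k * em f
  disj : ∀ f, em f ∈ K → f = 0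
  zc : ∀ y, y * em (Pi.single 3 1) = em (Pi.single 3 1) * y

namespace Cfg

variable {Y : Type*} [Group Y] {em : F4 → Y} {K : Subgroup Y} (h : Cfg em K)

include h in
theorem em_zero : em 0 = 1 := by
  have h1 := h.add 0 0
  rw [add_zero] at h1
  exact left_eq_mul.mp h1

include h in
theorem em_comm (f g : F4) : em f * em g = em g * em f := by
  rw [← h.add, ← h.add, add_comm]

/-- the action on the right -/
noncomputable def act (y : Y) (f : F4) : F4 := (h.conj y f).choose

theorem act_spec (y : Y) (f : F4) : y⁻¹ * em f * y = em (h.act y f) := (h.conj y f).choose_spec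

theorem act_eq {y : Y} {f g : F4} (e : y⁻¹ * em f * y = em g) : h.act y f = g :=
  h.inj ((h.act_spec y f).symm.trans e)

theorem act_add (y : Y) (f g : F4) : h.act y (f + g) = h.act y f + h.act y g := by
  apply h.act_eq
  rw [h.add, h.add, ← h.act_spec, ← h.act_spec]
  group

theorem act_zero (y : Y) : h.act y 0 = 0 := by
  apply h.act_eq
  rw [h.em_zero]; group

theorem act_mul (y y' : Y) (f : F4) : h.act (y * y') f = h.act y' (h.act y f) := by
  apply h.act_eq
  rw [← h.act_spec, ← h.act_spec]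
  group

theorem act_one (f : F4) : h.act 1 f = f := by
  apply h.act_eq
  group

theorem act_em (f g : F4) : h.act (em f) g = g := by
  apply h.act_eq
  rw [mul_assoc, h.em_comm g f, ← mul_assoc, inv_mul_cancel, one_mul]

/-- the action as a linear map -/
noncomputable def lin (y : Y) : F4 →ₗ[ZMod 2] F4 :=
  AddMonoidHom.toZModLinearMap 2
    { toFun := h.act y
      map_zero' := h.act_zero y
      map_add' := h.act_add y }

theorem lin_apply (y : Y) (f : F4) : h.lin y f = h.act y f := rfl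

/-- the matrix of `y` acting from the right -/
noncomputable def B (y : Y) : Matrix (Fin 4) (Fin 4) (ZMod 2) := (LinearMap.toMatrix' (h.lin y))ᵀ

theorem vecMul_B (y : Y) (f : F4) : f ᵥ* h.B y = h.act y f := by
  rw [B, Matrix.vecMul_transpose, ← Matrix.toLin'_apply, Matrix.toLin'_toMatrix', lin_apply]

theorem B_mul (y y' : Y) : h.B (y * y') = h.B y * h.B y' := by
  have e : h.lin (y * y') = (h.lin y').comp (h.lin y) := by
    apply LinearMap.ext
    intro f
    rw [LinearMap.comp_apply, lin_apply, lin_apply, lin_apply, act_mul]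
  rw [B, B, B, e, LinearMap.toMatrix'_comp, Matrix.transpose_mul]

theorem B_one : h.B 1 = 1 := by
  have e : h.lin 1 = LinearMap.id := by
    apply LinearMap.ext
    intro f
    rw [lin_apply, act_one, LinearMap.id_apply]
  rw [B, e, LinearMap.toMatrix'_id, Matrix.transpose_one]

theorem det_B (y : Y) : (h.B y).det = 1 := by
  have h1 : h.B y * h.B y⁻¹ = 1 := by rw [← B_mul, mul_inv_cancel, B_one]
  have h2 : (h.B y).det * (h.B y⁻¹).det = 1 := by rw [← Matrix.det_mul, h1, Matrix.det_one]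
  have h3 : (h.B y).det ≠ 0 := by
    intro h4; rw [h4, zero_mul] at h2; exact zero_ne_one h2
  revert h3
  generalize (h.B y).det = d
  revert d
  decide

/-- the component in `E` -/
noncomputable def c (y : Y) : F4 := (h.cover y).choose_spec.2.choose

theorem c_spec (y : Y) : ∃ k ∈ K, y = k * em (h.c y) :=
  ⟨(h.cover y).choose, (h.cover y).choose_spec.1, (h.cover y).choose_spec.2.choose_spec⟩

theorem add_self (f : F4) : f + f = 0 := by
  funext i
  exact CharTwo.add_self_eq_zero (f i)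

theorem c_unique {y k : Y} {f : F4} (hk : k ∈ K) (e : y = k * em f) : h.c y = f := by
  obtain ⟨k', hk', e'⟩ := h.c_spec y
  have h1 : em f * (em (h.c y))⁻¹ = k⁻¹ * k' := by
    rw [mul_inv_eq_iff_eq_mul, mul_assoc, ← e', e, inv_mul_cancel_left]
  have h2 : (em (h.c y))⁻¹ = em (h.c y) :=
    inv_eq_of_mul_eq_one_right (by rw [← h.add, add_self, h.em_zero])
  have h3 : em (f + h.c y) ∈ K := by
    rw [h.add, ← h2, h1]
    exact K.mul_mem (K.inv_mem hk) hk'
  have h4 := h.disj _ h3
  have h5 : f + h.c y + h.c y = h.c y := by rw [h4, zero_add]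
  rw [add_assoc, add_self, add_zero] at h5
  exact h5.symm

theorem c_mul (y y' : Y) : h.c (y * y') = h.c y' + h.c y ᵥ* h.B y' := by
  obtain ⟨k, hk, e⟩ := h.c_spec y
  obtain ⟨k', hk', e'⟩ := h.c_spec y'
  have h1 : h.act y' (h.c y) = h.act k' (h.c y) := by
    conv_lhs => rw [e']
    rw [act_mul, act_em]
  apply h.c_unique (K.mul_mem hk hk')
  rw [vecMul_B, h1, add_comm, h.add, ← h.act_spec]
  conv_lhs => rw [e, e']
  group

theorem c_one : h.c 1 = 0 := h.c_unique K.one_mem (by rw [h.em_zero, one_mul])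

/-- the embedding -/
noncomputable def F : Y →* L5 where
  toFun y := slBlk (h.c y) (h.B y) (h.det_B y)
  map_one' := by
    apply Subtype.ext
    show blk (h.c 1) (h.B 1) = 1
    rw [c_one, B_one, blk_one]
  map_mul' y y' := by
    apply Subtype.ext
    show blk (h.c (y * y')) (h.B (y * y')) = blk (h.c y) (h.B y) * blk (h.c y') (h.B y')
    rw [blk_mul, c_mul, B_mul]

theorem F_coe (y : Y) : ((h.F y : L5) : Matrix (Fin 5) (Fin 5) (ZMod 2)) = blk (h.c y) (h.B y) := rfl

theorem F_inj : Function.Injective h.F := by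
  rw [injective_iff_map_eq_one]
  intro y hy
  have h1 : blk (h.c y) (h.B y) = 1 := congrArg Subtype.val hy
  have hB : h.B y = 1 := by
    ext i j
    have h2 := congrFun (congrFun h1 i.succ) j.succ
    rw [blk_succ_succ] at h2
    rw [h2, Matrix.one_apply, Matrix.one_apply]
    simp [Fin.succ_inj]
  have hc : h.c y = 0 := by
    funext j
    have h2 := congrFun (congrFun h1 0) j.succ
    rw [blk_zero_succ] at h2
    rw [h2, Matrix.one_apply, if_neg (Fin.succ_ne_zero j).symm]
    rfl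
  obtain ⟨f, hf⟩ := h.cent y (fun f => by
    have h2 := h.act_spec y f
    rw [← vecMul_B, hB, Matrix.vecMul_one] at h2
    calc y * em f = y * (y⁻¹ * em f * y) := by rw [h2]
      _ = em f * y := by group)
  have h3 := h.c_unique K.one_mem (show y = 1 * em f by rw [one_mul, hf])
  rw [hc] at h3
  rw [hf, ← h3, h.em_zero]

theorem F_mem (y : Y) : h.F y ∈ CC := by
  rw [mem_CC_iff_pat]
  have hz : h.act y (Pi.single 3 1) = Pi.single 3 1 := by
    apply h.act_eq
    rw [mul_assoc, ← h.zc y, inv_mul_cancel_left]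
  intro i j hij
  rw [Matrix.sub_apply, sub_eq_zero, F_coe]
  have hcase : j = 0 ∨ i = 4 := by
    revert hij
    simp only [PC, Bool.and_eq_false_iff, decide_eq_false_iff_not, not_not]
    exact fun h => h
  rcases hcase with rfl | rfl
  · refine Fin.cases ?_ (fun i => ?_) i
    · simp
    · simp
  · have h3 : (4 : Fin 5) = (3 : Fin 4).succ := rfl
    rw [h3]
    refine Fin.cases ?_ (fun j => ?_) j
    · rw [blk_succ_zero, Matrix.one_apply, if_neg (Fin.succ_ne_zero _)]
    · rw [blk_succ_succ]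
      have h4 : h.B y 3 j = (Pi.single 3 1 : F4) j := by
        rw [← hz, ← vecMul_B]
        simp [Matrix.vecMul, dotProduct, Pi.single_apply]
      rw [h4, Matrix.one_apply, Pi.single_apply]
      clear h4
      revert j
      decide

include h in
/-- **Identification**: `Y` is isomorphic to the centralizer of a transvection. -/
theorem nonempty_equiv_CC (hcard : 21504 ≤ Nat.card Y) : Nonempty (Y ≃* CC) := by
  let F' : Y →* CC := h.F.codRestrict CC h.F_mem
  have hinj : Function.Injective F' := fun a b hab => h.F_inj (congrArg Subtype.val hab)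
  have : Finite Y := Nat.finite_of_card_ne_zero (by omega)
  have hb : Function.Bijective F' := hinj.bijective_of_nat_card_le (by
    exact Cfsg.Agent.Held.HeldCardLe.card_CC_le.trans hcard)
  exact ⟨MulEquiv.ofBijective F' hb⟩

include h in
/-- the same with the centralizer of the transvection `1 + E_01` -/
theorem nonempty_equiv (hcard : 21504 ≤ Nat.card Y) (s : L5)
    (hs : (s : Matrix (Fin 5) (Fin 5) (ZMod 2)) = transvection 0 1 1) :
    Nonempty (Y ≃* Subgroup.centralizer ({s} : Set L5)) := by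
  obtain ⟨e⟩ := h.nonempty_equiv_CC hcard
  exact ⟨e.trans (MulEquiv.ofBijective (toCs hs) ⟨toCs_inj hs, toCs_surj hs⟩)⟩

end Cfg

end Cfsg.Agent.SylowL5.IdentCore
end

-- part: SylowL5/SelfCent
section
/-!
# A normal 2-subgroup which is self-centralizing in a Sylow 2-subgroup

If `O(Y) = 1`, `E` is a normal elementary abelian 2-subgroup and `C_S(E) ≤ E`, then `C_Y(E) ≤ E`.
-/

set_option autoImplicit false

namespace Cfsg.Agent.SylowL5.SelfCent

open Cfsg Subgroup
open scoped Pointwise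

variable {Y : Type*} [Group Y] [Finite Y]

theorem exists_conj_mem (S : Sylow 2 Y) {x : Y} {n : ℕ} (hx : x ^ 2 ^ n = 1) :
    ∃ g : Y, g * x * g⁻¹ ∈ (S : Subgroup Y) := by
  have h1 : IsPGroup 2 (zpowers x) := by
    rintro ⟨y, hy⟩
    obtain ⟨k, rfl⟩ := hy
    refine ⟨n, Subtype.ext ?_⟩
    show (x ^ k) ^ 2 ^ n = 1
    rw [← zpow_natCast, ← zpow_mul, mul_comm, zpow_mul, zpow_natCast, hx, one_zpow]
  obtain ⟨P, hP⟩ := h1.exists_le_sylow
  obtain ⟨g, hg⟩ := MulAction.exists_smul_eq Y P S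
  refine ⟨g, ?_⟩
  rw [← hg, Sylow.coe_subgroup_smul]
  have h2 : MulAut.conj g • x ∈ MulAut.conj g • (P : Subgroup Y) :=
    Subgroup.smul_mem_pointwise_smul _ _ _ (hP (mem_zpowers x))
  exact h2

theorem cent_le (S : Sylow 2 Y) (E : Subgroup Y) (hn : E.Normal) (h2 : ∀ x ∈ E, x * x = 1)
    (hS : ∀ s ∈ (S : Subgroup Y), (∀ e ∈ E, s * e = e * s) → s ∈ E)
    (hO : pPrimeCore 2 Y = ⊥) (y : Y) (hy : ∀ e ∈ E, y * e = e * y) : y ∈ E := by
  classical
  have : Fact (Nat.Prime 2) := ⟨Nat.prime_two⟩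
  have hcomm : ∀ x ∈ E, ∀ y ∈ E, x * y = y * x := by
    intro x hx y hy
    have h3 := h2 _ (E.mul_mem hx hy)
    have h4 : x⁻¹ = x := inv_eq_of_mul_eq_one_right (h2 x hx)
    have h5 : y⁻¹ = y := inv_eq_of_mul_eq_one_right (h2 y hy)
    have h6 : x * y = (x * y)⁻¹ := (inv_eq_of_mul_eq_one_right h3).symm
    rw [h6, _root_.mul_inv_rev, h4, h5]
  set D : Subgroup Y := centralizer (E : Set Y) with hD
  have hmemD : ∀ {x : Y}, x ∈ D ↔ ∀ e ∈ E, x * e = e * x := by
    intro x
    rw [hD, mem_centralizer_iff]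
    exact ⟨fun h e he => (h e he).symm, fun h e he => (h e he).symm⟩
  have hDn : D.Normal := by
    constructor
    intro x hx g
    rw [hmemD] at hx ⊢
    intro e he
    have h3 := hx (g⁻¹ * e * g) (by simpa using hn.conj_mem e he g⁻¹)
    calc g * x * g⁻¹ * e = g * (x * (g⁻¹ * e * g)) * g⁻¹ := by group
      _ = g * ((g⁻¹ * e * g) * x) * g⁻¹ := by rw [h3]
      _ = e * (g * x * g⁻¹) := by group
  have hED : E ≤ D := fun x hx => hmemD.2 (hcomm x hx)
  -- 2-elements of `D` lie in `E`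
  have hA : ∀ x ∈ D, ∀ n : ℕ, x ^ 2 ^ n = 1 → x ∈ E := by
    intro x hx n hxn
    obtain ⟨g, hg⟩ := exists_conj_mem S hxn
    have h3 := hS _ hg (hmemD.1 (hDn.conj_mem x hx g))
    have h4 := hn.conj_mem _ h3 g⁻¹
    have h5 : g⁻¹ * (g * x * g⁻¹) * g⁻¹⁻¹ = x := by group
    rwa [h5] at h4
  -- the index of `E` in `D` is odd
  let E' : Subgroup D := E.subgroupOf D
  have hE'n : E'.Normal := hn.subgroupOf D
  obtain ⟨P⟩ : Nonempty (Sylow 2 D) := inferInstance
  have hPE : (P : Subgroup D) ≤ E' := by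
    intro x hx
    obtain ⟨n, hn'⟩ := P.2 ⟨x, hx⟩
    have h3 : (x : Y) ^ 2 ^ n = 1 := by
      have := congrArg (fun w : (P : Subgroup D) => ((w : D) : Y)) hn'
      simpa only [_root_.SubmonoidClass.mk_pow, _root_.SubmonoidClass.coe_pow, _root_.OneMemClass.coe_one] using this
    exact mem_subgroupOf.2 (hA x x.2 n h3)
  have hodd : ¬ 2 ∣ E'.index := by
    intro h3
    exact P.not_dvd_index (h3.trans (Subgroup.index_dvd_of_le hPE))
  have hE'2 : IsPGroup 2 E' := by
    rintro ⟨x, hx⟩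
    refine ⟨1, Subtype.ext (Subtype.ext ?_)⟩
    have := h2 (x : Y) (mem_subgroupOf.1 hx)
    show (x : Y) ^ 2 ^ 1 = 1
    rw [pow_one, pow_two, this]
  have hcop : Nat.Coprime (Nat.card E') E'.index := by
    obtain ⟨n, hn'⟩ := IsPGroup.iff_card.1 hE'2
    rw [hn']
    exact Nat.Coprime.pow_left n ((Nat.prime_two.coprime_iff_not_dvd).2 hodd)
  obtain ⟨H, hH⟩ := Subgroup.exists_right_complement'_of_coprime hcop
  have hHcard : ¬ 2 ∣ Nat.card H := by
    rw [← hH.symm.index_eq_card]; exact hodd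
  -- `H` is normal in `Y`
  set m := Nat.card H with hm
  have hmodd : Odd m := by
    rw [← Nat.not_even_iff_odd, even_iff_two_dvd]; exact hHcard
  let H' : Subgroup Y := H.map D.subtype
  have hH'm : ∀ x ∈ H', x ^ m = 1 := by
    rintro _ ⟨x, hx, rfl⟩
    have h3 : (⟨x, hx⟩ : H) ^ m = 1 := pow_card_eq_one'
    have := congrArg (fun w : H => ((w : D) : Y)) h3
    simpa only [_root_.Subgroup.subtype_apply, _root_.SubmonoidClass.mk_pow, _root_.SubmonoidClass.coe_pow, _root_.OneMemClass.coe_one] using this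
  have hH'n : H'.Normal := by
    constructor
    intro x hx g
    have hxD : x ∈ D := by
      obtain ⟨w, _, rfl⟩ := hx; exact w.2
    have h3 : g * x * g⁻¹ ∈ D := hDn.conj_mem x hxD g
    obtain ⟨⟨⟨e, he⟩, ⟨k, hk⟩⟩, h4, -⟩ := hH.existsUnique (⟨g * x * g⁻¹, h3⟩ : D)
    have h5 : (e : Y) * (k : Y) = g * x * g⁻¹ := congrArg Subtype.val h4
    have heE : (e : Y) ∈ E := mem_subgroupOf.1 he
    have hkH : (k : Y) ∈ H' := ⟨k, hk, rfl⟩
    have h6 : (e : Y) * (k : Y) = k * e := ((hmemD.1 k.2) e heE).symm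
    have h7 : (g * x * g⁻¹) ^ m = 1 := by
      rw [conj_pow, hH'm x hx]; group
    rw [← h5, (show Commute (e : Y) (k : Y) from h6).mul_pow, hH'm _ hkH, mul_one] at h7
    have h8 : (e : Y) = 1 := by
      obtain ⟨r, hr⟩ := hmodd
      rw [hr, pow_succ, pow_mul, pow_two, h2 _ heE, one_pow, one_mul] at h7
      exact h7
    rw [← h5, h8, one_mul]
    exact hkH
  have hH'c : (Nat.card H').Coprime 2 := by
    have h3 : Nat.card H' = m :=
      (Nat.card_congr (H.equivMapOfInjective D.subtype D.subtype_injective).toEquiv).symm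
    rw [h3, Nat.coprime_comm]
    exact (Nat.prime_two.coprime_iff_not_dvd).2 hHcard
  have hbot : H' = ⊥ := by
    have := Cfsg.Agent.Lib.Cores.le_pPrimeCore hH'n hH'c
    rw [hO, le_bot_iff] at this
    exact this
  have hyD : y ∈ D := hmemD.2 hy
  obtain ⟨⟨⟨e, he⟩, ⟨k, hk⟩⟩, h4, -⟩ := hH.existsUnique (⟨y, hyD⟩ : D)
  have h5 : (e : Y) * (k : Y) = y := congrArg Subtype.val h4
  have hkH : (k : Y) ∈ H' := ⟨k, hk, rfl⟩
  rw [hbot, mem_bot] at hkH
  rw [← h5, hkH, mul_one]
  exact mem_subgroupOf.1 he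

end Cfsg.Agent.SylowL5.SelfCent
end

-- part: SylowL5/Ident
section
/-!
# S0512, piece (B5): identification with the centralizer of a transvection

If `Y` has a Sylow 2-subgroup of type `L_5(2)`, `O(Y) = 1`, `Q` is normal, and the fusion data `VData` hold, then `Y`
is isomorphic to the centralizer of a transvection of `SL(5,2)`.
-/

set_option autoImplicit false
set_option linter.unusedSectionVars false

namespace Cfsg.Agent.SylowL5.Ident

open Cfsg Subgroup Cfsg.Agent.SylowL5.Setup Cfsg.Agent.SylowL5.Data Cfsg.Agent.SylowL5.IdentCore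

/-! ### codes of `E2` -/

/-- the code of an element of row `1` -/
def cde (f : F4) : ℕ := (f 0).val + 16 * (f 1).val + 128 * (f 2).val + 512 * (f 3).val

private theorem fa (P : ℕ → Prop) [DecidablePred P]
    (h : (Nat.rec true (fun k r => Bool.rec false r (decide (P k))) 1024 : Bool) = true) (a : Fin 1024) : P a.1 := by
  have key : ∀ n : ℕ, (Nat.rec true (fun k r => Bool.rec false r (decide (P k))) n : Bool) = true → ∀ k < n, P k := by
    intro n
    induction n with
    | zero => exact fun _ k hk => absurd hk (Nat.not_lt_zero k)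
    | succ n ih =>
      intro h k hk
      change (Bool.rec false _ (decide (P n)) : Bool) = true at h
      cases hn : decide (P n)
      · rw [hn] at h
        exact Bool.noConfusion h
      · rw [hn] at h
        rcases Nat.lt_succ_iff_lt_or_eq.1 hk with h1 | rfl
        · exact ih h k h1
        · exact of_decide_eq_true hn
  exact key 1024 h a.1 a.2

theorem cde_lt : ∀ f : F4, cde f < 1024 := by decide +kernel
theorem cde_land : ∀ f : F4, Nat.land (cde f) kE2 = cde f := by decide +kernel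
theorem cde_add : ∀ f g : F4, cde (f + g) = mu (cde f) (cde g) := by decide +kernel
theorem cde_inj : ∀ f g : F4, cde f = cde g → f = g := by decide +kernel
theorem cde_surj : ∀ a : Fin 1024, Nat.land a.1 kE2 = a.1 → ∃ f : F4, cde f = a.1 :=
  fa (fun a => Nat.land a kE2 = a → ∃ f : F4, cde f = a) (by decide +kernel)

theorem cde_sub (f : F4) : SubK (cde f) kE2 := (subK_iff _ _).2 (cde_land f)

/-- row one is self-centralizing -/
theorem cent_codes : ∀ a : Fin 1024, mu a.1 x12 = mu x12 a.1 → mu a.1 x13 = mu x13 a.1 →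
    mu a.1 x14 = mu x14 a.1 → Nat.land a.1 kE2 = a.1 :=
  fa (fun a => mu a x12 = mu x12 a → mu a x13 = mu x13 a → mu a x14 = mu x14 a → Nat.land a kE2 = a) (by decide +kernel)

/-- the mask of the lower right block -/
abbrev kLR : ℕ := 366

theorem decomp : ∀ a : Fin 1024, ∃ f : F4, mu (cde f) (Nat.land a.1 kLR) = a.1 := fun a => by
  have h := List.any_eq_true.1 (fa (fun a => ([0, 16, 128, 144, 512, 528, 640, 656].any fun c =>
    Nat.beq (mu (c + a % 2) (Nat.land a kLR)) a) = true) (by decide +kernel) a)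
  have h2 : ∀ c ∈ [0, 16, 128, 144, 512, 528, 640, 656], ∀ r < 2, ∃ f : F4, cde f = c + r := by decide +kernel
  obtain ⟨c, hc, h⟩ := h
  obtain ⟨f, hf⟩ := h2 c hc _ (Nat.mod_lt a.1 Nat.two_pos)
  exact ⟨f, hf ▸ Nat.eq_of_beq_eq_true h⟩

theorem land_lt : ∀ a : Fin 1024, Nat.land a.1 kLR < 1024 := fun a =>
  lt_of_le_of_lt (Nat.and_le_left (n := a.1) (m := kLR)) a.2
theorem land_land : ∀ a : Fin 1024, Nat.land (Nat.land a.1 kLR) kLR = Nat.land a.1 kLR := fun a =>
  (Nat.and_assoc a.1 kLR kLR).trans (congrArg (a.1 &&& ·) (Nat.and_self kLR))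
theorem disj_codes : ∀ f : F4, Nat.land (cde f) kLR = cde f → f = 0 := by decide +kernel

theorem cj12 : ∀ f : F4, f 0 = 1 → ∃ s : Fin 1024, mu s.1 x12 = mu (cde f) s.1 := by
  (delta Cfsg.Agent.SylowL5.Ident.cde; set_option synthInstance.maxSize 100000 in exact Cfsg.Agent.Lib.Refl.of (by decide +kernel))
theorem cj13 : ∀ f : F4, f 0 = 0 → f 1 = 1 → ∃ s : Fin 1024, mu s.1 x13 = mu (cde f) s.1 := by
  (delta Cfsg.Agent.SylowL5.Ident.cde; set_option synthInstance.maxSize 100000 in exact Cfsg.Agent.Lib.Refl.of (by decide +kernel))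
theorem cj14 : ∀ f : F4, f 0 = 0 → f 1 = 0 → f 2 = 1 →
    ∃ s : Fin 1024, mu s.1 x14 = mu (cde f) s.1 := by
  decide +kernel

theorem comm_codes : ∀ f : F4, f 0 = 0 → f 1 = 0 → ∀ a : Fin 1024, Nat.land a.1 kU1 = a.1 →
    mu (cde f) (mu x45 a.1) = mu (mu x45 a.1) (cde f) → f 2 = 0 := fun f h0 h1 a ha =>
  fa (fun a => Nat.land a kU1 = a → ∀ f : F4, f 0 = 0 → f 1 = 0 → mu (cde f) (mu x45 a) = mu (mu x45 a) (cde f) → f 2 = 0)
    (by decide +kernel) a ha f h0 h1

theorem A1_codes : ∀ f : F4, Nat.land (cde f) kA1 = cde f → f 0 = 0 := by decide +kernel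
theorem A2_codes : ∀ f : F4, Nat.land (cde f) kA2 = cde f ↔ f 0 = 0 ∧ f 1 = 0 := by decide +kernel
theorem U2_codes : ∀ a : Fin 1024, Nat.land a.1 kU2 = a.1 →
    ∃ f : F4, cde f = mu x12 a.1 ∧ f 0 = 1 ∧ f 1 = 0 :=
  fa (fun a => Nat.land a kU2 = a → ∃ f : F4, cde f = mu x12 a ∧ f 0 = 1 ∧ f 1 = 0) (by decide +kernel)

/-! ### a lemma on `2 × 2` matrices -/

/-- one step -/
def step (w v : ZMod 2 × ZMod 2) : ZMod 2 × ZMod 2 := (v.2 * w.1, v.1 + v.2 * w.2)

theorem step8 : ∀ w v : ZMod 2 × ZMod 2, (step w)^[8] v = (step w)^[2] v := by decide +kernel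

theorem step_small : ∀ w : ZMod 2 × ZMod 2, ∀ m : Fin 8, (m.1 = 1 ∨ m.1 = 5 ∨ m.1 = 7) →
    (step w)^[m.1] (1, 0) ≠ (1, 0) := by decide +kernel

theorem step_three (w : ZMod 2 × ZMod 2) (m : ℕ) (hm : Odd m) (h : (step w)^[m] (1, 0) = (1, 0)) :
    3 ∣ m := by
  induction m using Nat.strong_induction_on with
  | _ m ih =>
    rcases Nat.lt_or_ge m 8 with h1 | h1
    · by_contra h3
      have h2 : m = 1 ∨ m = 5 ∨ m = 7 := by
        obtain ⟨r, hr⟩ := hm
        omega
      exact step_small w ⟨m, h1⟩ h2 h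
    · obtain ⟨r, hr⟩ := hm
      have h2 : (step w)^[m - 6] (1, 0) = (1, 0) := by
        have e1 : m = (m - 8) + 8 := by omega
        have e2 : m - 6 = (m - 8) + 2 := by omega
        rw [e2, Function.iterate_add_apply, ← step8, ← Function.iterate_add_apply, ← e1]
        exact h
      have h3 := ih (m - 6) (by omega) ⟨r - 3, by omega⟩ h2
      omega

section main

variable {Y : Type*} [Group Y] [Finite Y] {S : Sylow 2 Y} {u : ℕ → Y}

/-- the coordinates of `E2` -/
def em (u : ℕ → Y) (f : F4) : Y := u (cde f)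

theorem em_mem (h : Emb (S : Subgroup Y) u) (f : F4) : em u f ∈ CS u kE2 :=
  (h.mem_CS (by decide)).2 ⟨cde f, cde_lt f, cde_sub f, rfl⟩

theorem exists_em (h : Emb (S : Subgroup Y) u) {y : Y} (hy : y ∈ CS u kE2) : ∃ f, y = em u f := by
  obtain ⟨a, ha, hs, rfl⟩ := (h.mem_CS (by decide)).1 hy
  obtain ⟨f, hf⟩ := cde_surj ⟨a, ha⟩ ((subK_iff _ _).1 hs)
  exact ⟨f, by rw [em, hf]⟩

theorem em_add (h : Emb (S : Subgroup Y) u) (f g : F4) : em u (f + g) = em u f * em u g := by
  rw [em, cde_add, h.mul (cde_lt f) (cde_lt g)]; rfl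

theorem em_inj (h : Emb (S : Subgroup Y) u) : Function.Injective (em u) := fun f g e =>
  cde_inj f g (h.inj (cde_lt f) (cde_lt g) e)

theorem em_12 : em u (Pi.single 0 1) = u x12 := by
  rw [em]; congr 1
theorem em_13 : em u (Pi.single 1 1) = u x13 := by
  rw [em]; congr 1
theorem em_14 : em u (Pi.single 2 1) = u x14 := by
  rw [em]; congr 1
theorem em_15 : em u (Pi.single 3 1) = u x15 := by
  rw [em]; congr 1

theorem comm_of_mu (h : Emb (S : Subgroup Y) u) {a b : ℕ} (ha : a < 1024) (hb : b < 1024) :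
    u a * u b = u b * u a ↔ mu a b = mu b a := by
  rw [← h.mul ha hb, ← h.mul hb ha]
  exact ⟨fun e => h.inj (mu_lt ha hb) (mu_lt hb ha) e, fun e => by rw [e]⟩

theorem normal_E2 (h : VData S u) (hQ : normalizer (CS u kQ : Set Y) = ⊤) :
    (CS u kE2).Normal := by
  rw [← normalizer_eq_top_iff, eq_top_iff, ← hQ]; exact h.nE2

theorem cent_E2 (h : VData S u) (hQ : normalizer (CS u kQ : Set Y) = ⊤)
    (hO : pPrimeCore 2 Y = ⊥) (y : Y) (hy : ∀ f, y * em u f = em u f * y) : y ∈ CS u kE2 := by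
  apply SelfCent.cent_le S (CS u kE2) (normal_E2 h hQ) ?_ ?_ hO y ?_
  · intro x hx
    obtain ⟨f, rfl⟩ := exists_em h.emb hx
    rw [← em_add h.emb, Cfg.add_self, em]
    exact h.emb.zero
  · intro s hs hc
    obtain ⟨a, ha, rfl⟩ := h.emb.surj s hs
    have h1 := cent_codes ⟨a, ha⟩
      ((comm_of_mu h.emb ha (by norm_num)).1 (by rw [← em_12 (u := u)]; exact hc _ (em_mem h.emb _)))
      ((comm_of_mu h.emb ha (by norm_num)).1 (by rw [← em_13 (u := u)]; exact hc _ (em_mem h.emb _)))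
      ((comm_of_mu h.emb ha (by norm_num)).1 (by rw [← em_14 (u := u)]; exact hc _ (em_mem h.emb _)))
    exact (h.emb.mem_CS (by decide)).2 ⟨a, ha, (subK_iff _ _).2 h1, rfl⟩
  · intro e he
    obtain ⟨f, rfl⟩ := exists_em h.emb he
    exact hy f

/-- the configuration of `IdentCore` -/
theorem exists_cfg (h : VData S u) (hQ : normalizer (CS u kQ : Set Y) = ⊤)
    (hO : pPrimeCore 2 Y = ⊥) : ∃ K : Subgroup Y, Cfg (em u) K := by
  have hN := normal_E2 h hQ
  have : Fact (Nat.Prime 2) := ⟨Nat.prime_two⟩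
  have hcomm : ∀ x ∈ CS u kE2, ∀ y ∈ CS u kE2, x * y = y * x := by
    intro x hx y hy
    obtain ⟨f, rfl⟩ := exists_em h.emb hx
    obtain ⟨g, rfl⟩ := exists_em h.emb hy
    rw [← em_add h.emb, ← em_add h.emb, add_comm]
  have hE2S : CS u kE2 ≤ (S : Subgroup Y) := h.emb.CS_le _
  have hlS : CS u kLR ≤ (S : Subgroup Y) := h.emb.CS_le _
  have hinf : CS u kLR ⊓ CS u kE2 = ⊥ := by
    rw [eq_bot_iff]
    rintro x ⟨h1, h2⟩
    obtain ⟨f, rfl⟩ := exists_em h.emb h2
    obtain ⟨a, ha, hs, e⟩ := (h.emb.mem_CS (by decide)).1 h1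
    have h3 := h.emb.inj ha (cde_lt f) e
    rw [h3] at hs
    rw [disj_codes f ((subK_iff _ _).1 hs), mem_bot]
    exact h.emb.zero
  have hsup : CS u kE2 ⊔ CS u kLR = (S : Subgroup Y) := by
    apply le_antisymm (sup_le hE2S hlS)
    intro s hs
    obtain ⟨a, ha, rfl⟩ := h.emb.surj s hs
    obtain ⟨f, hf⟩ := decomp ⟨a, ha⟩
    have hl := land_lt ⟨a, ha⟩
    have h1 : u a = em u f * u (Nat.land a kLR) := by
      rw [em, ← h.emb.mul (cde_lt f) hl, hf]
    rw [h1]
    exact mul_mem_sup (em_mem h.emb f)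
      ((h.emb.mem_CS (by decide)).2 ⟨_, hl, (subK_iff _ _).2 (land_land ⟨a, ha⟩), rfl⟩)
  have hcop : (Nat.card (CS u kE2)).Coprime (S : Subgroup Y).index := by
    obtain ⟨n, hn⟩ := IsPGroup.iff_card.1 (S.2.to_le hE2S)
    rw [hn]
    exact Nat.Coprime.pow_left n ((Nat.prime_two.coprime_iff_not_dvd).2 S.not_dvd_index)
  have hab : IsMulCommutative (CS u kE2) :=
    ⟨⟨fun x y => Subtype.ext (hcomm x x.2 y y.2)⟩⟩
  obtain ⟨K, hK⟩ := Cfsg.Agent.Solvable.Gaschutz.exists_complement (CS u kE2) (S : Subgroup Y)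
    hcop.pow_left_bijective (CS u kLR) hinf hsup
  refine ⟨K, ⟨em_add h.emb, em_inj h.emb, ?_, ?_, ?_, ?_, ?_⟩⟩
  · intro y f
    have h1 := hN.conj_mem (em u f) (em_mem h.emb f) y⁻¹
    rw [inv_inv] at h1
    exact exists_em h.emb h1
  · intro y hy
    exact exists_em h.emb (cent_E2 h hQ hO y hy)
  · intro y
    obtain ⟨⟨⟨e, he⟩, ⟨k, hk⟩⟩, h1, -⟩ := hK.existsUnique y
    have h2 : e * k = y := h1
    have h3 := hN.conj_mem e he k⁻¹
    rw [inv_inv] at h3
    obtain ⟨f, hf⟩ := exists_em h.emb h3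
    refine ⟨k, hk, f, ?_⟩
    rw [← hf, ← h2]; group
  · intro f hf
    have h1 : em u f ∈ CS u kE2 ⊓ K := ⟨em_mem h.emb f, hf⟩
    rw [hK.disjoint.eq_bot, mem_bot] at h1
    apply em_inj h.emb
    rw [h1, em]
    exact h.emb.zero.symm
  · intro y
    rw [em_15]; exact h.zc y

theorem isConj_of_mu (h : Emb (S : Subgroup Y) u) {a b s : ℕ} (ha : a < 1024) (hb : b < 1024)
    (hs : s < 1024) (e : mu s a = mu b s) : IsConj (u a) (u b) := by
  rw [isConj_iff]
  refine ⟨u s, ?_⟩
  rw [mul_inv_eq_iff_eq_mul, ← h.mul hs ha, ← h.mul hb hs, e]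

/-- all noncentral elements of `E2` are conjugate -/
theorem isConj_em (h : VData S u) (hQ : normalizer (CS u kQ : Set Y) = ⊤) (f : F4)
    (hf : f 0 ≠ 0 ∨ f 1 ≠ 0 ∨ f 2 ≠ 0) : IsConj (u x14) (em u f) := by
  have hN := normal_E2 h hQ
  have one_of_ne : ∀ a : ZMod 2, a ≠ 0 → a = 1 := by decide
  -- `x13 ~ x12`
  have hc1 : IsConj (u x13) (u x12) := by
    obtain ⟨k, -, -, -, a, ha, hs, hk⟩ := h.k2
    obtain ⟨g, hg, hg0, -⟩ := U2_codes ⟨a, ha⟩ ((subK_iff _ _).1 hs)
    have h1 : IsConj (u x13) (u (cde g)) := by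
      rw [isConj_iff]
      exact ⟨k, by rw [hk, hg]⟩
    obtain ⟨s, hs'⟩ := cj12 g hg0
    exact h1.trans (isConj_of_mu h.emb (by norm_num) (cde_lt g) s.2 hs').symm
  -- `x14 ~ x13`
  have hc2 : IsConj (u x14) (u x13) := by
    obtain ⟨k, -, -, hA1, a, ha, hs, hk⟩ := h.k3
    have h1 : k * em u (Pi.single 2 1) * k⁻¹ ∈ CS u kE2 := hN.conj_mem _ (em_mem h.emb _) k
    obtain ⟨g, hg⟩ := exists_em h.emb h1
    rw [em_14] at hg
    have h2 : u x14 ∈ CS u kA1 := (h.emb.mem_CS (by decide)).2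
      ⟨x14, by norm_num, (subK_iff _ _).2 (by decide), rfl⟩
    have h3 : k * u x14 * k⁻¹ ∈ CS u kA1 := (mem_normalizer_iff.1 hA1 _).1 h2
    rw [hg] at h3
    obtain ⟨b, hb, hbs, hbe⟩ := (h.emb.mem_CS (by decide)).1 h3
    have h4 := h.emb.inj hb (cde_lt g) hbe
    rw [h4] at hbs
    have hg0 := A1_codes g ((subK_iff _ _).1 hbs)
    have h5 : IsConj (u x14) (u (cde g)) := by
      rw [isConj_iff]; exact ⟨k, hg⟩
    by_cases hg1 : g 1 = 0
    · exfalso
      have h6 : u x14 * u x35 = u x35 * u x14 :=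
        (comm_of_mu h.emb (by norm_num) (by norm_num)).2 (by decide)
      have h7 : (k * u x14 * k⁻¹) * (k * u x35 * k⁻¹) = (k * u x35 * k⁻¹) * (k * u x14 * k⁻¹) := by
        calc (k * u x14 * k⁻¹) * (k * u x35 * k⁻¹) = k * (u x14 * u x35) * k⁻¹ := by group
          _ = k * (u x35 * u x14) * k⁻¹ := by rw [h6]
          _ = _ := by group
      rw [hg, hk] at h7
      have h8 := comm_codes g hg0 hg1 ⟨a, ha⟩ ((subK_iff _ _).1 hs)
        ((comm_of_mu h.emb (cde_lt g) (mu_lt (by norm_num) ha)).1 h7)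
      have h9 : u x14 = k⁻¹ * em u g * k := by rw [← hg]; group
      have h10 : em u g * k = k * em u g := by
        have hcases : g 3 = 0 ∨ g 3 = 1 := by
          generalize g 3 = c
          revert c
          decide
        rcases hcases with h11 | h11
        · have : g = 0 := by
            funext i
            fin_cases i
            · exact hg0
            · exact hg1
            · exact h8
            · exact h11
          rw [this, em]
          have e0 : u (cde 0) = 1 := h.emb.zero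
          rw [e0, one_mul, mul_one]
        · have : g = Pi.single 3 1 := by
            funext i
            fin_cases i
            · exact hg0
            · exact hg1
            · exact h8
            · exact h11
          rw [this, em_15]
          exact (h.zc k).symm
      rw [mul_assoc, h10, ← mul_assoc, inv_mul_cancel, one_mul] at h9
      have h11 := h.emb.inj (by norm_num) (cde_lt g) h9
      have h12 : ∀ g : F4, g 2 = 0 → x14 ≠ cde g := by decide +kernel
      exact h12 g h8 h11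
    · have h6 := one_of_ne _ hg1
      obtain ⟨s, hs'⟩ := cj13 g hg0 h6
      exact h5.trans (isConj_of_mu h.emb (by norm_num) (cde_lt g) s.2 hs').symm
  by_cases h0 : f 0 = 0
  · by_cases h1 : f 1 = 0
    · have h2 : f 2 = 1 := one_of_ne _ (by
        rcases hf with h3 | h3 | h3
        · exact absurd h0 h3
        · exact absurd h1 h3
        · exact h3)
      obtain ⟨s, hs'⟩ := cj14 f h0 h1 h2
      exact isConj_of_mu h.emb (by norm_num) (cde_lt f) s.2 hs'
    · obtain ⟨s, hs'⟩ := cj13 f h0 (one_of_ne _ h1)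
      exact hc2.trans (isConj_of_mu h.emb (by norm_num) (cde_lt f) s.2 hs')
  · obtain ⟨s, hs'⟩ := cj12 f (one_of_ne _ h0)
    exact (hc2.trans hc1).trans (isConj_of_mu h.emb (by norm_num) (cde_lt f) s.2 hs')

theorem card_noncentral : Nat.card {f : F4 // f 0 ≠ 0 ∨ f 1 ≠ 0 ∨ f 2 ≠ 0} = 14 := by
  rw [Nat.card_eq_fintype_card]; decide +kernel

theorem fourteen_dvd (h : VData S u) (hQ : normalizer (CS u kQ : Set Y) = ⊤) :
    14 ∣ Nat.card Y := by
  have hN := normal_E2 h hQ
  have hset : MulAction.orbit (ConjAct Y) (u x14) =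
      Set.range (fun f : {f : F4 // f 0 ≠ 0 ∨ f 1 ≠ 0 ∨ f 2 ≠ 0} => em u f.1) := by
    ext y
    rw [ConjAct.mem_orbit_conjAct]
    constructor
    · intro hy
      obtain ⟨k, hk⟩ := isConj_iff.1 hy.symm
      have h1 : k * em u (Pi.single 2 1) * k⁻¹ ∈ CS u kE2 := hN.conj_mem _ (em_mem h.emb _) k
      rw [em_14, hk] at h1
      obtain ⟨g, hg⟩ := exists_em h.emb h1
      refine ⟨⟨g, ?_⟩, hg.symm⟩
      by_contra hcon
      simp only [not_or, not_not] at hcon
      have h10 : em u g * k = k * em u g := by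
        have hcases : g 3 = 0 ∨ g 3 = 1 := by
          generalize g 3 = c
          revert c
          decide
        rcases hcases with h11 | h11
        · have : g = 0 := by
            funext i
            fin_cases i
            · exact hcon.1
            · exact hcon.2.1
            · exact hcon.2.2
            · exact h11
          rw [this, em]
          have e0 : u (cde 0) = 1 := h.emb.zero
          rw [e0, one_mul, mul_one]
        · have : g = Pi.single 3 1 := by
            funext i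
            fin_cases i
            · exact hcon.1
            · exact hcon.2.1
            · exact hcon.2.2
            · exact h11
          rw [this, em_15]
          exact (h.zc k).symm
      have h9 : u x14 = k⁻¹ * em u g * k := by rw [← hg, ← hk]; group
      rw [mul_assoc, h10, ← mul_assoc, inv_mul_cancel, one_mul] at h9
      have h11 := h.emb.inj (by norm_num) (cde_lt g) h9
      have h12 : ∀ g : F4, g 2 = 0 → x14 ≠ cde g := by decide +kernel
      exact h12 g hcon.2.2 h11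
    · rintro ⟨⟨f, hf⟩, rfl⟩
      exact (isConj_em h hQ f hf).symm
  have h1 : (MulAction.orbit (ConjAct Y) (u x14)).ncard = 14 := by
    rw [← Nat.card_coe_set_eq, hset, ← card_noncentral]
    exact (Nat.card_congr (Equiv.ofInjective _ (fun a b hab =>
      Subtype.ext (em_inj h.emb hab)))).symm
  have h3 : Nat.card (ConjAct Y) = Nat.card Y := rfl
  rw [← h1, ← MulAction.index_stabilizer, ← h3]
  exact Subgroup.index_dvd_card _

theorem three_dvd (h : VData S u) {K : Subgroup Y} (hc : Cfg (em u) K) : 3 ∣ Nat.card Y := by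
  obtain ⟨k, -, hodd, hA2, a, ha, hs, hk⟩ := h.k2
  obtain ⟨g, hg, hg0, hg1⟩ := U2_codes ⟨a, ha⟩ ((subK_iff _ _).1 hs)
  -- the action of `k` on `E2`
  have hact : hc.act k g = Pi.single 1 1 := by
    apply hc.act_eq
    rw [em_13]
    have h1 : em u g = k * u x13 * k⁻¹ := by rw [hk, em, hg]
    rw [h1]; group
  have hD : ∀ f : F4, f 0 = 0 → f 1 = 0 → hc.act k f 0 = 0 ∧ hc.act k f 1 = 0 := by
    intro f h0 h1
    have h2 : em u f ∈ CS u kA2 := (h.emb.mem_CS (by decide)).2
      ⟨cde f, cde_lt f, (subK_iff _ _).2 ((A2_codes f).2 ⟨h0, h1⟩), rfl⟩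
    have h3 : k⁻¹ * em u f * k ∈ CS u kA2 := (mem_normalizer_iff''.1 hA2 _).1 h2
    rw [hc.act_spec] at h3
    obtain ⟨b, hb, hbs, hbe⟩ := (h.emb.mem_CS (by decide)).1 h3
    have h4 := h.emb.inj hb (cde_lt _) hbe
    rw [h4] at hbs
    exact (A2_codes _).1 ((subK_iff _ _).1 hbs)
  set w : ZMod 2 × ZMod 2 := (hc.act k (Pi.single 1 1) 0, hc.act k (Pi.single 1 1) 1) with hw
  have key : ∀ f : F4, (hc.act k f 0, hc.act k f 1) = step w (f 0, f 1) := by
    intro f
    -- `f = f 0 • g + f 1 • e₁ + d`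
    have hsmul : ∀ (c : ZMod 2) (f' : F4), hc.act k (c • f') = c • hc.act k f' := by
      intro c f'
      rw [← hc.lin_apply, ← hc.lin_apply, map_smul]
    have hd := hD (f - f 0 • g - f 1 • Pi.single 1 1) (by simp [hg0]) (by simp [hg1])
    have h1 : hc.act k f = hc.act k (f - f 0 • g - f 1 • Pi.single 1 1) +
        (f 0 • Pi.single 1 1 + f 1 • hc.act k (Pi.single 1 1)) := by
      have e1 : f 0 • (Pi.single 1 1 : F4) = hc.act k (f 0 • g) := by rw [hsmul, hact]
      have e2 : f 1 • hc.act k (Pi.single 1 1) = hc.act k (f 1 • Pi.single 1 1) :=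
        (hsmul _ _).symm
      rw [e1, e2, ← hc.act_add, ← hc.act_add]
      congr 1
      abel
    rw [h1]
    simp only [Pi.add_apply, Pi.smul_apply, smul_eq_mul, hd.1, hd.2, step, hw, zero_add]
    simp
  have hit : ∀ n : ℕ, (hc.act (k ^ n) (Pi.single 0 1) 0, hc.act (k ^ n) (Pi.single 0 1) 1) =
      (step w)^[n] (1, 0) := by
    intro n
    induction n with
    | zero => rw [pow_zero, hc.act_one]; rfl
    | succ n ih =>
      rw [pow_succ, hc.act_mul, key, ih, Function.iterate_succ_apply']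
  have h1 := hit (orderOf k)
  rw [pow_orderOf_eq_one, hc.act_one] at h1
  have h2 := step_three w (orderOf k) hodd (by rw [← h1]; rfl)
  exact h2.trans (_root_.orderOf_dvd_natCard k)

/-- **(B5)** -/
theorem nonempty_equiv (h : VData S u) (hQ : normalizer (CS u kQ : Set Y) = ⊤)
    (hO : pPrimeCore 2 Y = ⊥) (s : Matrix.SpecialLinearGroup (Fin 5) (ZMod 2))
    (hs : (s : Matrix (Fin 5) (Fin 5) (ZMod 2)) = Matrix.transvection 0 1 1) :
    Nonempty (Y ≃* Subgroup.centralizer ({s} : Set (Matrix.SpecialLinearGroup (Fin 5) (ZMod 2)))) := by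
  obtain ⟨K, hc⟩ := exists_cfg h hQ hO
  apply hc.nonempty_equiv ?_ s hs
  have h1 : 1024 ∣ Nat.card Y := by
    rw [← h.emb.card]; exact Subgroup.card_subgroup_dvd_card _
  have h2 : 7 ∣ Nat.card Y := (show 7 ∣ 14 by norm_num).trans (fourteen_dvd h hQ)
  have h3 := three_dvd h hc
  have h4 : 7 * 3 ∣ Nat.card Y := Nat.Coprime.mul_dvd_of_dvd_of_dvd (by norm_num) h2 h3
  have h5 : 1024 * (7 * 3) ∣ Nat.card Y :=
    Nat.Coprime.mul_dvd_of_dvd_of_dvd (by norm_num) h1 h4
  exact Nat.le_of_dvd Nat.card_pos h5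

end main

end Cfsg.Agent.SylowL5.Ident
end

-- part: SylowL5/Quot
section
/-!
# `VData` and `Solved` pass to `Y / O(Y)`; `Y / O(Y)` is the centralizer of a transvection
-/

set_option autoImplicit false

namespace Cfsg.Agent.SylowL5.Quot

open Cfsg Subgroup Cfsg.Agent.SylowL5.Setup Cfsg.Agent.SylowL5.Data Cfsg.Agent.SylowL5.Functor

section general

variable {Y : Type*} [Group Y] [Finite Y]

/-- a normal subgroup `Q` of a group with `O(Y) = 1`: `C_S(Q) ≤ Q` implies `C_Y(Q) ≤ Q`. -/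
theorem centralizer_le_of_normal (hO : pPrimeCore 2 Y = ⊥) (S : Sylow 2 Y) (Q : Subgroup Y)
    (hQ : Q.Normal) (hS : ∀ s ∈ (S : Subgroup Y), (∀ q ∈ Q, s * q = q * s) → s ∈ Q) :
    centralizer (Q : Set Y) ≤ Q := by
  classical
  have : Fact (Nat.Prime 2) := ⟨Nat.prime_two⟩
  set D : Subgroup Y := centralizer (Q : Set Y) with hD
  have hmemD : ∀ {x : Y}, x ∈ D ↔ ∀ e ∈ Q, x * e = e * x := by
    intro x
    rw [hD, mem_centralizer_iff]
    exact ⟨fun h e he => (h e he).symm, fun h e he => (h e he).symm⟩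
  have hDn : D.Normal := by
    constructor
    intro x hx g
    rw [hmemD] at hx ⊢
    intro e he
    have h3 := hx (g⁻¹ * e * g) (by simpa using hQ.conj_mem e he g⁻¹)
    calc g * x * g⁻¹ * e = g * (x * (g⁻¹ * e * g)) * g⁻¹ := by group
      _ = g * ((g⁻¹ * e * g) * x) * g⁻¹ := by rw [h3]
      _ = e * (g * x * g⁻¹) := by group
  -- 2-elements of `D` lie in `Q`
  have hA : ∀ x ∈ D, ∀ n : ℕ, x ^ 2 ^ n = 1 → x ∈ Q := by
    intro x hx n hxn
    obtain ⟨g, hg⟩ := SelfCent.exists_conj_mem S hxn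
    have h3 := hS _ hg (hmemD.1 (hDn.conj_mem x hx g))
    have h4 := hQ.conj_mem _ h3 g⁻¹
    have h5 : g⁻¹ * (g * x * g⁻¹) * g⁻¹⁻¹ = x := by group
    rwa [h5] at h4
  -- a Sylow 2-subgroup of `D` is central in `D`
  obtain ⟨P⟩ : Nonempty (Sylow 2 D) := inferInstance
  have hPQ : ∀ x : D, x ∈ (P : Subgroup D) → (x : Y) ∈ Q := by
    intro x hx
    obtain ⟨n, hn'⟩ := P.2 ⟨x, hx⟩
    have h3 : (x : Y) ^ 2 ^ n = 1 := by
      have := congrArg (fun w : (P : Subgroup D) => ((w : D) : Y)) hn'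
      simpa only [_root_.SubmonoidClass.mk_pow, _root_.SubmonoidClass.coe_pow, _root_.OneMemClass.coe_one] using this
    exact hA x x.2 n h3
  have hPc : ∀ x : D, x ∈ (P : Subgroup D) → ∀ y : D, y * x = x * y := by
    intro x hx y
    apply Subtype.ext
    exact hmemD.1 y.2 x (hPQ x hx)
  have hcompl := MonoidHom.ker_transferSylow_isComplement' P (by
    intro x _
    rw [mem_centralizer_iff]
    intro y hy
    exact (hPc y hy x).symm)
  set K := (MonoidHom.transferSylow P (by
    intro x _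
    rw [mem_centralizer_iff]
    intro y hy
    exact (hPc y hy x).symm)).ker with hK
  have hKn : K.Normal := MonoidHom.normal_ker _
  have hKodd : (Nat.card K).Coprime 2 := by
    rw [← hcompl.index_eq_card, Nat.coprime_comm]
    exact (Nat.prime_two.coprime_iff_not_dvd).2 P.not_dvd_index
  have hKle : K ≤ pPrimeCore 2 D := Lib.Cores.le_pPrimeCore hKn hKodd
  have hbot : pPrimeCore 2 D = ⊥ := by
    have h1 := Lib.Cores.map_subtype_pPrimeCore 2 hDn
    rw [hO, inf_bot_eq] at h1
    exact (Subgroup.map_eq_bot_iff_of_injective _ D.subtype_injective).1 h1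
  rw [hbot, le_bot_iff] at hKle
  have hPtop : (P : Subgroup D) = ⊤ := by
    have := hcompl
    rw [hKle] at this
    exact Subgroup.isComplement'_bot_left.1 this
  intro x hx
  exact hPQ ⟨x, hx⟩ (by rw [hPtop]; trivial)

/-- image of a Sylow subgroup -/
theorem inf_eq_one (S : Sylow 2 Y) {x : Y} (hx : x ∈ (S : Subgroup Y)) (hxO : x ∈ pPrimeCore 2 Y) :
    x = 1 := by
  have h2 : Fact (Nat.Prime 2) := ⟨Nat.prime_two⟩
  have hdis : Disjoint (S : Subgroup Y) (pPrimeCore 2 Y) := by
    apply Subgroup.disjoint_of_coprime_natCard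
    obtain ⟨n, hn⟩ := IsPGroup.iff_card.mp S.isPGroup'
    rw [hn]
    exact (Lib.Cores.pPrimeCore_coprime (G := Y) 2).symm.pow_left n
  exact Subgroup.mem_bot.1 (hdis.le_bot ⟨hx, hxO⟩)

end general

section vdata

variable {Y : Type*} [Group Y] [Finite Y] {S : Sylow 2 Y} {u : ℕ → Y}

theorem closed_Q : closedK kQ = true := by decide
theorem closed_E1 : closedK kE1 = true := by decide
theorem closed_E2 : closedK kE2 = true := by decide
theorem closed_A1 : closedK kA1 = true := by decide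
theorem closed_A2 : closedK kA2 = true := by decide

/-- the quotient map -/
abbrev q (Y : Type*) [Group Y] : Y →* Y ⧸ pPrimeCore 2 Y := QuotientGroup.mk' (pPrimeCore 2 Y)

theorem q_surj : Function.Surjective (q Y) := QuotientGroup.mk'_surjective _

/-- the image of the Sylow subgroup -/
noncomputable def Sq (S : Sylow 2 Y) : Sylow 2 (Y ⧸ pPrimeCore 2 Y) :=
  S.mapSurjective (q_surj (Y := Y))

theorem coe_Sq (S : Sylow 2 Y) :
    ((Sq S : Sylow 2 (Y ⧸ pPrimeCore 2 Y)) : Subgroup (Y ⧸ pPrimeCore 2 Y)) =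
      (S : Subgroup Y).map (q Y) := rfl

theorem emb_quot (h : Emb (S : Subgroup Y) u) :
    Emb ((Sq S : Sylow 2 (Y ⧸ pPrimeCore 2 Y)) : Subgroup (Y ⧸ pPrimeCore 2 Y))
      (fun a => q Y (u a)) := by
  refine ⟨?_, ?_, ?_, ?_⟩
  · intro a b ha hb
    show q Y (u (mu a b)) = q Y (u a) * q Y (u b)
    rw [h.mul ha hb, map_mul]
  · intro a b ha hb hab
    apply h.inj ha hb
    have h1 : (u a)⁻¹ * u b ∈ pPrimeCore 2 Y := QuotientGroup.eq.1 hab
    have h2 := inf_eq_one S ((S : Subgroup Y).mul_mem ((S : Subgroup Y).inv_mem (h.mem ha))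
      (h.mem hb)) h1
    exact inv_mul_eq_one.1 h2
  · intro a ha
    rw [coe_Sq]
    exact ⟨u a, h.mem ha, rfl⟩
  · intro g hg
    rw [coe_Sq] at hg
    obtain ⟨s, hs, rfl⟩ := hg
    obtain ⟨a, ha, rfl⟩ := h.surj s hs
    exact ⟨a, ha, rfl⟩

theorem CS_quot (u : ℕ → Y) (K : ℕ) : CS (fun a => q Y (u a)) K = (CS u K).map (q Y) := by
  unfold CS
  rw [MonoidHom.map_closure]
  congr 1
  ext g
  constructor
  · rintro ⟨a, ha, haK, rfl⟩
    exact ⟨u a, ⟨a, ha, haK, rfl⟩, rfl⟩
  · rintro ⟨_, ⟨a, ha, haK, rfl⟩, rfl⟩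
    exact ⟨a, ha, haK, rfl⟩

theorem top_of_solved {N : Subgroup Y} (hs : Solved N) : N.map (q Y) = ⊤ := by
  rw [eq_top_iff]
  intro x _
  obtain ⟨y, rfl⟩ := q_surj x
  obtain ⟨a, ha, n, hn, rfl⟩ := hs y
  refine ⟨n, hn, ?_⟩
  rw [map_mul]
  have h1 : q Y a = 1 := (QuotientGroup.eq_one_iff a).2 ha
  rw [h1, one_mul]

theorem norm_quot {N : Subgroup Y} (hs : Solved N) (H : Subgroup Y)
    (hN : N ≤ normalizer (H : Set Y)) : normalizer (H.map (q Y) : Set (Y ⧸ pPrimeCore 2 Y)) = ⊤ := by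
  rw [eq_top_iff, ← top_of_solved hs]
  exact (Subgroup.map_mono hN).trans (le_normalizer_map (q Y))

theorem vdata_quot (h : VData S u) (hs : Solved (normalizer (CS u kQ : Set Y))) :
    VData (Sq S) (fun a => q Y (u a)) := by
  have hQ : normalizer (CS (fun a => q Y (u a)) kQ : Set (Y ⧸ pPrimeCore 2 Y)) = ⊤ := by
    rw [CS_quot]; exact norm_quot hs _ le_rfl
  have hE1 : normalizer (CS (fun a => q Y (u a)) kE1 : Set (Y ⧸ pPrimeCore 2 Y)) = ⊤ := by
    rw [CS_quot]; exact norm_quot hs _ h.nE1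
  have hE2 : normalizer (CS (fun a => q Y (u a)) kE2 : Set (Y ⧸ pPrimeCore 2 Y)) = ⊤ := by
    rw [CS_quot]; exact norm_quot hs _ h.nE2
  refine ⟨emb_quot h.emb, ?_, ?_, ?_, ?_, ?_, ?_⟩
  · intro g
    obtain ⟨y, rfl⟩ := q_surj g
    show q Y y * q Y (u x15) = q Y (u x15) * q Y y
    rw [← map_mul, ← map_mul, h.zc]
  · intro s hs' g _
    have h1 : g ∈ normalizer (CS (fun a => q Y (u a)) kQ : Set (Y ⧸ pPrimeCore 2 Y)) := by
      rw [hQ]; trivial
    exact (mem_normalizer_iff.1 h1 s).1 hs'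
  · rw [hE1]; exact le_top
  · rw [hE2]; exact le_top
  · obtain ⟨k, hk1, hk2, hk3, a, ha, haK, hk4⟩ := h.k3
    refine ⟨q Y k, by rw [hQ]; trivial, ?_, ?_, a, ha, haK, ?_⟩
    · exact Odd.of_dvd_nat hk2 (orderOf_map_dvd (q Y) k)
    · rw [CS_quot]
      exact le_normalizer_map (q Y) ⟨k, hk3, rfl⟩
    · show q Y k * q Y (u x35) * (q Y k)⁻¹ = q Y (u (mu x45 a))
      rw [← hk4, map_mul, map_mul, map_inv]
  · obtain ⟨k, hk1, hk2, hk3, a, ha, haK, hk4⟩ := h.k2
    refine ⟨q Y k, by rw [hQ]; trivial, ?_, ?_, a, ha, haK, ?_⟩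
    · exact Odd.of_dvd_nat hk2 (orderOf_map_dvd (q Y) k)
    · rw [CS_quot]
      exact le_normalizer_map (q Y) ⟨k, hk3, rfl⟩
    · show q Y k * q Y (u x13) * (q Y k)⁻¹ = q Y (u (mu x12 a))
      rw [← hk4, map_mul, map_mul, map_inv]

theorem norm_Q_quot (hs : Solved (normalizer (CS u kQ : Set Y))) :
    normalizer (CS (fun a => q Y (u a)) kQ : Set (Y ⧸ pPrimeCore 2 Y)) = ⊤ := by
  rw [CS_quot]; exact norm_quot hs _ le_rfl

/-- `Y / O(Y)` is the centralizer of a transvection -/
theorem nonempty_equiv (h : VData S u) (hs : Solved (normalizer (CS u kQ : Set Y)))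
    (s : Matrix.SpecialLinearGroup (Fin 5) (ZMod 2))
    (hs' : (s : Matrix (Fin 5) (Fin 5) (ZMod 2)) = Matrix.transvection 0 1 1) :
    Nonempty (Y ⧸ pPrimeCore 2 Y ≃*
      Subgroup.centralizer ({s} : Set (Matrix.SpecialLinearGroup (Fin 5) (ZMod 2)))) :=
  Ident.nonempty_equiv (vdata_quot h hs) (norm_Q_quot hs)
    (Lib.Cores.pPrimeCore_quotient_pPrimeCore 2) s hs'

theorem cent_Q : ∀ a : Fin 1024, mu a.1 x12 = mu x12 a.1 → mu a.1 x13 = mu x13 a.1 →
    mu a.1 x45 = mu x45 a.1 → mu a.1 x35 = mu x35 a.1 → Nat.land a.1 kQ = a.1 :=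
  Ident.fa (fun a => mu a x12 = mu x12 a → mu a x13 = mu x13 a → mu a x45 = mu x45 a → mu a x35 = mu x35 a →
    Nat.land a kQ = a) (by decide +kernel)

theorem mem_Q (K a : ℕ) (ha : a < 1024) (hK : Nat.land a K = a) : u a ∈ CS u K :=
  Subgroup.subset_closure ⟨a, ha, (subK_iff a K).2 hK, rfl⟩

/-- `Y / O(Y)` has characteristic 2 -/
theorem con (h : VData S u) (hs : Solved (normalizer (CS u kQ : Set Y))) : Functor.Con Y := by
  have hv := vdata_quot h hs
  have hQn := norm_Q_quot hs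
  have hn : (CS (fun a => q Y (u a)) kQ).Normal := normalizer_eq_top_iff.1 hQn
  have h1 := centralizer_le_of_normal (Lib.Cores.pPrimeCore_quotient_pPrimeCore 2) (Sq S)
    (CS (fun a => q Y (u a)) kQ) hn (by
      intro s hs2 hc
      obtain ⟨a, ha, rfl⟩ := hv.emb.surj s hs2
      have key : ∀ b, b < 1024 → Nat.land b kQ = b → mu a b = mu b a := by
        intro b hb hbQ
        apply hv.emb.inj (mu_lt ha hb) (mu_lt hb ha)
        rw [hv.emb.mul ha hb, hv.emb.mul hb ha]
        exact hc _ (mem_Q kQ b hb hbQ)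
      apply mem_Q kQ a ha
      exact cent_Q ⟨a, ha⟩ (key x12 (by decide) (by decide)) (key x13 (by decide) (by decide))
        (key x45 (by decide) (by decide)) (key x35 (by decide) (by decide)))
  have hle : CS (fun a => q Y (u a)) kQ ≤ pCore 2 (Y ⧸ pPrimeCore 2 Y) := by
    apply Lib.Cores.le_pCore hn
    exact (Sq S).isPGroup'.to_le (hv.emb.CS_le kQ)
  unfold Functor.Con
  intro x hx
  apply hle
  apply h1
  rw [mem_centralizer_iff] at hx ⊢
  intro y hy
  exact hx y (hle hy)

end vdata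

end Cfsg.Agent.SylowL5.Quot
end

private theorem dce_456920c91dbc : _root_.True := by
  try have : _root_.True := by simp only [_root_.Cfsg.Agent.SylowL5.Ident.step.eq_1]
  try have : _root_.True := by simp only [_root_.Cfsg.Agent.SylowL5.Ident.em.eq_1]
  try have : _root_.True := by simp only [_root_.Cfsg.Agent.SylowL5.IdentCore.Cfg.B.congr_simp]
  try have : _root_.True := by simp only [_root_.Cfsg.Agent.SylowL5.IdentCore.Cfg.c.congr_simp]
  try have : _root_.True := by simp only [_root_.Cfsg.Agent.SylowL5.IdentCore.Cfg.B.eq_1]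
  try have : _root_.True := by simp only [_root_.Cfsg.Agent.SylowL5.IdentCore.Cfg.act.congr_simp]
  exact _root_.True.intro
end

section
prune_inst 0xfdfefbbffcfddfffff7e7ffffddffe39d4dfffffdffb4bfffdfbffffff23ef3be5fbaf9de4d8ffded6e296b0b87853f9ffceffef6bdd7ffffd5ff45ffbee1ff7ffbf8d51deb8b41ffe6ffffbf37feeffc00000000000000000000000000041004200000000

-- part: SylowL5/MSub
section
prune_inst 0x20104400200000000018000020001c6292000002004b0000200000000cc10c40a0000621a2600212101280c460300060031000004000000000000000411c0080000302020074a800010000008001100000000000000000000000000000000000000000000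
set_option linter.all false
open scoped Cfsg.Agent.FastGrp

/-!
# The subgroup `M = N_G(W)`

From `Final S u`, `C_G(z) = O(C_G(z)) (C_G(z) ∩ N(Q))` and `z ~ x25` or `z ~ x14`: there is `W` of odd
order with `W ∩ C_G(z) = O(C_G(z))`, such that `M = N_G(W)` contains `C_G(z)`, and `g z g⁻¹ ∈ M`
implies `g ∈ M`.
-/

set_option autoImplicit false

namespace Cfsg.Agent.SylowL5.MSub

open Cfsg Subgroup Cfsg.Agent.SylowL5.Setup Cfsg.Agent.SylowL5.Data Cfsg.Agent.SylowL5.FusData
open Cfsg.Agent.SylowL5.Functor Cfsg.Agent.SignalizersComponents.RelSylow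
open Cfsg.Agent.SylowL5.Weak Cfsg.Agent.SylowL5.Calc

section abstr

variable {G : Type*} [Group G] [Finite G]

/-- `z` fixes exactly one coset of `M`. -/
theorem mem_of_conj_mem (S : Sylow 2 G) {z : G} (hzz : z * z = 1) {M : Subgroup G}
    (hSM : (S : Subgroup G) ≤ M) (hCM : centralizer ({z} : Set G) ≤ M) {A1 A2 : Subgroup G}
    (h1S : A1 ≤ S) (h2S : A2 ≤ S)
    (hw1 : ∀ g : G, (∀ a ∈ A1, g * a * g⁻¹ ∈ (S : Subgroup G)) → g ∈ normalizer (A1 : Set G))
    (hw2 : ∀ g : G, (∀ a ∈ A2, g * a * g⁻¹ ∈ (S : Subgroup G)) → g ∈ normalizer (A2 : Set G))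
    (hc1 : ∀ a ∈ A1, ∀ b ∈ A1, a * b = b * a) (hc2 : ∀ a ∈ A2, ∀ b ∈ A2, a * b = b * a)
    (hz1 : z ∈ A1) (hz2 : z ∈ A2)
    (hN1 : normalizer (A1 : Set G) ≤ M) (hN2 : normalizer (A2 : Set G) ≤ M)
    (hinv : ∀ t ∈ (S : Subgroup G), t * t = 1 → ∃ g : G, g * z = z * g ∧
      (g * t * g⁻¹ ∈ A1 ∨ g * t * g⁻¹ ∈ A2)) {g : G} (hg : g * z * g⁻¹ ∈ M) : g ∈ M := by
  have f2 : Fact (Nat.Prime 2) := ⟨Nat.prime_two⟩
  have hS : IsMaxP 2 M (S : Subgroup G) := isMaxP_of_le S hSM
  have hST : IsMaxP 2 (⊤ : Subgroup G) (S : Subgroup G) := isMaxP_sylow S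
  set t := g * z * g⁻¹ with ht
  have htt : t * t = 1 := by
    rw [ht]
    calc g * z * g⁻¹ * (g * z * g⁻¹) = g * (z * z) * g⁻¹ := by group
      _ = 1 := by rw [hzz]; group
  have hp : IsPGroup 2 (zpowers t) := by
    rintro ⟨y, hy⟩
    obtain ⟨k, rfl⟩ := hy
    refine ⟨1, Subtype.ext ?_⟩
    show (t ^ k) ^ 2 ^ 1 = 1
    rw [← zpow_natCast, ← zpow_mul, mul_comm, zpow_mul, zpow_natCast, pow_one, pow_two, htt,
      one_zpow]
  obtain ⟨m, hm, hmS⟩ := hS.exists_conj_le hp (by rw [zpowers_le]; exact hg)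
  have htS : m * t * m⁻¹ ∈ (S : Subgroup G) := hmS ⟨t, mem_zpowers t, rfl⟩
  obtain ⟨c, hc, hcA⟩ := hinv _ htS (by
    calc m * t * m⁻¹ * (m * t * m⁻¹) = m * (t * t) * m⁻¹ := by group
      _ = 1 := by rw [htt]; group)
  have hcM : c ∈ M := hCM (mem_centralizer_singleton_iff.2 hc)
  -- `x = c m g` moves `z` into `A1` or `A2`
  have key : ∀ {A : Subgroup G}, A ≤ S →
      (∀ g : G, (∀ a ∈ A, g * a * g⁻¹ ∈ (S : Subgroup G)) → g ∈ normalizer (A : Set G)) →
      (∀ a ∈ A, ∀ b ∈ A, a * b = b * a) → z ∈ A → normalizer (A : Set G) ≤ M →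
      c * (m * t * m⁻¹) * c⁻¹ ∈ A → g ∈ M := by
    intro A hAS hw hcomm hzA hN hA
    have hA' : (c * m * g) * z * (c * m * g)⁻¹ ∈ A := by
      have e : (c * m * g) * z * (c * m * g)⁻¹ = c * (m * t * m⁻¹) * c⁻¹ := by
        rw [ht]; group
      rw [e]; exact hA
    have hwc : WeakCl (⊤ : Subgroup G) A (S : Subgroup G) := by
      refine ⟨hAS, ?_⟩
      intro y _ hy
      rw [cj_eq_iff]
      exact hw y (fun a ha => hy (conj_mem_cj ha))
    obtain ⟨n, -, hn, hnz⟩ := exists_normalizer hST hwc hcomm le_top hzA (mem_top (c * m * g)) hA'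
    have hnM : n ∈ M := hN (cj_eq_iff.1 hn)
    have h1 : n⁻¹ * (c * m * g) ∈ M := by
      apply hCM
      rw [mem_centralizer_singleton_iff]
      have h2 : (c * m * g) * z = (n * z * n⁻¹) * (c * m * g) := by
        rw [hnz]; group
      calc n⁻¹ * (c * m * g) * z = n⁻¹ * ((c * m * g) * z) := by group
        _ = n⁻¹ * ((n * z * n⁻¹) * (c * m * g)) := by rw [h2]
        _ = z * (n⁻¹ * (c * m * g)) := by group
    have h3 : g = (c * m)⁻¹ * (n * (n⁻¹ * (c * m * g))) := by group
    rw [h3]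
    exact M.mul_mem (M.inv_mem (M.mul_mem hcM hm)) (M.mul_mem hnM h1)
  rcases hcA with h | h
  · exact key h1S hw1 hc1 hz1 hN1 h
  · exact key h2S hw2 hc2 hz2 hN2 h

end abstr

/-! ### moving elements -/

section move

variable {G : Type*} [Group G]

theorem commute_of_pow_two {k r : G} (hodd : Odd (orderOf k))
    (h : k ^ 2 * r = r * k ^ 2) : k * r = r * k := by
  obtain ⟨j, hj⟩ := hodd
  have h1 : (k ^ 2) ^ (j + 1) = k := by
    rw [← pow_mul, show 2 * (j + 1) = orderOf k + 1 by omega, pow_succ, pow_orderOf_eq_one, one_mul]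
  have h3 : Commute (k ^ 2) r := h
  have h4 := h3.pow_left (j + 1)
  rw [h1] at h4
  exact h4

theorem odd_sq {k : G} (hodd : Odd (orderOf k)) : Odd (orderOf (k ^ 2)) :=
  Odd.of_dvd_nat hodd (orderOf_pow_dvd 2)

theorem commute_of_pow_four {k r : G} (hodd : Odd (orderOf k))
    (h : (k ^ 2) ^ 2 * r = r * (k ^ 2) ^ 2) : k * r = r * k :=
  commute_of_pow_two hodd (commute_of_pow_two (odd_sq hodd) h)

theorem move_aux1 {p r k c d : G} (hpp : p * p = 1) (hcc : c * c = 1)
    (hdd : d * d = 1) (hcr : c * r = r * c) (hdr : d * r = r * d) (hdp : d * p = p * d)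
    (hkc : k * c = c * k) (hkd : k * d = d * k)
    (hodd : Odd (orderOf k)) (h' : k * r * k⁻¹ = p * r * c) (h : k * p * k⁻¹ = p * d) :
    p * c = 1 := by
  have ec : k * c * k⁻¹ = c := by rw [hkc]; group
  have ed : k * d * k⁻¹ = d := by rw [hkd]; group
  have h1 : k ^ 2 * r = (r * d) * k ^ 2 := by
    have e1 : k ^ 2 * r = k * (k * r * k⁻¹) * k⁻¹ * k ^ 2 := by
      rw [pow_two]; group
    have e2 : k * (p * r * c) * k⁻¹ = (k * p * k⁻¹) * (k * r * k⁻¹) * (k * c * k⁻¹) := by group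
    rw [e1, h', e2, h, h', ec]
    congr 1
    calc p * d * (p * r * c) * c = (p * (d * p)) * r * (c * c) := by group
      _ = (p * (p * d)) * r * (c * c) := by rw [hdp]
      _ = (p * p) * (d * r) * (c * c) := by group
      _ = r * d := by rw [hpp, hcc, one_mul, mul_one, hdr]
  have h2 : (k ^ 2) ^ 2 * r = r * (k ^ 2) ^ 2 := by
    have hkd2 : k ^ 2 * d = d * k ^ 2 := by
      have : Commute k d := hkd
      exact (this.pow_left 2)
    calc (k ^ 2) ^ 2 * r = k ^ 2 * (k ^ 2 * r) := by rw [pow_two (k ^ 2)]; group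
      _ = k ^ 2 * ((r * d) * k ^ 2) := by rw [h1]
      _ = (k ^ 2 * r) * d * k ^ 2 := by group
      _ = ((r * d) * k ^ 2) * d * k ^ 2 := by rw [h1]
      _ = r * d * (k ^ 2 * d) * k ^ 2 := by group
      _ = r * d * (d * k ^ 2) * k ^ 2 := by rw [hkd2]
      _ = r * (d * d) * (k ^ 2) ^ 2 := by rw [pow_two (k ^ 2)]; group
      _ = r * (k ^ 2) ^ 2 := by rw [hdd, mul_one]
  have h3 := commute_of_pow_four hodd h2
  have h4 : k * r * k⁻¹ = r := by rw [h3]; group
  rw [h'] at h4
  have h5 : p * c * r = r := by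
    calc p * c * r = p * (c * r) := by group
      _ = p * (r * c) := by rw [hcr]
      _ = p * r * c := by group
      _ = r := h4
  exact mul_eq_right.1 h5

theorem move_aux2 {p r k c d : G} (hpp : p * p = 1) (hrr : r * r = 1) (hpr : p * r = r * p)
    (hcp : c * p = p * c) (hcr : c * r = r * c) (hdp : d * p = p * d) (hdr : d * r = r * d)
    (hkc : k * c = c * k) (hkd : k * d = d * k)
    (h' : k * r * k⁻¹ = p * r * c) (h : k * p * k⁻¹ = p * r * d) : p * r = d * c := by
  have h1 : k * (p * r) * k⁻¹ = d * c := by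
    calc k * (p * r) * k⁻¹ = (k * p * k⁻¹) * (k * r * k⁻¹) := by group
      _ = (p * r * d) * (p * r * c) := by rw [h, h']
      _ = p * r * (d * p) * r * c := by group
      _ = p * r * (p * d) * r * c := by rw [hdp]
      _ = p * (r * p) * (d * r) * c := by group
      _ = p * (p * r) * (r * d) * c := by rw [← hpr, hdr]
      _ = (p * p) * (r * r) * d * c := by group
      _ = d * c := by rw [hpp, hrr]; group
  calc p * r = k⁻¹ * (k * (p * r) * k⁻¹) * k := by group
    _ = k⁻¹ * (d * c) * k := by rw [h1]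
    _ = k⁻¹ * (d * (c * k)) := by group
    _ = k⁻¹ * (d * (k * c)) := by rw [hkc]
    _ = k⁻¹ * (d * k) * c := by group
    _ = k⁻¹ * (k * d) * c := by rw [hkd]
    _ = d * c := by group

/-- `k` of odd order acts on `⟨z, p, r⟩` with `r ↦ p z^i` or `p r z^i`; then `r ~ p`. -/
theorem conj_of_move {z p r k : G} (hzz : z * z = 1) (hpp : p * p = 1) (hrr : r * r = 1)
    (hzp : z * p = p * z) (hzr : z * r = r * z) (hpr : p * r = r * p) (hkz : k * z = z * k)
    (hodd : Odd (orderOf k))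
    (hr : k * r * k⁻¹ = p ∨ k * r * k⁻¹ = p * z ∨ k * r * k⁻¹ = p * r ∨ k * r * k⁻¹ = p * r * z)
    (hp : k * p * k⁻¹ = r ∨ k * p * k⁻¹ = r * z ∨ k * p * k⁻¹ = p ∨ k * p * k⁻¹ = p * z ∨
      k * p * k⁻¹ = p * r ∨ k * p * k⁻¹ = p * r * z)
    (hp1 : p ≠ 1) (hpz : p ≠ z) (hpr1 : p * r ≠ 1) (hprz : p * r ≠ z)
    (hcp : IsConj p (p * z)) (hcr : IsConj r (r * z)) : IsConj r p := by
  have key : ∀ c d : G, (c = 1 ∨ c = z) → (d = 1 ∨ d = z) → k * r * k⁻¹ = p * r * c →
      (k * p * k⁻¹ = p * d ∨ k * p * k⁻¹ = p * r * d) → False := by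
    intro c d hc hd h' h
    have hcc : c * c = 1 := by rcases hc with rfl | rfl <;> simp [hzz]
    have hdd : d * d = 1 := by rcases hd with rfl | rfl <;> simp [hzz]
    have hcr' : c * r = r * c := by rcases hc with rfl | rfl <;> simp [hzr]
    have hcp' : c * p = p * c := by rcases hc with rfl | rfl <;> simp [hzp]
    have hdr' : d * r = r * d := by rcases hd with rfl | rfl <;> simp [hzr]
    have hdp' : d * p = p * d := by rcases hd with rfl | rfl <;> simp [hzp]
    have hkc : k * c = c * k := by rcases hc with rfl | rfl <;> simp [hkz]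
    have hkd : k * d = d * k := by rcases hd with rfl | rfl <;> simp [hkz]
    rcases h with h | h
    · have h1 := move_aux1 hpp hcc hdd hcr' hdr' hdp' hkc hkd hodd h' h
      have h2 : p = c := by
        have := eq_inv_of_mul_eq_one_left h1
        rw [this]
        exact inv_eq_of_mul_eq_one_left hcc
      rcases hc with rfl | rfl
      · exact hp1 h2
      · exact hpz h2
    · have h1 := move_aux2 hpp hrr hpr hcp' hcr' hdp' hdr' hkc hkd h' h
      rcases hc with rfl | rfl <;> rcases hd with rfl | rfl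
      · exact hpr1 (by rw [h1]; simp)
      · exact hprz (by rw [h1]; simp)
      · exact hprz (by rw [h1]; simp)
      · exact hpr1 (by rw [h1, hzz])
  rcases hr with h' | h' | h' | h'
  · exact isConj_iff.2 ⟨k, h'⟩
  · exact (isConj_iff.2 ⟨k, h'⟩).trans hcp.symm
  · rcases hp with h | h | h | h | h | h
    · exact (isConj_iff.2 ⟨k, h⟩).symm
    · exact hcr.trans (isConj_iff.2 ⟨k, h⟩).symm
    · exact (key 1 1 (Or.inl rfl) (Or.inl rfl) (by rw [h', mul_one]) (Or.inl (by rw [h, mul_one]))).elim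
    · exact (key 1 z (Or.inl rfl) (Or.inr rfl) (by rw [h', mul_one]) (Or.inl h)).elim
    · exact (key 1 1 (Or.inl rfl) (Or.inl rfl) (by rw [h', mul_one]) (Or.inr (by rw [h, mul_one]))).elim
    · exact (key 1 z (Or.inl rfl) (Or.inr rfl) (by rw [h', mul_one]) (Or.inr h)).elim
  · rcases hp with h | h | h | h | h | h
    · exact (isConj_iff.2 ⟨k, h⟩).symm
    · exact hcr.trans (isConj_iff.2 ⟨k, h⟩).symm
    · exact (key z 1 (Or.inr rfl) (Or.inl rfl) h' (Or.inl (by rw [h, mul_one]))).elim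
    · exact (key z z (Or.inr rfl) (Or.inr rfl) h' (Or.inl h)).elim
    · exact (key z 1 (Or.inr rfl) (Or.inl rfl) h' (Or.inr (by rw [h, mul_one]))).elim
    · exact (key z z (Or.inr rfl) (Or.inr rfl) h' (Or.inr h)).elim

end move

/-! ### codes -/

/-- representatives on `E1` -/
theorem E1_codes : allb 1024 (fun a => !(sb a kE1) || Nat.beq a 0 || Nat.beq a x15 ||
    anyb 1024 (fun s => Nat.beq (mu s x25) (mu a s) || Nat.beq (mu s x35) (mu a s) ||
      Nat.beq (mu s x45) (mu a s))) = true := by decide +kernel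

/-- representatives on `E2` -/
theorem E2_codes : allb 1024 (fun a => !(sb a kE2) || Nat.beq a 0 || Nat.beq a x15 ||
    anyb 1024 (fun s => Nat.beq (mu s x14) (mu a s) || Nat.beq (mu s x13) (mu a s) ||
      Nat.beq (mu s x12) (mu a s))) = true := by decide +kernel

theorem U1_codes : allb 1024 (fun a => !(sb a kU1) ||
    anyb 1024 (fun s => Nat.beq (mu s x45) (mu (mu x45 a) s))) = true := by decide +kernel

theorem U2_codes : allb 1024 (fun a => !(sb a kU2) ||
    anyb 1024 (fun s => Nat.beq (mu s x12) (mu (mu x12 a) s))) = true := by decide +kernel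

theorem sq_E1 : allb 1024 (fun a => !(sb a kE1) || Nat.beq (mu a a) 0) = true := by decide +kernel
theorem sq_E2 : allb 1024 (fun a => !(sb a kE2) || Nat.beq (mu a a) 0) = true := by decide +kernel
theorem sq_A1 : allb 1024 (fun a => !(sb a kA1) || Nat.beq (mu a a) 0) = true := by decide +kernel
theorem sq_A2 : allb 1024 (fun a => !(sb a kA2) || Nat.beq (mu a a) 0) = true := by decide +kernel

section codes

variable {G : Type*} [Group G] {S : Subgroup G} {u : ℕ → G}

theorem isConj_of_code (h : Emb S u) {a b s : ℕ} (ha : a < 1024) (hb : b < 1024) (hs : s < 1024)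
    (h1 : mu s b = mu a s) : IsConj (u b) (u a) := by
  rw [isConj_iff]
  refine ⟨u s, ?_⟩
  have h2 : u s * u b = u a * u s := by rw [← h.mul hs hb, ← h.mul ha hs, h1]
  rw [h2]; group

theorem sq_of (h : Emb S u) {K : ℕ} (hK : closedK K = true)
    (hsq : allb 1024 (fun a => !(sb a K) || Nat.beq (mu a a) 0) = true) :
    ∀ x ∈ CS u K, x * x = 1 := by
  intro x hx
  obtain ⟨a, ha, haK, rfl⟩ := (h.mem_CS hK).1 hx
  have h1 := of_allb hsq a ha
  simp only [Bool.or_eq_true, Bool.not_eq_true', Nat.beq_eq] at h1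
  rcases h1 with h1 | h1
  · rw [sb_iff.2 haK] at h1; exact absurd h1 (by decide)
  · rw [← h.mul ha ha, h1, h.zero]

end codes

/-! ### the subgroups `E1`, `E2` -/

section pure

variable {G : Type*} [Group G] [Finite G] {S : Subgroup G} {u : ℕ → G}

omit [Finite G] in
/-- membership in coordinate subgroups of `Y = C_G(z)` -/
theorem mem_lift (h : Emb S u) {C : Subgroup G} {T : Sylow 2 C} {v : ℕ → C}
    (hv : ∀ a, a < 1024 → (v a : G) = u a) (hT : Emb (T : Subgroup C) v) {K : ℕ}
    (hK : closedK K = true) (y : C) : y ∈ CS v K ↔ (y : G) ∈ CS u K := by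
  rw [hT.mem_CS hK, h.mem_CS hK]
  constructor
  · rintro ⟨a, ha, haK, rfl⟩
    exact ⟨a, ha, haK, (hv a ha).symm⟩
  · rintro ⟨a, ha, haK, hay⟩
    refine ⟨a, ha, haK, Subtype.ext ?_⟩
    rw [hv a ha, hay]

theorem mem_normalizer_lift (h : Emb S u) {C : Subgroup G} {T : Sylow 2 C} {v : ℕ → C}
    (hv : ∀ a, a < 1024 → (v a : G) = u a) (hT : Emb (T : Subgroup C) v)
    (hSC : S ≤ C) {K : ℕ}
    (hK : closedK K = true) (y : C) :
    y ∈ normalizer (CS v K : Set C) ↔ (y : G) ∈ normalizer (CS u K : Set G) := by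
  rw [mem_normalizer_iff, mem_normalizer_iff]
  constructor
  · intro h1 x
    constructor
    · intro hx
      have hxC : x ∈ C := hSC (h.CS_le K hx)
      have h2 := (h1 ⟨x, hxC⟩).1 ((mem_lift h hv hT hK ⟨x, hxC⟩).2 hx)
      exact (mem_lift h hv hT hK _).1 h2
    · intro hx
      have hxC' : (y : G) * x * (y : G)⁻¹ ∈ C := hSC (h.CS_le K hx)
      have hxC : x ∈ C := by
        have := C.mul_mem (C.mul_mem (C.inv_mem y.2) hxC') y.2
        have e : (y : G)⁻¹ * ((y : G) * x * (y : G)⁻¹) * y = x := by group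
        rwa [e] at this
      have h2 : y * ⟨x, hxC⟩ * y⁻¹ ∈ CS v K := (mem_lift h hv hT hK _).2 hx
      exact (mem_lift h hv hT hK ⟨x, hxC⟩).1 ((h1 _).2 h2)
  · intro h1 x
    rw [mem_lift h hv hT hK, mem_lift h hv hT hK]
    exact h1 x

variable (h : Final S u)

include h

omit [Finite G] in
theorem Final_S_le : S ≤ centralizer ({u x15} : Set G) := by
  obtain ⟨T, v, hv, hT, hV⟩ := h.vdata
  rw [← hT]
  exact Subgroup.map_subtype_le _

theorem norm_E1 {k : G} (hk : k * u x15 = u x15 * k) (hkQ : k ∈ normalizer (CS u kQ : Set G)) :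
    k ∈ normalizer (CS u kE1 : Set G) := by
  obtain ⟨T, v, hv, hT, hV⟩ := h.vdata
  have hkC : k ∈ centralizer ({u x15} : Set G) := mem_centralizer_singleton_iff.2 hk
  have h1 := (mem_normalizer_lift h.fus.emb hv hV.emb (Final_S_le h) Quot.closed_Q ⟨k, hkC⟩).2 hkQ
  exact (mem_normalizer_lift h.fus.emb hv hV.emb (Final_S_le h) Quot.closed_E1 ⟨k, hkC⟩).1
    (hV.nE1 h1)

theorem norm_E2 {k : G} (hk : k * u x15 = u x15 * k) (hkQ : k ∈ normalizer (CS u kQ : Set G)) :
    k ∈ normalizer (CS u kE2 : Set G) := by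
  obtain ⟨T, v, hv, hT, hV⟩ := h.vdata
  have hkC : k ∈ centralizer ({u x15} : Set G) := mem_centralizer_singleton_iff.2 hk
  have h1 := (mem_normalizer_lift h.fus.emb hv hV.emb (Final_S_le h) Quot.closed_Q ⟨k, hkC⟩).2 hkQ
  exact (mem_normalizer_lift h.fus.emb hv hV.emb (Final_S_le h) Quot.closed_E2 ⟨k, hkC⟩).1
    (hV.nE2 h1)

end pure

/-! ### purity -/

theorem m1_codes : allb 1024 (fun a => !(sb a kU2) || allb 1024 (fun c => !(sb c 832) ||
    !(Nat.beq (mu (mu x12 a) c) (mu x15 (mu c (mu x12 a)))) || Nat.beq c 256 || Nat.beq c 768 ||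
    Nat.beq c 320 || Nat.beq c 832)) = true := by decide +kernel

theorem m2_codes : allb 1024 (fun a => !(sb a kU1) || allb 1024 (fun c => !(sb c 656) ||
    !(Nat.beq (mu (mu x45 a) c) (mu x15 (mu c (mu x45 a)))) || Nat.beq c 128 || Nat.beq c 640 ||
    Nat.beq c 144 || Nat.beq c 656)) = true := by decide +kernel

theorem n1_codes : allb 1024 (fun c => !(sb c kE1) || !(sb c kA2) || sb c 832) = true := by
  decide +kernel
theorem n2_codes : allb 1024 (fun c => !(sb c kE2) || !(sb c kA1) || sb c 656) = true := by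
  decide +kernel
theorem o1_codes : allb 1024 (fun c => !(sb c 832) || Nat.beq c 0 || Nat.beq c 512 ||
    Nat.beq c 64 || Nat.beq c 576 || Nat.beq c 256 || Nat.beq c 768 ||
    Nat.beq c 320 || Nat.beq c 832) = true := by decide +kernel
theorem o2_codes : allb 1024 (fun c => !(sb c 656) || Nat.beq c 0 || Nat.beq c 512 ||
    Nat.beq c 16 || Nat.beq c 528 || Nat.beq c 128 || Nat.beq c 640 ||
    Nat.beq c 144 || Nat.beq c 656) = true := by decide +kernel

section pure2

variable {G : Type*} [Group G] [Finite G] {S : Subgroup G} {u : ℕ → G}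
variable (h : Final S u)

include h

theorem isConj_35_25 : IsConj (u x35) (u x25) := by
  obtain ⟨k, hkz, hodd, hkQ, hkA, a, ha, haK, hk⟩ := h.fus.k2
  have hE := h.fus.emb
  have hkE := norm_E1 h hkz hkQ
  have cl : ∀ {c : ℕ}, c < 1024 → u c ∈ CS u kE1 → u c ∈ CS u kA2 → sb c 832 = true := by
    intro c hc h1 h2
    have h3 := of_allb n1_codes c hc
    rw [u_mem_CS hE Quot.closed_E1 hc] at h1
    rw [u_mem_CS hE Quot.closed_A2 hc] at h2
    rw [h1, h2] at h3
    simpa using h3
  have hm : ∀ {b : ℕ}, b < 1024 → sb b kE1 = true → sb b kA2 = true →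
      ∃ c, c < 1024 ∧ sb c 832 = true ∧ k * u b * k⁻¹ = u c := by
    intro b hb h1 h2
    have h3 : k * u b * k⁻¹ ∈ CS u kE1 :=
      (mem_normalizer_iff.1 hkE _).1 ((u_mem_CS hE Quot.closed_E1 hb).2 h1)
    have h4 : k * u b * k⁻¹ ∈ CS u kA2 :=
      (mem_normalizer_iff.1 hkA _).1 ((u_mem_CS hE Quot.closed_A2 hb).2 h2)
    obtain ⟨c, hc, -, hc2⟩ := (hE.mem_CS Quot.closed_E1).1 h3
    rw [← hc2] at h3 h4 ⊢
    exact ⟨c, hc, cl hc h3 h4, rfl⟩
  obtain ⟨c, hc, hcK, hkc⟩ := hm (b := x35) (by decide) (by decide) (by decide)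
  obtain ⟨d, hd, hdK, hkd⟩ := hm (b := x25) (by decide) (by decide) (by decide)
  have hz : k * u x15 * k⁻¹ = u x15 := by rw [hkz]; group
  -- the relation `[x13, x35] = z`
  have hrel : u x13 * u x35 = u x15 * (u x35 * u x13) := by
    rw [← hE.mul (by decide) (by decide), ← hE.mul (by decide) (by decide),
      ← hE.mul (by decide) (by decide)]
    congr 1
  have ham : mu x12 a < 1024 := mu_lt (by decide) ha
  have hrel2 : u (mu x12 a) * u c = u x15 * (u c * u (mu x12 a)) := by
    rw [← hkc, ← hk]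
    calc k * u x13 * k⁻¹ * (k * u x35 * k⁻¹) = k * (u x13 * u x35) * k⁻¹ := by group
      _ = k * (u x15 * (u x35 * u x13)) * k⁻¹ := by rw [hrel]
      _ = (k * u x15 * k⁻¹) * ((k * u x35 * k⁻¹) * (k * u x13 * k⁻¹)) := by group
      _ = _ := by rw [hz]
  have hrel3 : mu (mu x12 a) c = mu x15 (mu c (mu x12 a)) := by
    apply hE.inj (mu_lt ham hc) (mu_lt (by decide) (mu_lt hc ham))
    rw [hE.mul ham hc, hE.mul (by decide) (mu_lt hc ham), hE.mul hc ham, hrel2]
  have h1 := of_allb m1_codes a ha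
  simp only [Bool.or_eq_true, Bool.not_eq_true'] at h1
  rcases h1 with h1 | h1
  · rw [sb_iff.2 haK] at h1; exact absurd h1 (by decide)
  have h2 := of_allb h1 c hc
  simp only [Bool.or_eq_true, Bool.not_eq_true', hcK, Nat.beq_eq] at h2
  have h3 := of_allb o1_codes d hd
  simp only [Bool.or_eq_true, Bool.not_eq_true', hdK, Nat.beq_eq] at h3
  have e1 : u 768 = u x25 * u x15 := by rw [← hE.mul (by decide) (by decide)]; congr 1
  have e2 : u 320 = u x25 * u x35 := by rw [← hE.mul (by decide) (by decide)]; congr 1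
  have e3 : u 832 = u x25 * u x35 * u x15 := by
    rw [← e2, ← hE.mul (by decide) (by decide)]; congr 1
  have e4 : u 576 = u x35 * u x15 := by rw [← hE.mul (by decide) (by decide)]; congr 1
  have hco : ∀ {a b : ℕ}, a < 1024 → b < 1024 → mu a b = mu b a → u a * u b = u b * u a := by
    intro a b ha hb hab
    rw [← hE.mul ha hb, ← hE.mul hb ha, hab]
  have hsq : ∀ {a : ℕ}, a < 1024 → mu a a = 0 → u a * u a = 1 := by
    intro a ha hab
    rw [← hE.mul ha ha, hab, hE.zero]
  refine conj_of_move (z := u x15) (p := u x25) (r := u x35) (k := k)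
    (hsq (by decide) (by decide)) (hsq (by decide) (by decide)) (hsq (by decide) (by decide))
    (hco (by decide) (by decide) (by decide)) (hco (by decide) (by decide) (by decide))
    (hco (by decide) (by decide) (by decide)) hkz hodd ?_ ?_ ?_ ?_ ?_ ?_ ?_ ?_
  · rw [hkc, ← e2, ← e1, ← hE.mul (a := 320) (b := x15) (by decide) (by decide)]
    rcases h2 with ((((h2 | h2) | h2) | h2) | h2) | h2
    · exact absurd h2 (by decide)
    · rw [hrel3] at h2
      exact absurd h2 (by simp)
    · left; rw [h2]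
    · right; left; rw [h2]
    · right; right; left; rw [h2]
    · right; right; right; rw [h2]; rfl
  · rw [hkd, ← e2, ← e1, ← e4, ← hE.mul (a := 320) (b := x15) (by decide) (by decide)]
    rcases h3 with (((((((h3 | h3) | h3) | h3) | h3) | h3) | h3) | h3) | h3
    · exact absurd h3 (by decide)
    · exfalso
      rw [h3, hE.zero] at hkd
      have : u x25 = 1 := by
        have := congrArg (fun y => k⁻¹ * y * k) hkd
        simpa [mul_assoc] using this
      rw [← hE.zero] at this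
      exact absurd (hE.inj (by decide) (by decide) this) (by decide)
    · exfalso
      rw [h3] at hkd
      have : u x25 = u x15 := by
        have h4 : k * u x25 * k⁻¹ = k * u x15 * k⁻¹ := by rw [hkd, hz]
        have := congrArg (fun y => k⁻¹ * y * k) h4
        simpa [mul_assoc] using this
      exact absurd (hE.inj (by decide) (by decide) this) (by decide)
    · left; rw [h3]
    · right; left; rw [h3]
    · right; right; left; rw [h3]
    · right; right; right; left; rw [h3]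
    · right; right; right; right; left; rw [h3]
    · right; right; right; right; right; rw [h3]; rfl
  · rw [← hE.zero]; intro h4; exact absurd (hE.inj (by decide) (by decide) h4) (by decide)
  · intro h4; exact absurd (hE.inj (by decide) (by decide) h4) (by decide)
  · rw [← e2, ← hE.zero]; intro h4; exact absurd (hE.inj (by decide) (by decide) h4) (by decide)
  · rw [← e2]; intro h4; exact absurd (hE.inj (by decide) (by decide) h4) (by decide)
  · rw [← e1]
    exact isConj_of_code hE (s := x12) (by decide) (by decide) (by decide) (by decide)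
  · rw [← e4]
    exact isConj_of_code hE (s := x13) (by decide) (by decide) (by decide) (by decide)

theorem isConj_13_14 : IsConj (u x13) (u x14) := by
  obtain ⟨k, hkz, hodd, hkQ, hkA, a, ha, haK, hk⟩ := h.fus.k3
  have hE := h.fus.emb
  have hkE := norm_E2 h hkz hkQ
  have cl : ∀ {c : ℕ}, c < 1024 → u c ∈ CS u kE2 → u c ∈ CS u kA1 → sb c 656 = true := by
    intro c hc h1 h2
    have h3 := of_allb n2_codes c hc
    rw [u_mem_CS hE Quot.closed_E2 hc] at h1
    rw [u_mem_CS hE Quot.closed_A1 hc] at h2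
    rw [h1, h2] at h3
    simpa using h3
  have hm : ∀ {b : ℕ}, b < 1024 → sb b kE2 = true → sb b kA1 = true →
      ∃ c, c < 1024 ∧ sb c 656 = true ∧ k * u b * k⁻¹ = u c := by
    intro b hb h1 h2
    have h3 : k * u b * k⁻¹ ∈ CS u kE2 :=
      (mem_normalizer_iff.1 hkE _).1 ((u_mem_CS hE Quot.closed_E2 hb).2 h1)
    have h4 : k * u b * k⁻¹ ∈ CS u kA1 :=
      (mem_normalizer_iff.1 hkA _).1 ((u_mem_CS hE Quot.closed_A1 hb).2 h2)
    obtain ⟨c, hc, -, hc2⟩ := (hE.mem_CS Quot.closed_E2).1 h3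
    rw [← hc2] at h3 h4 ⊢
    exact ⟨c, hc, cl hc h3 h4, rfl⟩
  obtain ⟨c, hc, hcK, hkc⟩ := hm (b := x13) (by decide) (by decide) (by decide)
  obtain ⟨d, hd, hdK, hkd⟩ := hm (b := x14) (by decide) (by decide) (by decide)
  have hz : k * u x15 * k⁻¹ = u x15 := by rw [hkz]; group
  -- the relation `[x35, x13] = z`
  have hrel : u x35 * u x13 = u x15 * (u x13 * u x35) := by
    rw [← hE.mul (by decide) (by decide), ← hE.mul (by decide) (by decide),
      ← hE.mul (by decide) (by decide)]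
    congr 1
  have ham : mu x45 a < 1024 := mu_lt (by decide) ha
  have hrel2 : u (mu x45 a) * u c = u x15 * (u c * u (mu x45 a)) := by
    rw [← hkc, ← hk]
    calc k * u x35 * k⁻¹ * (k * u x13 * k⁻¹) = k * (u x35 * u x13) * k⁻¹ := by group
      _ = k * (u x15 * (u x13 * u x35)) * k⁻¹ := by rw [hrel]
      _ = (k * u x15 * k⁻¹) * ((k * u x13 * k⁻¹) * (k * u x35 * k⁻¹)) := by group
      _ = _ := by rw [hz]
  have hrel3 : mu (mu x45 a) c = mu x15 (mu c (mu x45 a)) := by
    apply hE.inj (mu_lt ham hc) (mu_lt (by decide) (mu_lt hc ham))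
    rw [hE.mul ham hc, hE.mul (by decide) (mu_lt hc ham), hE.mul hc ham, hrel2]
  have h1 := of_allb m2_codes a ha
  simp only [Bool.or_eq_true, Bool.not_eq_true'] at h1
  rcases h1 with h1 | h1
  · rw [sb_iff.2 haK] at h1; exact absurd h1 (by decide)
  have h2 := of_allb h1 c hc
  simp only [Bool.or_eq_true, Bool.not_eq_true', hcK, Nat.beq_eq] at h2
  have h3 := of_allb o2_codes d hd
  simp only [Bool.or_eq_true, Bool.not_eq_true', hdK, Nat.beq_eq] at h3
  have e1 : u 640 = u x14 * u x15 := by rw [← hE.mul (by decide) (by decide)]; congr 1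
  have e2 : u 144 = u x14 * u x13 := by rw [← hE.mul (by decide) (by decide)]; congr 1
  have e3 : u 656 = u x14 * u x13 * u x15 := by
    rw [← e2, ← hE.mul (by decide) (by decide)]; congr 1
  have e4 : u 528 = u x13 * u x15 := by rw [← hE.mul (by decide) (by decide)]; congr 1
  have hco : ∀ {a b : ℕ}, a < 1024 → b < 1024 → mu a b = mu b a → u a * u b = u b * u a := by
    intro a b ha hb hab
    rw [← hE.mul ha hb, ← hE.mul hb ha, hab]
  have hsq : ∀ {a : ℕ}, a < 1024 → mu a a = 0 → u a * u a = 1 := by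
    intro a ha hab
    rw [← hE.mul ha ha, hab, hE.zero]
  refine conj_of_move (z := u x15) (p := u x14) (r := u x13) (k := k)
    (hsq (by decide) (by decide)) (hsq (by decide) (by decide)) (hsq (by decide) (by decide))
    (hco (by decide) (by decide) (by decide)) (hco (by decide) (by decide) (by decide))
    (hco (by decide) (by decide) (by decide)) hkz hodd ?_ ?_ ?_ ?_ ?_ ?_ ?_ ?_
  · rw [hkc, ← e2, ← e1, ← hE.mul (a := 144) (b := x15) (by decide) (by decide)]
    rcases h2 with ((((h2 | h2) | h2) | h2) | h2) | h2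
    · exact absurd h2 (by decide)
    · rw [hrel3] at h2
      exact absurd h2 (by simp)
    · left; rw [h2]
    · right; left; rw [h2]
    · right; right; left; rw [h2]
    · right; right; right; rw [h2]; rfl
  · rw [hkd, ← e2, ← e1, ← e4, ← hE.mul (a := 144) (b := x15) (by decide) (by decide)]
    rcases h3 with (((((((h3 | h3) | h3) | h3) | h3) | h3) | h3) | h3) | h3
    · exact absurd h3 (by decide)
    · exfalso
      rw [h3, hE.zero] at hkd
      have : u x14 = 1 := by
        have := congrArg (fun y => k⁻¹ * y * k) hkd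
        simpa [mul_assoc] using this
      rw [← hE.zero] at this
      exact absurd (hE.inj (by decide) (by decide) this) (by decide)
    · exfalso
      rw [h3] at hkd
      have : u x14 = u x15 := by
        have h4 : k * u x14 * k⁻¹ = k * u x15 * k⁻¹ := by rw [hkd, hz]
        have := congrArg (fun y => k⁻¹ * y * k) h4
        simpa [mul_assoc] using this
      exact absurd (hE.inj (by decide) (by decide) this) (by decide)
    · left; rw [h3]
    · right; left; rw [h3]
    · right; right; left; rw [h3]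
    · right; right; right; left; rw [h3]
    · right; right; right; right; left; rw [h3]
    · right; right; right; right; right; rw [h3]; rfl
  · rw [← hE.zero]; intro h4; exact absurd (hE.inj (by decide) (by decide) h4) (by decide)
  · intro h4; exact absurd (hE.inj (by decide) (by decide) h4) (by decide)
  · rw [← e2, ← hE.zero]; intro h4; exact absurd (hE.inj (by decide) (by decide) h4) (by decide)
  · rw [← e2]; intro h4; exact absurd (hE.inj (by decide) (by decide) h4) (by decide)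
  · rw [← e1]
    exact isConj_of_code hE (s := x45) (by decide) (by decide) (by decide) (by decide)
  · rw [← e4]
    exact isConj_of_code hE (s := x35) (by decide) (by decide) (by decide) (by decide)

/-- `E1` is `z`-pure -/
theorem pure_E1 (hz : IsConj (u x15) (u x25)) : Pure (u x15) (CS u kE1) := by
  have hE := h.fus.emb
  have hsq := sq_of hE Quot.closed_E1 sq_E1
  have h35 : IsConj (u x15) (u x35) := hz.trans (isConj_35_25 h).symm
  have h45 : IsConj (u x15) (u x45) := by
    obtain ⟨k, hkz, hodd, hkQ, hkA, a, ha, haK, hk⟩ := h.fus.k3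
    have h1 := of_allb U1_codes a ha
    simp only [Bool.or_eq_true, Bool.not_eq_true'] at h1
    rcases h1 with h1 | h1
    · rw [sb_iff.2 haK] at h1; exact absurd h1 (by decide)
    obtain ⟨s, hs, h2⟩ := of_anyb h1
    rw [Nat.beq_eq] at h2
    have h3 := isConj_of_code hE (s := s) (mu_lt (by decide) ha) (by decide) hs h2
    exact h35.trans ((isConj_iff.2 ⟨k, hk⟩).trans h3.symm)
  refine ⟨Elem.comm_of_sq hsq, hsq, ?_, ?_⟩
  · rw [card_CS hE Quot.closed_E1]
    decide +kernel
  · intro x hx hx1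
    obtain ⟨a, ha, haK, rfl⟩ := (hE.mem_CS Quot.closed_E1).1 hx
    have h1 := of_allb E1_codes a ha
    simp only [Bool.or_eq_true, Bool.not_eq_true', Nat.beq_eq] at h1
    rcases h1 with ((h1 | h1) | h1) | h1
    · rw [sb_iff.2 haK] at h1; exact absurd h1 (by decide)
    · exfalso; apply hx1; rw [h1, hE.zero]
    · rw [h1]
    · obtain ⟨s, hs, h2⟩ := of_anyb h1
      simp only [Bool.or_eq_true, Nat.beq_eq] at h2
      rcases h2 with (h2 | h2) | h2
      · exact hz.trans (isConj_of_code hE ha (by decide) hs h2)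
      · exact h35.trans (isConj_of_code hE ha (by decide) hs h2)
      · exact h45.trans (isConj_of_code hE ha (by decide) hs h2)

/-- `E2` is `z`-pure -/
theorem pure_E2 (hz : IsConj (u x15) (u x14)) : Pure (u x15) (CS u kE2) := by
  have hE := h.fus.emb
  have hsq := sq_of hE Quot.closed_E2 sq_E2
  have h13 : IsConj (u x15) (u x13) := hz.trans (isConj_13_14 h).symm
  have h12 : IsConj (u x15) (u x12) := by
    obtain ⟨k, hkz, hodd, hkQ, hkA, a, ha, haK, hk⟩ := h.fus.k2
    have h1 := of_allb U2_codes a ha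
    simp only [Bool.or_eq_true, Bool.not_eq_true'] at h1
    rcases h1 with h1 | h1
    · rw [sb_iff.2 haK] at h1; exact absurd h1 (by decide)
    obtain ⟨s, hs, h2⟩ := of_anyb h1
    rw [Nat.beq_eq] at h2
    have h3 := isConj_of_code hE (s := s) (mu_lt (by decide) ha) (by decide) hs h2
    exact h13.trans ((isConj_iff.2 ⟨k, hk⟩).trans h3.symm)
  refine ⟨Elem.comm_of_sq hsq, hsq, ?_, ?_⟩
  · rw [card_CS hE Quot.closed_E2]
    decide +kernel
  · intro x hx hx1
    obtain ⟨a, ha, haK, rfl⟩ := (hE.mem_CS Quot.closed_E2).1 hx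
    have h1 := of_allb E2_codes a ha
    simp only [Bool.or_eq_true, Bool.not_eq_true', Nat.beq_eq] at h1
    rcases h1 with ((h1 | h1) | h1) | h1
    · rw [sb_iff.2 haK] at h1; exact absurd h1 (by decide)
    · exfalso; apply hx1; rw [h1, hE.zero]
    · rw [h1]
    · obtain ⟨s, hs, h2⟩ := of_anyb h1
      simp only [Bool.or_eq_true, Nat.beq_eq] at h2
      rcases h2 with (h2 | h2) | h2
      · exact hz.trans (isConj_of_code hE ha (by decide) hs h2)
      · exact h13.trans (isConj_of_code hE ha (by decide) hs h2)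
      · exact h12.trans (isConj_of_code hE ha (by decide) hs h2)

end pure2

/-! ### the subgroup `M` -/

section final

variable {G : Type*} [Group G] [Finite G] {u : ℕ → G}

/-- the output of the signalizer functor argument -/
structure MData (S : Subgroup G) (u : ℕ → G) (W : Subgroup G) : Prop where
  odd : Odd (Nat.card W)
  inf : W ⊓ centralizer ({u x15} : Set G) = centralizerPPrimeCore 2 (u x15)
  cent : centralizer ({u x15} : Set G) ≤ normalizer (W : Set G)
  nA1 : normalizer (CS u kA1 : Set G) ≤ normalizer (W : Set G)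
  nA2 : normalizer (CS u kA2 : Set G) ≤ normalizer (W : Set G)
  fix : ∀ g : G, g * u x15 * g⁻¹ ∈ normalizer (W : Set G) → g ∈ normalizer (W : Set G)

theorem card_ge_of_U {S : Subgroup G} (h : Emb S u) {K : ℕ} (hK : closedK K = true)
    (h4 : cntb 1024 (fun a => sb a K) = 4)
    {A E : Subgroup G} (hA : CS u K ≤ A) (hE : CS u K ≤ E) : 4 ≤ Nat.card (A ⊓ E : Subgroup G) := by
  have h1 : CS u K ≤ A ⊓ E := le_inf hA hE
  have h2 := Subgroup.card_le_of_le h1
  rw [card_CS h hK, h4] at h2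
  exact h2

omit [Finite G] in
theorem CS_mono {S : Subgroup G} (h : Emb S u) {K K' : ℕ} (hK : closedK K = true) (hKK : SubK K K') :
    CS u K ≤ CS u K' := by
  intro x hx
  obtain ⟨a, ha, haK, rfl⟩ := (h.mem_CS hK).1 hx
  exact Subgroup.subset_closure ⟨a, ha, fun j hj => hKK j (haK j hj), rfl⟩

theorem cnt_U1 : cntb 1024 (fun a => sb a kU1) = 4 := by decide +kernel
theorem cnt_U2 : cntb 1024 (fun a => sb a kU2) = 4 := by decide +kernel

/-- **[D]** -/
theorem exists_W (S : Sylow 2 G) (h : Final (S : Subgroup G) u)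
    (hB : ∀ (T : Sylow 2 (centralizer ({u x15} : Set G)))
      (v : ℕ → (centralizer ({u x15} : Set G))), VData T v →
        Solved (normalizer (CS v kQ : Set (centralizer ({u x15} : Set G)))))
    (hC : IsConj (u x15) (u x25) ∨ IsConj (u x15) (u x14)) :
    ∃ W : Subgroup G, MData (S : Subgroup G) u W := by
  have hE := h.fus.emb
  have hz : Functor.Con (centralizer ({u x15} : Set G)) := by
    obtain ⟨T, v, hv, hT, hV⟩ := h.vdata
    exact Quot.con hV (hB T v hV)
  have hz1 : u x15 ≠ 1 := by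
    rw [← hE.zero]; intro h4; exact absurd (hE.inj (by decide) (by decide) h4) (by decide)
  have hzz : u x15 * u x15 = 1 := by
    rw [← hE.mul (by decide) (by decide), show mu x15 x15 = 0 by decide, hE.zero]
  have hzmem : ∀ {K : ℕ}, Nat.land x15 K = x15 → u x15 ∈ CS u K := fun hK =>
    Subgroup.subset_closure ⟨x15, by decide, (subK_iff _ _).2 hK, rfl⟩
  -- elements of `C(z)` modulo the core
  have hsol : ∀ g ∈ centralizer ({u x15} : Set G), ∃ a ∈ th (u x15), ∃ n : G,
      n * u x15 = u x15 * n ∧ n ∈ normalizer (CS u kQ : Set G) ∧ g = a * n := by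
    obtain ⟨T, v, hv, hT, hV⟩ := h.vdata
    intro g hg
    obtain ⟨a, ha, n, hn, hgn⟩ := hB T v hV ⟨g, hg⟩
    refine ⟨a, ⟨a, ha, rfl⟩, n, mem_centralizer_singleton_iff.1 n.2, ?_, congrArg Subtype.val hgn⟩
    exact (mem_normalizer_lift hE hv hV.emb (Final_S_le h) Quot.closed_Q n).1 hn
  -- main construction from a pure subgroup
  have main : ∀ {K : ℕ}, Pure (u x15) (CS u K) → Nat.land x15 K = x15 →
      (∀ k : G, k * u x15 = u x15 * k → k ∈ normalizer (CS u kQ : Set G) →
        k ∈ normalizer (CS u K : Set G)) →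
      4 ≤ Nat.card (CS u kA1 ⊓ CS u K : Subgroup G) →
      4 ≤ Nat.card (CS u kA2 ⊓ CS u K : Subgroup G) → ∃ W : Subgroup G, MData (S : Subgroup G) u W := by
    intro K hP hzK hn h1 h2
    have hcl := closure hz hP
    have hsq1 := sq_of hE Quot.closed_A1 sq_A1
    have hsq2 := sq_of hE Quot.closed_A2 sq_A2
    have hc1 := Elem.comm_of_sq hsq1
    have hc2 := Elem.comm_of_sq hsq2
    have hN1 := normalizer_le_of_inf hz hP hc1 hsq1 h1
    have hN2 := normalizer_le_of_inf hz hP hc2 hsq2 h2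
    have hcent : centralizer ({u x15} : Set G) ≤ normalizer (W (CS u K) : Set G) := by
      apply centralizer_le (hzmem hzK) hz1
      intro g hg
      obtain ⟨a, ha, n, hn1, hn2, hgn⟩ := hsol g hg
      exact ⟨a, ha, n, hn n hn1 hn2, hgn⟩
    refine ⟨W (CS u K), hcl.1, hcl.2 _ (hzmem hzK) hz1, hcent, hN1, hN2, ?_⟩
    intro g hg
    refine mem_of_conj_mem S hzz ((Final_S_le h).trans hcent) hcent (hE.CS_le kA1) (hE.CS_le kA2)
      h.fus.wA1 h.fus.wA2 hc1 hc2 (hzmem (by decide)) (hzmem (by decide)) hN1 hN2 h.fus.inv hg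
  rcases hC with hC | hC
  · refine main (pure_E1 h hC) (by decide) (fun k h1 h2 => norm_E1 h h1 h2) ?_ ?_
    · exact card_ge_of_U hE (K := kU1) (by decide) cnt_U1
        (CS_mono hE (by decide) ((subK_iff _ _).2 (by decide)))
        (CS_mono hE (by decide) ((subK_iff _ _).2 (by decide)))
    · exact card_ge_of_U hE (K := kU1) (by decide) cnt_U1
        (CS_mono hE (by decide) ((subK_iff _ _).2 (by decide)))
        (CS_mono hE (by decide) ((subK_iff _ _).2 (by decide)))
  · refine main (pure_E2 h hC) (by decide) (fun k h1 h2 => norm_E2 h h1 h2) ?_ ?_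
    · exact card_ge_of_U hE (K := kU2) (by decide) cnt_U2
        (CS_mono hE (by decide) ((subK_iff _ _).2 (by decide)))
        (CS_mono hE (by decide) ((subK_iff _ _).2 (by decide)))
    · exact card_ge_of_U hE (K := kU2) (by decide) cnt_U2
        (CS_mono hE (by decide) ((subK_iff _ _).2 (by decide)))
        (CS_mono hE (by decide) ((subK_iff _ _).2 (by decide)))

end final

end Cfsg.Agent.SylowL5.MSub
end

-- part: SylowL5/MQuot
section
set_option linter.all false
open scoped Cfsg.Agent.FastGrp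

/-!
# The quotient `M / W`

`M = N_G(W)`: the hypotheses `OddHyp` for `M → M / W`, and the centralizer of the image of `z` is
isomorphic to the centralizer of a transvection of `SL(5, 2)`.
-/

set_option autoImplicit false

namespace Cfsg.Agent.SylowL5.MQuot

open Cfsg Subgroup Cfsg.Agent.SylowL5.Setup Cfsg.Agent.SylowL5.Data Cfsg.Agent.SylowL5.FusData
open Cfsg.Agent.SylowL5.MSub Cfsg.Agent.SylowL5.OddLift

variable {G : Type*} [Group G]

/-- `W` as a (normal) subgroup of its normalizer -/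
abbrev WM (W : Subgroup G) : Subgroup (normalizer (W : Set G)) := W.subgroupOf (normalizer (W : Set G))

instance WM_normal (W : Subgroup G) : (WM W).Normal := Subgroup.normal_in_normalizer

/-- the quotient map `M → M / W` -/
abbrev qW (W : Subgroup G) : (normalizer (W : Set G)) →* (normalizer (W : Set G)) ⧸ WM W :=
  QuotientGroup.mk' (WM W)

variable [Finite G] {S : Subgroup G} {u : ℕ → G} {W : Subgroup G}

/-- `z` as an element of `M` -/
def zM (h : MData S u W) : normalizer (W : Set G) :=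
  ⟨u x15, h.cent (mem_centralizer_singleton_iff.2 rfl)⟩

theorem card_ker (W : Subgroup G) : Nat.card (qW W).ker = Nat.card W := by
  rw [QuotientGroup.ker_mk']
  exact Nat.card_congr (Subgroup.subgroupOfEquivOfLe Subgroup.le_normalizer).toEquiv

theorem oddHyp (hE : Emb S u) (h : MData S u W) :
    OddHyp (normalizer (W : Set G)) (qW W) (zM h) := by
  refine ⟨QuotientGroup.mk'_surjective _, ?_, ?_, ?_, ?_⟩
  · rw [card_ker]; exact h.odd
  · apply Subtype.ext
    show u x15 * u x15 = 1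
    rw [← hE.mul (by decide) (by decide), show mu x15 x15 = 0 by decide, hE.zero]
  · intro h1
    have h2 : u x15 = 1 := congrArg Subtype.val h1
    rw [← hE.zero] at h2
    exact absurd (hE.inj (by decide) (by decide) h2) (by decide)
  · intro g hg
    exact h.fix g hg

/-- the map `C_G(z) → M / W` -/
def fC (h : MData S u W) : centralizer ({u x15} : Set G) →* (normalizer (W : Set G)) ⧸ WM W :=
  (qW W).comp (Subgroup.inclusion h.cent)

theorem fC_apply (h : MData S u W) (y : centralizer ({u x15} : Set G)) :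
    fC h y = qW W ⟨y, h.cent y.2⟩ := rfl

theorem range_fC (hE : Emb S u) (h : MData S u W) :
    (fC h).range = centralizer ({qW W (zM h)} : Set ((normalizer (W : Set G)) ⧸ WM W)) := by
  have hO := oddHyp hE h
  apply le_antisymm
  · rintro _ ⟨y, rfl⟩
    rw [mem_centralizer_singleton_iff, fC_apply, ← map_mul, ← map_mul]
    congr 1
    apply Subtype.ext
    exact mem_centralizer_singleton_iff.1 y.2
  · intro x hx
    rw [mem_centralizer_singleton_iff] at hx
    obtain ⟨g, hg, hgz⟩ := conj_lift hO.surj hO.odd hO.zz hO.zz (x := x) (by rw [hx]; group)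
    have h1 : (g : G) ∈ centralizer ({u x15} : Set G) := by
      rw [mem_centralizer_singleton_iff]
      have h2 : (g : G) * u x15 * (g : G)⁻¹ = u x15 := congrArg Subtype.val hgz
      calc (g : G) * u x15 = (g : G) * u x15 * (g : G)⁻¹ * g := by group
        _ = u x15 * g := by rw [h2]
    exact ⟨⟨g, h1⟩, hg⟩

theorem ker_fC (h : MData S u W) :
    (fC h).ker = pPrimeCore 2 (centralizer ({u x15} : Set G)) := by
  ext y
  rw [MonoidHom.mem_ker, fC_apply]
  have h1 : qW W ⟨y, h.cent y.2⟩ = 1 ↔ (y : G) ∈ W := by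
    rw [QuotientGroup.mk'_apply, QuotientGroup.eq_one_iff]
    rfl
  rw [h1]
  have h2 : (y : G) ∈ W ↔ (y : G) ∈ W ⊓ centralizer ({u x15} : Set G) :=
    ⟨fun hy => ⟨hy, y.2⟩, fun hy => hy.1⟩
  rw [h2, h.inf]
  constructor
  · rintro ⟨y', hy', hyy⟩
    have : y' = y := Subtype.ext hyy
    rwa [← this]
  · intro hy
    exact ⟨y, hy, rfl⟩

/-- the centralizer of the image of `z` in `M / W` -/
theorem nonempty_equiv (hE : Emb S u) (h : MData S u W)
    {T : Sylow 2 (centralizer ({u x15} : Set G))} {v : ℕ → (centralizer ({u x15} : Set G))}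
    (hV : VData T v)
    (hB : Solved (normalizer (CS v kQ : Set (centralizer ({u x15} : Set G)))))
    (s : Matrix.SpecialLinearGroup (Fin 5) (ZMod 2))
    (hs : (s : Matrix (Fin 5) (Fin 5) (ZMod 2)) = Matrix.transvection 0 1 1) :
    Nonempty (centralizer ({qW W (zM h)} : Set ((normalizer (W : Set G)) ⧸ WM W)) ≃*
      Subgroup.centralizer ({s} : Set (Matrix.SpecialLinearGroup (Fin 5) (ZMod 2)))) := by
  obtain ⟨e⟩ := Quot.nonempty_equiv hV hB s hs
  have e1 := QuotientGroup.quotientKerEquivRange (fC h)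
  have e2 : (centralizer ({u x15} : Set G)) ⧸ (fC h).ker ≃*
      (centralizer ({u x15} : Set G)) ⧸ pPrimeCore 2 (centralizer ({u x15} : Set G)) :=
    QuotientGroup.quotientMulEquivOfEq (ker_fC h)
  exact ⟨((MulEquiv.subgroupCongr (range_fC hE h)).symm.trans e1.symm).trans (e2.trans e)⟩

end Cfsg.Agent.SylowL5.MQuot

private theorem dce_5f1d3b9ff430 : _root_.True := by
  try have : _root_.True := by simp only [_root_.Cfsg.Agent.SylowL5.MQuot.zM.congr_simp]
  exact _root_.True.intro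
end

-- part: SylowL5/SolvedFinal
section
prune_inst 0x4000000000004000000000000000001000000000000000000000000000000000000000000000000000000010000000000000000001100000000000000000000000000000000000000000000
set_option linter.all false
open scoped Cfsg.Agent.FastGrp

-- part: SylowL5/TypeACodes
section
/-!
# Piece B3 of S0512: facts about codes
-/

set_option autoImplicit false

namespace Cfsg.Agent.SylowL5.TypeACodes

open Subgroup Cfsg.Agent.SylowL5.Setup

theorem ext10 {a b : ℕ} (ha : a < 1024) (hb : b < 1024)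
    (h : ∀ j, j < 10 → a.testBit j = b.testBit j) : a = b := by
  apply Nat.eq_of_testBit_eq
  intro j
  by_cases hj : j < 10
  · exact h j hj
  · push Not at hj
    have h1 : (2 : ℕ) ^ 10 ≤ 2 ^ j := Nat.pow_le_pow_right (by norm_num) hj
    rw [Nat.testBit_lt_two_pow (lt_of_lt_of_le (by norm_num; exact ha) h1),
      Nat.testBit_lt_two_pow (lt_of_lt_of_le (by norm_num; exact hb) h1)]

theorem subK_of10 {a K : ℕ} (ha : a < 1024)
    (h : ∀ j, j < 10 → a.testBit j = true → K.testBit j = true) : SubK a K := by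
  intro j hj
  by_cases hj' : j < 10
  · exact h j hj' hj
  · push Not at hj'
    have h1 : (2 : ℕ) ^ 10 ≤ 2 ^ j := Nat.pow_le_pow_right (by norm_num) hj'
    rw [Nat.testBit_lt_two_pow (lt_of_lt_of_le (by norm_num; exact ha) h1)] at hj
    exact absurd hj (by decide)

theorem subK_of_bits {a K : ℕ} (ha : a < 1024)
    (h : ∀ j, j < 10 → K.testBit j = false → a.testBit j = false) : SubK a K := by
  apply subK_of10 ha
  intro j hj hj2
  cases h1 : K.testBit j
  · rw [h j hj h1] at hj2; exact absurd hj2 (by decide)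
  · rfl

theorem bx1 (a b : Bool) : ((a ^^ b) = a) = (b = false) := by revert a b; decide
theorem bx2 (a b : Bool) : (a = (a ^^ b)) = (b = false) := by revert a b; decide

theorem tb (i j : ℕ) : Nat.testBit (2 ^ i) j = decide (i = j) := Nat.testBit_two_pow
theorem tb1 (j : ℕ) : Nat.testBit 1 j = decide (0 = j) := tb 0 j
theorem tb8 (j : ℕ) : Nat.testBit 8 j = decide (3 = j) := tb 3 j
theorem tb16 (j : ℕ) : Nat.testBit 16 j = decide (4 = j) := tb 4 j
theorem tb64 (j : ℕ) : Nat.testBit 64 j = decide (6 = j) := tb 6 j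
theorem tb128 (j : ℕ) : Nat.testBit 128 j = decide (7 = j) := tb 7 j
theorem tb256 (j : ℕ) : Nat.testBit 256 j = decide (8 = j) := tb 8 j
theorem tb512 (j : ℕ) : Nat.testBit 512 j = decide (9 = j) := tb 9 j

theorem not_of_subK {a K j : ℕ} (h : SubK a K) (hj : K.testBit j = false) :
    a.testBit j = false := by
  cases h1 : a.testBit j
  · rfl
  · rw [h j h1] at hj; exact absurd hj (by decide)

variable {G : Type*} [Group G] {S : Subgroup G} {u : ℕ → G}

theorem comm_iff (h : Emb S u) {a b : ℕ} (ha : a < 1024) (hb : b < 1024) :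
    u a * u b = u b * u a ↔ mu a b = mu b a := by
  rw [← h.mul ha hb, ← h.mul hb ha]
  exact ⟨fun h1 => h.inj (mu_lt ha hb) (mu_lt hb ha) h1, fun h1 => by rw [h1]⟩

theorem mu_U1 {c x : ℕ} (hc : SubK c kU1) (j : ℕ) :
    (mu c x).testBit j = (c.testBit j ^^ x.testBit j) := by
  rw [testBit_mu, not_of_subK hc (j := 0) (by decide), not_of_subK hc (j := 1) (by decide),
    not_of_subK hc (j := 2) (by decide), not_of_subK hc (j := 4) (by decide),
    not_of_subK hc (j := 5) (by decide), not_of_subK hc (j := 7) (by decide)]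
  simp

theorem comm_mem (h : Emb S u) {a b : ℕ} (ha : a < 1024) (hb : b < 1024)
    (hab : ∀ j, j < 8 → (mu a b).testBit j = (mu b a).testBit j) :
    u a * u b * (u a)⁻¹ * (u b)⁻¹ ∈ CS u kU1 := by
  set c := Nat.xor (mu a b) (mu b a) with hc
  have hx : ∀ j, c.testBit j = ((mu a b).testBit j ^^ (mu b a).testBit j) := fun j =>
    Nat.testBit_xor _ _ j
  have hclt : c < 1024 := Nat.xor_lt_two_pow (n := 10) (mu_lt ha hb) (mu_lt hb ha)
  have hcK : SubK c kU1 := by
    apply subK_of10 hclt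
    intro j hj hj2
    by_cases hj3 : j < 8
    · rw [hx, hab j hj3, Bool.xor_self] at hj2
      exact absurd hj2 (by decide)
    · have : j = 8 ∨ j = 9 := by omega
      rcases this with rfl | rfl <;> decide
  have h1 : mu c (mu b a) = mu a b := by
    apply ext10 (mu_lt hclt (mu_lt hb ha)) (mu_lt ha hb)
    intro j _
    rw [mu_U1 hcK, hx, Bool.xor_assoc, Bool.xor_self, Bool.xor_false]
  have h2 : u a * u b * (u a)⁻¹ * (u b)⁻¹ = u c := by
    have h3 : u a * u b = u c * (u b * u a) := by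
      rw [← h.mul ha hb, ← h.mul hb ha, ← h.mul hclt (mu_lt hb ha), h1]
    rw [h3]; group
  rw [h2, h.mem_CS (by decide)]
  exact ⟨c, hclt, hcK, rfl⟩

theorem bits_of_comm_mem (h : Emb S u) {a b : ℕ} (ha : a < 1024) (hb : b < 1024)
    (hF : u a * u b * (u a)⁻¹ * (u b)⁻¹ ∈ CS u kU1) :
    ∀ j, j < 8 → (mu a b).testBit j = (mu b a).testBit j := by
  obtain ⟨c, hclt, hcK, hc⟩ := (h.mem_CS (by decide)).1 hF
  have h3 : u a * u b = u c * (u b * u a) := by
    rw [hc]; group
  rw [← h.mul ha hb, ← h.mul hb ha, ← h.mul hclt (mu_lt hb ha)] at h3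
  have h4 := h.inj (mu_lt ha hb) (mu_lt hclt (mu_lt hb ha)) h3
  intro j hj
  rw [h4, mu_U1 hcK]
  have h5 : c.testBit j = false := by
    apply not_of_subK hcK
    interval_cases j <;> decide
  rw [h5, Bool.false_xor]

/-- masks -/
abbrev kR : ℕ := 1018

/-- `|CS u K|` -/
theorem card_CS (h : Emb S u) {K : ℕ} (hK : closedK K = true) :
    Nat.card (CS u K) = ((Finset.range 1024).filter (fun a => Nat.land a K = a)).card := by
  symm
  rw [← Nat.card_eq_finsetCard]
  refine Nat.card_congr (Equiv.ofBijective (fun a => ⟨u a.1, ?_⟩) ⟨?_, ?_⟩)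
  · have ha := a.2
    rw [Finset.mem_filter, Finset.mem_range] at ha
    exact (h.mem_CS hK).2 ⟨a.1, ha.1, (subK_iff _ _).2 ha.2, rfl⟩
  · intro a b hab
    have ha := a.2
    have hb := b.2
    rw [Finset.mem_filter, Finset.mem_range] at ha hb
    exact Subtype.ext (h.inj ha.1 hb.1 (congrArg Subtype.val hab))
  · rintro ⟨g, hg⟩
    obtain ⟨a, ha, ha', rfl⟩ := (h.mem_CS hK).1 hg
    exact ⟨⟨a, by rw [Finset.mem_filter, Finset.mem_range]; exact ⟨ha, (subK_iff _ _).1 ha'⟩⟩, rfl⟩

theorem card_S1 (h : Emb S u) : Nat.card (CS u kS1) = 512 := by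
  rw [card_CS h (by decide)]; decide +kernel

theorem card_R (h : Emb S u) : Nat.card (CS u kR) = 256 := by
  rw [card_CS h (by decide)]; decide +kernel

theorem card_E1 (h : Emb S u) : Nat.card (CS u kE1) = 16 := by
  rw [card_CS h (by decide)]; decide +kernel

theorem card_U1 (h : Emb S u) : Nat.card (CS u kU1) = 4 := by
  rw [card_CS h (by decide)]; decide +kernel

theorem CS_mono {K L : ℕ} (hKL : ∀ j, K.testBit j = true → L.testBit j = true) :
    CS u K ≤ CS u L := by
  unfold CS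
  apply Subgroup.closure_mono
  rintro g ⟨a, ha, ha', rfl⟩
  exact ⟨a, ha, fun j hj => hKL j (ha' j hj), rfl⟩

theorem mono_of10 {K L : ℕ} (hK : K < 1024)
    (h : allb 10 (fun j => !K.testBit j || L.testBit j) = true) :
    ∀ j, K.testBit j = true → L.testBit j = true := by
  refine subK_of10 hK ?_
  intro j hj hj2
  have h1 := of_allb h j hj
  rw [hj2] at h1
  simpa using h1

theorem relIndex_CS (h : Emb S u) {K L : ℕ} (hK : closedK K = true) (hL : closedK L = true)
    (hKL : ∀ j, K.testBit j = true → L.testBit j = true) :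
    Nat.card (CS u K) * (CS u K).relIndex (CS u L) = Nat.card (CS u L) := by
  have h6 := Subgroup.relIndex_mul_relIndex ⊥ (CS u K) (CS u L) bot_le (CS_mono hKL)
  rw [Subgroup.relIndex_bot_left, Subgroup.relIndex_bot_left] at h6
  exact h6

/-! ### facts on `R`, `E1`, `F` -/

theorem R_comm (h : Emb S u) {a b : ℕ} (ha : a < 1024) (hb : b < 1024) (haR : SubK a kR)
    (hbR : SubK b kR) : u a * u b * (u a)⁻¹ * (u b)⁻¹ ∈ CS u kU1 := by
  have a0 := not_of_subK haR (j := 0) (by decide)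
  have a2 := not_of_subK haR (j := 2) (by decide)
  have b0 := not_of_subK hbR (j := 0) (by decide)
  have b2 := not_of_subK hbR (j := 2) (by decide)
  apply comm_mem h ha hb
  intro j hj
  rw [testBit_mu, testBit_mu, a0, a2, b0, b2]
  interval_cases j <;> simp [-Nat.testBit_zero, Bool.xor_comm]

theorem R_sq (h : Emb S u) {a : ℕ} (ha : a < 1024) (haR : SubK a kR) : u a * u a ∈ CS u kU1 := by
  have a0 := not_of_subK haR (j := 0) (by decide)
  have a2 := not_of_subK haR (j := 2) (by decide)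
  rw [← h.mul ha ha, h.mem_CS (by decide)]
  refine ⟨mu a a, mu_lt ha ha, subK_of10 (mu_lt ha ha) ?_, rfl⟩
  intro j hj
  rw [testBit_mu, a0, a2]
  interval_cases j <;> first | (intro _; decide) | simp

theorem mem_R (h : Emb S u) {a : ℕ} (ha : a < 1024) (haS : SubK a kS1)
    (hc : u a * u x45 * (u a)⁻¹ * (u x45)⁻¹ ∈ CS u kU1) : SubK a kR := by
  have a0 := not_of_subK haS (j := 0) (by decide)
  have h1 := bits_of_comm_mem h ha (b := x45) (by norm_num) hc 6 (by norm_num)
  rw [testBit_mu, testBit_mu] at h1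
  have a2 : a.testBit 2 = false := by
    simpa (config := {decide := true}) [-Nat.testBit_zero, tb1, tb8, tb16, tb64, tb128, tb256, bx1, bx2] using h1
  apply subK_of_bits ha
  intro j hj
  interval_cases j <;> first | (intro _; assumption) | (intro h'; exact absurd h' (by decide))

theorem E_cent (h : Emb S u) {a : ℕ} (ha : a < 1024) (haR : SubK a kR)
    (h1 : u a * u x45 = u x45 * u a) (h2 : u a * u x35 = u x35 * u a) : SubK a kE1 := by
  have a0 := not_of_subK haR (j := 0) (by decide)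
  have a2 := not_of_subK haR (j := 2) (by decide)
  rw [comm_iff h ha (by norm_num)] at h1 h2
  have e1 := congrArg (fun x => x.testBit 8) h1
  have e2 := congrArg (fun x => x.testBit 9) h1
  have e3 := congrArg (fun x => x.testBit 8) h2
  have e4 := congrArg (fun x => x.testBit 9) h2
  simp only [testBit_mu] at e1 e2 e3 e4
  have a5 : a.testBit 5 = false := by simpa (config := {decide := true}) [-Nat.testBit_zero, tb1, tb8, tb16, tb64, tb128, tb256, bx1, bx2] using e1
  have a7 : a.testBit 7 = false := by simpa (config := {decide := true}) [-Nat.testBit_zero, tb1, tb8, tb16, tb64, tb128, tb256, bx1, bx2] using e2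
  have a1 : a.testBit 1 = false := by simpa (config := {decide := true}) [-Nat.testBit_zero, tb1, tb8, tb16, tb64, tb128, tb256, bx1, bx2] using e3
  have a4 : a.testBit 4 = false := by simpa (config := {decide := true}) [-Nat.testBit_zero, tb1, tb8, tb16, tb64, tb128, tb256, bx1, bx2] using e4
  apply subK_of_bits ha
  intro j hj
  interval_cases j <;> first | (intro _; assumption) | (intro h'; exact absurd h' (by decide))

theorem z_comm (h : Emb S u) {a : ℕ} (ha : a < 1024) (haS : SubK a kS1) :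
    u a * u x35 * (u a)⁻¹ * (u x35)⁻¹ ∈ CS u kU1 := by
  have a0 := not_of_subK haS (j := 0) (by decide)
  apply comm_mem h ha (by norm_num)
  intro j hj
  rw [testBit_mu, testBit_mu, a0]
  interval_cases j <;> simp (config := {decide := true}) [-Nat.testBit_zero, tb1, tb8, tb16, tb64, tb128, tb256]

theorem E_sq (h : Emb S u) {a : ℕ} (ha : a < 1024) (haE : SubK a kE1) : u a * u a = 1 := by
  have a0 := not_of_subK haE (j := 0) (by decide)
  have a1 := not_of_subK haE (j := 1) (by decide)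
  have a2 := not_of_subK haE (j := 2) (by decide)
  have a4 := not_of_subK haE (j := 4) (by decide)
  have a5 := not_of_subK haE (j := 5) (by decide)
  have a7 := not_of_subK haE (j := 7) (by decide)
  rw [← h.mul ha ha, ← h.zero]
  congr 1
  apply ext10 (mu_lt ha ha) (by norm_num)
  intro j hj
  rw [testBit_mu, a0, a1, a2, a4, a5, a7, Nat.zero_testBit]
  simp

/-- the centralizer of `x25` -/
theorem S1_comm (h : Emb S u) {a : ℕ} (ha : a < 1024) :
    u a * u x25 = u x25 * u a ↔ SubK a kS1 := by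
  rw [comm_iff h ha (by norm_num)]
  constructor
  · intro h1
    have e1 := congrArg (fun x => x.testBit 9) h1
    simp only [testBit_mu] at e1
    have a0 : a.testBit 0 = false := by simpa (config := {decide := true}) [-Nat.testBit_zero, tb1, tb8, tb16, tb64, tb128, tb256, bx1, bx2] using e1
    apply subK_of_bits ha
    intro j hj
    interval_cases j <;> first | (intro _; assumption) | (intro h'; exact absurd h' (by decide))
  · intro h1
    have a0 := not_of_subK h1 (j := 0) (by decide)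
    apply ext10 (mu_lt ha (by norm_num)) (mu_lt (by norm_num) ha)
    intro j hj
    rw [testBit_mu, testBit_mu, a0]
    interval_cases j <;> simp (config := {decide := true}) [-Nat.testBit_zero, tb1, tb8, tb16, tb64, tb128, tb256]

/-- the centre of `S` -/
theorem center_S (h : Emb S u) {a : ℕ} (ha : a < 1024)
    (h1 : u a * u x12 = u x12 * u a) (h2 : u a * u x23 = u x23 * u a)
    (h3 : u a * u x34 = u x34 * u a) (h4 : u a * u x45 = u x45 * u a) : a = 0 ∨ a = 512 := by
  rw [comm_iff h ha (by norm_num)] at h1 h2 h3 h4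
  have key : allb 1024 (fun a => !(Nat.beq (mu a 1) (mu 1 a)) || (!(Nat.beq (mu a 2) (mu 2 a)) ||
    (!(Nat.beq (mu a 4) (mu 4 a)) || (!(Nat.beq (mu a 8) (mu 8 a)) ||
      (Nat.beq a 0 || Nat.beq a 512))))) = true := by decide +kernel
  have h5 := of_allb key a ha
  have e1 : Nat.beq (mu a 1) (mu 1 a) = true := by rw [Nat.beq_eq]; exact h1
  have e2 : Nat.beq (mu a 2) (mu 2 a) = true := by rw [Nat.beq_eq]; exact h2
  have e3 : Nat.beq (mu a 4) (mu 4 a) = true := by rw [Nat.beq_eq]; exact h3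
  have e4 : Nat.beq (mu a 8) (mu 8 a) = true := by rw [Nat.beq_eq]; exact h4
  rw [e1, e2, e3, e4] at h5
  simp only [Bool.not_true, Bool.false_or, Bool.or_eq_true] at h5
  rcases h5 with h5 | h5
  · left; exact Nat.eq_of_beq_eq_true h5
  · right; exact Nat.eq_of_beq_eq_true h5

/-- the centralizer of `Q` -/
theorem cent_Q (h : Emb S u) {a : ℕ} (ha : a < 1024)
    (hc : ∀ q ∈ CS u kQ, u a * q = q * u a) : a = 0 ∨ a = 512 := by
  have hm : ∀ b, b < 1024 → SubK b kQ → mu a b = mu b a := by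
    intro b hb hbQ
    rw [← comm_iff h ha hb]
    exact hc _ ((h.mem_CS (by decide)).2 ⟨b, hb, hbQ, rfl⟩)
  have h1 := hm 1 (by norm_num) (by rw [subK_iff]; decide)
  have h2 := hm 16 (by norm_num) (by rw [subK_iff]; decide)
  have h3 := hm 8 (by norm_num) (by rw [subK_iff]; decide)
  have h4 := hm 64 (by norm_num) (by rw [subK_iff]; decide)
  have h5 := hm 128 (by norm_num) (by rw [subK_iff]; decide)
  have h6 := hm 256 (by norm_num) (by rw [subK_iff]; decide)
  have e1 := congrArg (fun x => x.testBit 4) h1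
  have e2 := congrArg (fun x => x.testBit 7) h1
  have e3 := congrArg (fun x => x.testBit 9) h1
  have e4 := congrArg (fun x => x.testBit 7) h2
  have e5 := congrArg (fun x => x.testBit 9) h2
  have e6 := congrArg (fun x => x.testBit 9) h3
  have e7 := congrArg (fun x => x.testBit 9) h4
  have e8 := congrArg (fun x => x.testBit 9) h5
  have e9 := congrArg (fun x => x.testBit 9) h6
  simp only [testBit_mu] at e1 e2 e3 e4 e5 e6 e7 e8 e9
  have a1 : a.testBit 1 = false := by simpa (config := {decide := true}) [-Nat.testBit_zero, tb1, tb8, tb16, tb64, tb128, tb256, bx1, bx2] using e1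
  have a5 : a.testBit 5 = false := by simpa (config := {decide := true}) [-Nat.testBit_zero, tb1, tb8, tb16, tb64, tb128, tb256, bx1, bx2] using e2
  have a8 : a.testBit 8 = false := by simpa (config := {decide := true}) [-Nat.testBit_zero, tb1, tb8, tb16, tb64, tb128, tb256, bx1, bx2] using e3
  have a2 : a.testBit 2 = false := by simpa (config := {decide := true}) [-Nat.testBit_zero, tb1, tb8, tb16, tb64, tb128, tb256, bx1, bx2] using e4
  have a6 : a.testBit 6 = false := by simpa (config := {decide := true}) [-Nat.testBit_zero, tb1, tb8, tb16, tb64, tb128, tb256, bx1, bx2] using e5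
  have a7 : a.testBit 7 = false := by simpa (config := {decide := true}) [-Nat.testBit_zero, tb1, tb8, tb16, tb64, tb128, tb256, bx1, bx2] using e6
  have a4 : a.testBit 4 = false := by simpa (config := {decide := true}) [-Nat.testBit_zero, tb1, tb8, tb16, tb64, tb128, tb256, bx1, bx2] using e7
  have a3 : a.testBit 3 = false := by simpa (config := {decide := true}) [-Nat.testBit_zero, tb1, tb8, tb16, tb64, tb128, tb256, bx1, bx2] using e8
  have a0 : a.testBit 0 = false := by simpa (config := {decide := true}) [-Nat.testBit_zero, tb1, tb8, tb16, tb64, tb128, tb256, bx1, bx2] using e9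
  cases a9 : a.testBit 9
  · left
    apply ext10 ha (by norm_num)
    intro j hj
    rw [Nat.zero_testBit]
    interval_cases j <;> assumption
  · right
    apply ext10 ha (by norm_num)
    intro j hj
    rw [tb512]
    interval_cases j <;> assumption

/-- `C_Q(E1) = E1` -/
theorem cent_E1_Q (h : Emb S u) {a : ℕ} (ha : a < 1024) (haQ : SubK a kQ)
    (h1 : u a * u x45 = u x45 * u a) (h2 : u a * u x35 = u x35 * u a)
    (h3 : u a * u x25 = u x25 * u a) : SubK a kE1 := by
  refine E_cent h ha ?_ h1 h2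
  have a0 := not_of_subK ((S1_comm h ha).1 h3) (j := 0) (by decide)
  have a2 := not_of_subK haQ (j := 2) (by decide)
  apply subK_of_bits ha
  intro j hj
  interval_cases j <;> first | (intro _; assumption) | (intro h'; exact absurd h' (by decide))

end Cfsg.Agent.SylowL5.TypeACodes
end

-- part: SylowL5/TypeAAbs
section
/-!
# Piece B3 of S0512: abstract form

`H` is the centralizer of the four-group `F = ⟨z, t⟩` in `Y = C_G(z)`, `P` its Sylow 2-subgroup,
`E` the elementary group of order 16, `R = A₁ E`, `N = N_H(Q)`, `K` the odd order elements of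
`C_N(Q)`. Conclusion: `H = O(H) N` and `H` is solvable.
-/

set_option autoImplicit false

namespace Cfsg.Agent.SylowL5.TypeAAbs

open Cfsg Subgroup
open Cfsg.Agent.SylowL5.Ctrl Cfsg.Agent.SylowL5.TypeAGen
open Cfsg.Agent.Lib.GoldschmidtFusion

/-- The configuration in the centralizer of a four-group. -/
structure TData {H : Type*} [Group H] (P : Sylow 2 H) (F E R N K : Subgroup H) : Prop where
  FE : F ≤ E
  ER : E ≤ R
  RP : R ≤ P
  PN : (P : Subgroup H) ≤ N
  Fc : ∀ f ∈ F, ∀ h : H, f * h = h * f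
  E2 : ∀ e ∈ E, e * e = 1
  EN : ∀ n ∈ N, ∀ e ∈ E, n * e * n⁻¹ ∈ E
  mem_R : ∀ r ∈ P, (∀ e ∈ E, r * e * r⁻¹ * e⁻¹ ∈ F) → r ∈ R
  R_comm : ∀ r ∈ R, ∀ s ∈ R, r * s * r⁻¹ * s⁻¹ ∈ F
  R_sq : ∀ r ∈ R, r * r ∈ F
  E_cent : ∀ r ∈ R, (∀ e ∈ E, r * e = e * r) → r ∈ E
  E_rel : F.relIndex E = 4
  R_rel : 8 ≤ F.relIndex R
  P_rel : R.relIndex P = 2
  ctrl : Data.Ctrl N
  KN : K ≤ N
  Kodd : Odd (Nat.card K)
  Kn : ∀ n ∈ N, ∀ x ∈ K, n * x * n⁻¹ ∈ K
  mem_K : ∀ x ∈ N, Odd (orderOf x) → (∀ e ∈ E, x * e = e * x) → x ∈ K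
  z : ∃ z ∈ E, z ∉ F ∧ ∀ s ∈ P, s * z * s⁻¹ * z⁻¹ ∈ F
  v : ∃ v ∈ R, v ∉ E

variable {H : Type*} [Group H] {P : Sylow 2 H} {F E R N K : Subgroup H}

theorem TData.F2 (h : TData P F E R N K) : ∀ f ∈ F, f * f = 1 := fun f hf => h.E2 f (h.FE hf)

theorem TData.F_normal (h : TData P F E R N K) : F.Normal := by
  constructor
  intro f hf g
  rw [← h.Fc f hf g, mul_inv_cancel_right]
  exact hf

theorem TData.E_comm (h : TData P F E R N K) {x y : H} (hx : x ∈ E) (hy : y ∈ E) :
    x * y = y * x := by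
  have h3 := h.E2 _ (E.mul_mem hx hy)
  have h4 : x⁻¹ = x := inv_eq_of_mul_eq_one_right (h.E2 x hx)
  have h5 : y⁻¹ = y := inv_eq_of_mul_eq_one_right (h.E2 y hy)
  have h6 : x * y = (x * y)⁻¹ := (inv_eq_of_mul_eq_one_right h3).symm
  rw [h6, _root_.mul_inv_rev, h4, h5]

/-- The chain argument. -/
theorem TData.chain (h : TData P F E R N K) {a k : H} (ha : a ∈ R) (haF : a ∉ F) (hk : k ∈ N)
    (hko : Odd (orderOf k)) (hka : k * a = a * k) : ∀ e ∈ E, k * e = e * k := by
  have hkE : ∀ e ∈ E, k * e * k⁻¹ ∈ E := h.EN k hk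
  have hFk : ∀ f ∈ F, k * f = f * k := fun f hf => (h.Fc f hf k).symm
  by_cases haE : a ∈ E
  · -- `W = F ⟨a⟩`
    set W : Subgroup H := F ⊔ zpowers a with hW
    have hWE : W ≤ E := sup_le h.FE (by rw [zpowers_le]; exact haE)
    have hFW : F ≤ W := le_sup_left
    have haW : a ∈ W := mem_sup_right (mem_zpowers a)
    have hWk : ∀ w ∈ W, k * w = w * k := by
      intro w hw
      have h1 : W ≤ centralizer {k} := by
        rw [hW]
        refine sup_le ?_ ?_
        · intro f hf
          rw [mem_centralizer_singleton_iff]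
          exact h.Fc f hf k
        · rw [zpowers_le, mem_centralizer_singleton_iff]
          exact hka.symm
      exact (mem_centralizer_singleton_iff.1 (h1 hw)).symm
    have h1 : F.relIndex W * W.relIndex E = 4 := by
      rw [relIndex_mul_relIndex _ _ _ hFW hWE]; exact h.E_rel
    have h2 : F.relIndex W ≠ 1 := by
      rw [Ne, relIndex_eq_one]
      intro h3
      exact haF (h3 haW)
    have h3 : W.relIndex E ≠ 0 ∧ W.relIndex E ≤ 2 := by
      constructor
      · intro h3; rw [h3, mul_zero] at h1; omega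
      · by_contra h4
        push Not at h4
        have h5 : F.relIndex W ≠ 0 := by
          intro h5; rw [h5, zero_mul] at h1; omega
        have h6 : 2 ≤ F.relIndex W := by omega
        nlinarith
    have h4 := conj_mem_of_relIndex_le hWE h3.1 h3.2 hWk hkE
    intro e he
    refine comm_of_conj hko (h.E2 _ (hWE (h4 e he))) (hWk _ (h4 e he)) ?_
    group
  · -- `W = C_E(a)`
    set W : Subgroup H := E ⊓ centralizer {a} with hW
    have hWE : W ≤ E := inf_le_left
    have hFW : F ≤ W := by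
      intro f hf
      exact ⟨h.FE hf, mem_centralizer_singleton_iff.2 (h.Fc f hf a)⟩
    have hkW : ∀ w ∈ W, k * w * k⁻¹ ∈ W := by
      intro w hw
      refine mem_inf.2 ⟨hkE w hw.1, ?_⟩
      have h1 := mem_centralizer_singleton_iff.1 hw.2
      rw [mem_centralizer_singleton_iff]
      have h2 : k⁻¹ * a = a * k⁻¹ := by
        rw [inv_mul_eq_iff_eq_mul, ← mul_assoc, hka, mul_inv_cancel_right]
      calc k * w * k⁻¹ * a = k * w * (k⁻¹ * a) := by group
        _ = k * (w * a) * k⁻¹ := by rw [h2]; group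
        _ = (k * a) * w * k⁻¹ := by rw [h1]; group
        _ = a * (k * w * k⁻¹) := by rw [hka]; group
    have hne : W.relIndex E ≠ 1 := by
      rw [Ne, relIndex_eq_one]
      intro h1
      apply haE
      refine h.E_cent a ha ?_
      intro e he
      exact (mem_centralizer_singleton_iff.1 (h1 he).2).symm
    have h1 : F.relIndex W * W.relIndex E = 4 := by
      rw [relIndex_mul_relIndex _ _ _ hFW hWE]; exact h.E_rel
    have h3 : F.relIndex W ≠ 0 ∧ F.relIndex W ≤ 2 := by
      constructor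
      · intro h3; rw [h3, zero_mul] at h1; omega
      · by_contra h4
        push Not at h4
        have h5 : W.relIndex E ≠ 0 := by
          intro h5; rw [h5, mul_zero] at h1; omega
        have h6 : 2 ≤ W.relIndex E := by omega
        nlinarith
    have h4 := conj_mem_of_relIndex_le hFW h3.1 h3.2 hFk hkW
    have hWk : ∀ w ∈ W, k * w = w * k := by
      intro w hw
      refine comm_of_conj hko (h.F2 _ (h4 w hw)) (hFk _ (h4 w hw)) ?_
      group
    have h5 : ∀ e ∈ E, k * e * k⁻¹ * e⁻¹ ∈ W := by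
      intro e he
      refine mem_inf.2 ⟨E.mul_mem (hkE e he) (E.inv_mem he), ?_⟩
      rw [mem_centralizer_singleton_iff]
      have hc := h.R_comm e (h.ER he) a ha
      obtain ⟨c, hc'⟩ : ∃ c, c = e * a * e⁻¹ * a⁻¹ := ⟨_, rfl⟩
      rw [← hc'] at hc
      have h6 : e * a * e⁻¹ = c * a := by rw [hc']; group
      have hck := h.Fc c hc k
      have hce := h.Fc c hc e⁻¹
      have h2 : k⁻¹ * a = a * k⁻¹ := by
        rw [inv_mul_eq_iff_eq_mul, ← mul_assoc, hka, mul_inv_cancel_right]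
      -- `e' = k e k⁻¹`
      have h7 : (k * e * k⁻¹) * a * (k * e * k⁻¹)⁻¹ = c * a := by
        calc (k * e * k⁻¹) * a * (k * e * k⁻¹)⁻¹ = k * e * (k⁻¹ * a) * k * e⁻¹ * k⁻¹ := by group
          _ = k * (e * a * e⁻¹) * k⁻¹ := by rw [h2]; group
          _ = (k * c) * a * k⁻¹ := by rw [h6]; group
          _ = c * (k * a) * k⁻¹ := by rw [← hck]; group
          _ = c * a := by rw [hka]; group
      have h8 : e⁻¹ * a * e = c⁻¹ * a := by
        have h9 : a = e⁻¹ * (c * a) * e := by rw [← h6]; group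
        calc e⁻¹ * a * e = c⁻¹ * (c * e⁻¹) * a * e := by group
          _ = c⁻¹ * (e⁻¹ * (c * a) * e) := by rw [hce]; group
          _ = c⁻¹ * a := by rw [← h9]
      have hcc : c * (k * e * k⁻¹) = (k * e * k⁻¹) * c := h.Fc c hc _
      have h7' : (k * e * k⁻¹) * a = c * a * (k * e * k⁻¹) := by
        calc (k * e * k⁻¹) * a = (k * e * k⁻¹) * a * (k * e * k⁻¹)⁻¹ * (k * e * k⁻¹) := by group
          _ = _ := by rw [h7]
      have h8' : e⁻¹ * a = c⁻¹ * a * e⁻¹ := by
        calc e⁻¹ * a = e⁻¹ * a * e * e⁻¹ := by group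
          _ = _ := by rw [h8]
      have hcc' : c⁻¹ * (k * e * k⁻¹) = (k * e * k⁻¹) * c⁻¹ := h.Fc _ (inv_mem hc) _
      calc k * e * k⁻¹ * e⁻¹ * a = (k * e * k⁻¹) * (e⁻¹ * a) := by group
        _ = ((k * e * k⁻¹) * c⁻¹) * a * e⁻¹ := by rw [h8']; group
        _ = c⁻¹ * ((k * e * k⁻¹) * a) * e⁻¹ := by rw [← hcc']; group
        _ = c⁻¹ * (c * a * (k * e * k⁻¹)) * e⁻¹ := by rw [h7']
        _ = a * (k * e * k⁻¹ * e⁻¹) := by group
    intro e he
    refine comm_of_conj hko (h.E2 _ (hWE (h5 e he))) (hWk _ (h5 e he)) ?_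
    group

variable [Finite H]

/-- Centralizers of the elements of `R - F` are 2-nilpotent. -/
theorem TData.oddClosed_centralizer (h : TData P F E R N K) {a : H} (ha : a ∈ R) (haF : a ∉ F) :
    OddClosed (centralizer ({a} : Set H)) := by
  have h2 : Fact (Nat.Prime 2) := ⟨Nat.prime_two⟩
  have e : centralizer (zpowers a : Set H) = centralizer ({a} : Set H) := by
    rw [zpowers_eq_closure, centralizer_closure]
  rw [← e]
  apply oddClosed_of_hasNormalPComplement
  have haN : a ∈ N := h.PN (h.RP ha)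
  have hc := ctrl_centralizer h.ctrl (F := zpowers a) (zpowers_le.2 haN)
    (P.isPGroup'.to_le (zpowers_le.2 (h.RP ha)))
  refine two_nilpotent (O := K.subgroupOf (centralizer (zpowers a : Set H))) hc ?_ ?_ ?_ ?_
  · intro x hx
    exact h.KN hx
  · apply odd_card_of_forall
    intro x hx
    rw [← Subgroup.orderOf_coe]
    exact h.Kodd.of_dvd_nat (K.orderOf_dvd_natCard (mem_subgroupOf.1 hx))
  · intro n hn x hx
    exact h.Kn n hn x hx
  · intro x hx hxo
    rw [← Subgroup.orderOf_coe] at hxo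
    refine h.mem_K x hx hxo (h.chain ha haF hx hxo ?_)
    exact (mem_centralizer_iff.1 x.2 a (mem_zpowers a)).symm

/-- The same in `H / F`. -/
theorem TData.oddClosed_quotient (h : TData P F E R N K) [F.Normal] {a : H} (ha : a ∈ R)
    (haF : a ∉ F) : OddClosed (centralizer ({QuotientGroup.mk' F a} : Set (H ⧸ F))) := by
  have hlift : ∀ x ∈ centralizer ({QuotientGroup.mk' F a} : Set (H ⧸ F)), Odd (orderOf x) →
      ∃ y ∈ centralizer ({a} : Set H), QuotientGroup.mk' F y = x ∧ Odd (orderOf y) := by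
    intro x hx hxo
    obtain ⟨y, rfl, hy⟩ := lift_odd h.F2 hxo
    refine ⟨y, ?_, rfl, hy⟩
    rw [mem_centralizer_singleton_iff] at hx ⊢
    have h1 : y * a * y⁻¹ * a⁻¹ ∈ F := by
      rw [← QuotientGroup.ker_mk' F, MonoidHom.mem_ker, map_mul, map_mul, map_mul, map_inv,
        map_inv, hx]
      group
    exact comm_of_conj hy (h.F2 _ h1) (h.Fc _ h1 y).symm (by group)
  intro x hx y hy hxo hyo
  obtain ⟨x', hx', rfl, hxo'⟩ := hlift x hx hxo
  obtain ⟨y', hy', rfl, hyo'⟩ := hlift y hy hyo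
  have h1 := h.oddClosed_centralizer ha haF x' hx' y' hy' hxo' hyo'
  rw [← map_mul]
  exact h1.of_dvd_nat (orderOf_map_dvd _ _)

theorem mk_mem_map_iff {F : Subgroup H} [F.Normal] {A : Subgroup H} (hFA : F ≤ A) {x : H} :
    QuotientGroup.mk' F x ∈ A.map (QuotientGroup.mk' F) ↔ x ∈ A := by
  constructor
  · intro hx
    have h1 : x ∈ (A.map (QuotientGroup.mk' F)).comap (QuotientGroup.mk' F) := hx
    rwa [comap_map_eq_self (by rw [QuotientGroup.ker_mk']; exact hFA)] at h1
  · exact fun hx => mem_map_of_mem _ hx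

theorem mk_eq_iff {F : Subgroup H} [F.Normal] {x y : H} :
    QuotientGroup.mk' F x = QuotientGroup.mk' F y ↔ x * y⁻¹ ∈ F := by
  constructor
  · intro h
    rw [← QuotientGroup.ker_mk' F, MonoidHom.mem_ker, map_mul, map_inv, h, mul_inv_cancel]
  · intro h
    rw [← QuotientGroup.ker_mk' F, MonoidHom.mem_ker, map_mul, map_inv, mul_inv_eq_one] at h
    exact h

/-- fusion in `H / F` is controlled by `N`. -/
theorem TData.fuse (h : TData P F E R N K) [F.Normal] {r : H} (hr : r ∈ P) {g : H ⧸ F}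
    (hg : g * QuotientGroup.mk' F r * g⁻¹ ∈ (P : Subgroup H).map (QuotientGroup.mk' F)) :
    ∃ n ∈ N, n * r * n⁻¹ ∈ P ∧
      g * QuotientGroup.mk' F r * g⁻¹ = QuotientGroup.mk' F (n * r * n⁻¹) := by
  have hFN : F ≤ N := h.FE.trans (h.ER.trans (h.RP.trans h.PN))
  have hFP : F ≤ (P : Subgroup H) := h.FE.trans (h.ER.trans h.RP)
  have hPp : IsPGroup 2 ((P : Subgroup H).map (QuotientGroup.mk' F)) := P.isPGroup'.map _
  have hc := ctrl_quotient h.ctrl hFN (P.isPGroup'.to_le hFP)
  have hrP : QuotientGroup.mk' F r ∈ (P : Subgroup H).map (QuotientGroup.mk' F) :=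
    mem_map_of_mem _ hr
  obtain ⟨_, ⟨n, hn, rfl⟩, hn'⟩ := hc.fus (zpowers (QuotientGroup.mk' F r))
    (hPp.to_le (zpowers_le.2 hrP)) (zpowers_le.2 (map_mono h.PN hrP)) g (by
      intro a ha
      obtain ⟨j, rfl⟩ := mem_zpowers_iff.mp ha
      rw [← conj_zpow]
      exact zpow_mem (map_mono h.PN hg) j)
  have h1 := hn' _ (mem_zpowers _)
  have h2 : g * QuotientGroup.mk' F r * g⁻¹ = QuotientGroup.mk' F (n * r * n⁻¹) := by
    rw [← h1, map_mul, map_mul, map_inv]
  refine ⟨n, hn, ?_, h2⟩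
  rw [h2] at hg
  exact (mk_mem_map_iff hFP).1 hg

/-- `R / F` is strongly closed. -/
theorem TData.sc (h : TData P F E R N K) [F.Normal] {x : H ⧸ F}
    (hx : x ∈ R.map (QuotientGroup.mk' F)) {g : H ⧸ F}
    (hg : g * x * g⁻¹ ∈ (P : Subgroup H).map (QuotientGroup.mk' F)) :
    g * x * g⁻¹ ∈ R.map (QuotientGroup.mk' F) := by
  obtain ⟨r, hr, rfl⟩ := hx
  obtain ⟨n, hn, hnP, he⟩ := h.fuse (h.RP hr) hg
  rw [he]
  apply mem_map_of_mem
  apply h.mem_R _ hnP
  intro e he
  have h1 : n⁻¹ * e * n ∈ E := by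
    have := h.EN n⁻¹ (inv_mem hn) e he
    rwa [inv_inv] at this
  have h2 := h.R_comm r hr _ (h.ER h1)
  have h3 : n * r * n⁻¹ * e * (n * r * n⁻¹)⁻¹ * e⁻¹ =
      n * (r * (n⁻¹ * e * n) * r⁻¹ * (n⁻¹ * e * n)⁻¹) * n⁻¹ := by group
  rw [h3, ← h.Fc _ h2 n, mul_inv_cancel_right]
  exact h2

theorem card_map_mk (F A : Subgroup H) [F.Normal] :
    Nat.card (A.map (QuotientGroup.mk' F)) = F.relIndex A := by
  have h5 := Subgroup.relIndex_comap ⊥ (QuotientGroup.mk' F) A
  rw [MonoidHom.comap_bot, QuotientGroup.ker_mk', Subgroup.relIndex_bot_left] at h5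
  exact h5.symm

theorem TData.centralizer_P (h : TData P F E R N K) [F.Normal] {p : H} (hp : p ∈ P)
    (hc : ∀ e ∈ E, QuotientGroup.mk' F p * QuotientGroup.mk' F e =
      QuotientGroup.mk' F e * QuotientGroup.mk' F p) : p ∈ R := by
  apply h.mem_R p hp
  intro e he
  have h1 := hc e he
  rw [← map_mul, ← map_mul, mk_eq_iff] at h1
  have h2 : p * e * p⁻¹ * e⁻¹ = p * e * (e * p)⁻¹ := by group
  rw [h2]
  exact h1

/-- **Type A, abstract form.** -/
theorem TData.main (h : TData P F E R N K) : Data.Solved N ∧ Group.IsSolvable H := by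
  have h2 : Fact (Nat.Prime 2) := ⟨Nat.prime_two⟩
  have hFn := h.F_normal
  have hπ : Function.Surjective (QuotientGroup.mk' F) := QuotientGroup.mk'_surjective F
  have hFN : F ≤ N := h.FE.trans (h.ER.trans (h.RP.trans h.PN))
  have hFP : F ≤ (P : Subgroup H) := h.FE.trans (h.ER.trans h.RP)
  have hFR : F ≤ R := h.FE.trans h.ER
  let P' : Sylow 2 (H ⧸ F) := P.mapSurjective hπ
  have hP' : (P' : Subgroup (H ⧸ F)) = (P : Subgroup H).map (QuotientGroup.mk' F) := rfl
  set V : Subgroup (H ⧸ F) := R.map (QuotientGroup.mk' F) with hV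
  have hVP : V ≤ (P' : Subgroup (H ⧸ F)) := map_mono h.RP
  have hVc : ∀ a ∈ V, ∀ b ∈ V, a * b = b * a := by
    rintro _ ⟨a, ha, rfl⟩ _ ⟨b, hb, rfl⟩
    rw [← map_mul, ← map_mul, mk_eq_iff]
    have := h.R_comm a ha b hb
    have e : a * b * (b * a)⁻¹ = a * b * a⁻¹ * b⁻¹ := by group
    rw [e]; exact this
  have hV2 : ∀ a ∈ V, a * a = 1 := by
    rintro _ ⟨a, ha, rfl⟩
    rw [← map_mul, ← MonoidHom.mem_ker, QuotientGroup.ker_mk']
    exact h.R_sq a ha
  have hVr : 8 ≤ Nat.card V := by rw [hV, card_map_mk]; exact h.R_rel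
  have hsc : ∀ x ∈ V, ∀ g : H ⧸ F, g * x * g⁻¹ ∈ (P' : Subgroup (H ⧸ F)) → g * x * g⁻¹ ∈ V :=
    fun x hx g hg => h.sc hx hg
  have hw : ∀ g : H ⧸ F, (∀ v ∈ V, g * v * g⁻¹ ∈ (P' : Subgroup (H ⧸ F))) →
      g ∈ normalizer (V : Set (H ⧸ F)) := by
    intro g hg
    refine J2Sylow.Functor.mem_normalizer_of_conj' ?_
    intro x hx
    exact hsc x hx g (hg x hx)
  have hW : IsWeaklyClosed V (P' : Subgroup (H ⧸ F)) := by
    refine ⟨hVP, fun g hg => ?_⟩
    exact mem_normalizer_iff_map_conj.1 (hw g fun v hv => hg ⟨v, hv, rfl⟩)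
  have hPV : (P' : Subgroup (H ⧸ F)) ≤ normalizer (V : Set (H ⧸ F)) := fun p hp =>
    hw p fun v hv => mul_mem (mul_mem hp (hVP hv)) (inv_mem hp)
  have hcent : ∀ p ∈ (P' : Subgroup (H ⧸ F)), (∀ v ∈ V, p * v = v * p) → p ∈ V := by
    rintro _ ⟨p, hp, rfl⟩ hpc
    refine mem_map_of_mem _ (h.centralizer_P hp ?_)
    intro e he
    exact hpc _ (mem_map_of_mem _ (h.ER he))
  -- centralizers of elements of `V#`
  have hodd : ∀ a ∈ V, a ≠ 1 → OddClosed (centralizer ({a} : Set (H ⧸ F))) := by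
    rintro _ ⟨a, ha, rfl⟩ ha1
    refine h.oddClosed_quotient ha ?_
    intro haF
    apply ha1
    rwa [← MonoidHom.mem_ker, QuotientGroup.ker_mk']
  obtain ⟨z, hzE, hzF, hz⟩ := h.z
  obtain ⟨v, hvR, hvE⟩ := h.v
  have hz1 : QuotientGroup.mk' F z ≠ 1 := by
    intro h1
    rw [← MonoidHom.mem_ker, QuotientGroup.ker_mk'] at h1
    exact hzF h1
  have hzV : QuotientGroup.mk' F z ∈ V := mem_map_of_mem _ (h.ER hzE)
  have hT := Cfsg.Agent.R15.NormalElem.sup_normalizer_eq_top P' V hW hVc hV2 hVr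
    (by
      intro x _ hxc hxP g hg
      have hxV : x ∈ V := by
        apply hcent x hxP
        intro v hv
        exact (mem_centralizer_singleton_iff.1 (hxc (hVP hv))).symm
      exact hsc x hxV g hg)
    (z := QuotientGroup.mk' F z) (v := QuotientGroup.mk' F v) (hVP hzV)
    (by
      rintro _ ⟨p, hp, rfl⟩
      rw [mem_centralizer_singleton_iff, ← map_mul, ← map_mul, mk_eq_iff]
      have h1 := hz p hp
      have e : p * z * (z * p)⁻¹ = p * z * p⁻¹ * z⁻¹ := by group
      rw [e]; exact h1)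
    (hV2 _ hzV) hz1 (mem_map_of_mem _ hvR)
    (by
      intro h1
      rw [← MonoidHom.mem_ker, QuotientGroup.ker_mk'] at h1
      exact hvE (h.FE h1))
    (by
      intro g hg
      have h1 : g * QuotientGroup.mk' F z * g⁻¹ ∈ (P : Subgroup H).map (QuotientGroup.mk' F) := by
        rw [hg]; exact mem_map_of_mem _ (h.RP hvR)
      obtain ⟨n, hn, -, he⟩ := h.fuse (h.RP (h.ER hzE)) h1
      rw [hg, mk_eq_iff] at he
      apply hvE
      have h3 : v = (v * (n * z * n⁻¹)⁻¹) * (n * z * n⁻¹) := by group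
      rw [h3]
      exact mul_mem (h.FE he) (h.EN n hn z hzE))
    (fun a ha ha1 => isSolvable_of_oddClosed _ (hodd a ha ha1))
    (by
      intro a ha ha1
      exact le_core_sup_normalizer P' V hVP hw _
        (fun b hb => mem_centralizer_singleton_iff.2 (hVc b hb a ha)) (hodd a ha ha1))
  have hVz : centralizer (V : Set (H ⧸ F)) ≤ centralizer ({QuotientGroup.mk' F z} : Set (H ⧸ F)) := by
    intro c hc
    rw [mem_centralizer_singleton_iff]
    exact (mem_centralizer_iff.1 hc _ hzV).symm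
  constructor
  · refine solved_of_quotient F h.Fc h.F2 N hFN ?_
    exact solved_of_normalizer P' V (N.map (QuotientGroup.mk' F)) hVP (map_mono h.PN) hPV hcent
      ((hodd _ hzV hz1).mono hVz) hVc (ctrl_quotient h.ctrl hFN (P.isPGroup'.to_le hFP)) hT
  · have hX : Group.IsSolvable (H ⧸ F) := by
      refine isSolvable_of_sup_normalizer V hVc ?_ hT
      intro h4
      have h5 : V.relIndex (P' : Subgroup (H ⧸ F)) = 2 := by
        rw [hV, hP', relIndex_map_map, QuotientGroup.ker_mk', sup_of_le_left hFR,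
          sup_of_le_left hFP]
        exact h.P_rel
      rw [← relIndex_mul_index hVP, h5] at h4
      have h6 : (P' : Subgroup (H ⧸ F)).index % 2 = 1 := by
        have := P'.not_dvd_index
        omega
      omega
    have hFs : Group.IsSolvable F := Group.isSolvable_of_comm fun a b =>
      Subtype.ext (h.Fc a a.2 b)
    exact (Group.isSolvable_iff_subgroup_quotient F).2 ⟨hFs, hX⟩

end Cfsg.Agent.SylowL5.TypeAAbs
end

-- part: SylowL5/TypeA
section
/-!
# Piece B3 of S0512: centralizers of four-groups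

`main`: for `t = x25`: `H = C_Y(⟨z, t⟩)` is solvable and `H = O(H) N_H(Q)`.
`dual`: the same for `t = x14`.
-/

set_option autoImplicit false

namespace Cfsg.Agent.SylowL5.TypeA

open Cfsg Subgroup
open Cfsg.Agent.SylowL5.Setup Cfsg.Agent.SylowL5.Ctrl Cfsg.Agent.SylowL5.TypeAGen
open Cfsg.Agent.SylowL5.TypeAAbs Cfsg.Agent.SylowL5.TypeACodes
open Cfsg.Agent.Lib.GoldschmidtFusion

section codes

variable {G : Type*} [Group G] {S : Subgroup G} {u : ℕ → G}

theorem bx3 (a b : Bool) : ((a ^^ b) = b) = (a = false) := by revert a b; decide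

theorem u_mem (u : ℕ → G) {a K : ℕ} (ha : a < 1024) (haK : Nat.land a K = a) : u a ∈ CS u K :=
  Subgroup.subset_closure ⟨a, ha, (subK_iff _ _).2 haK, rfl⟩

theorem S1_U1_comm (h : Emb S u) {a c : ℕ} (ha : a < 1024) (hc : c < 1024) (haS : SubK a kS1)
    (hcU : SubK c kU1) : u a * u c = u c * u a := by
  rw [comm_iff h ha hc]
  apply ext10 (mu_lt ha hc) (mu_lt hc ha)
  intro j _
  rw [mu_U1 hcU, testBit_mu, not_of_subK haS (j := 0) (by decide),
    not_of_subK hcU (j := 2) (by decide), not_of_subK hcU (j := 3) (by decide),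
    not_of_subK hcU (j := 6) (by decide)]
  simp [-Nat.testBit_zero, Bool.xor_comm]

theorem Q_normal (h : Emb S u) : S ≤ normalizer (CS u kQ : Set G) := by
  have hfin := h.finite
  have key : ∀ s ∈ S, ∀ q ∈ CS u kQ, s * q * s⁻¹ ∈ CS u kQ := by
    intro s hs q hq
    obtain ⟨a, ha, rfl⟩ := h.surj s hs
    obtain ⟨b, hb, hbQ, rfl⟩ := (h.mem_CS (by decide)).1 hq
    obtain ⟨d, hd, hd'⟩ := h.surj _ (S.mul_mem (S.mul_mem hs (h.mem hb)) (S.inv_mem hs))
    have h1 : mu d a = mu a b := by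
      apply h.inj (mu_lt hd ha) (mu_lt ha hb)
      rw [h.mul hd ha, h.mul ha hb, hd']; group
    have b1 := not_of_subK hbQ (j := 1) (by decide)
    have b2 := not_of_subK hbQ (j := 2) (by decide)
    have b5 := not_of_subK hbQ (j := 5) (by decide)
    have e1 := congrArg (fun x => x.testBit 1) h1
    have e2 := congrArg (fun x => x.testBit 2) h1
    have e5 := congrArg (fun x => x.testBit 5) h1
    simp only [testBit_mu, b1, b2, b5] at e1 e2 e5
    have d1 : d.testBit 1 = false := by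
      simpa [-Nat.testBit_zero, bx3] using e1
    have d2 : d.testBit 2 = false := by
      simpa [-Nat.testBit_zero, bx3] using e2
    have d5 : d.testBit 5 = false := by
      rw [d1] at e5
      simpa [-Nat.testBit_zero, bx3] using e5
    rw [← hd', h.mem_CS (by decide)]
    refine ⟨d, hd, subK_of_bits hd ?_, rfl⟩
    intro j hj
    interval_cases j <;> first | (intro _; assumption) | (intro h'; exact absurd h' (by decide))
  intro s hs
  rw [mem_normalizer_iff]
  intro q
  refine ⟨key s hs q, fun hq => ?_⟩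
  have h1 := key s⁻¹ (S.inv_mem hs) _ hq
  have e : s⁻¹ * (s * q * s⁻¹) * s⁻¹⁻¹ = q := by group
  rwa [e] at h1

end codes

variable {Y : Type*} [Group Y] [Finite Y] {S : Sylow 2 Y} {u : ℕ → Y}

theorem S1_le (h : Emb (S : Subgroup Y) u) : CS u kS1 ≤ centralizer (CS u kU1 : Set Y) := by
  intro g hg
  obtain ⟨a, ha, haS, rfl⟩ := (h.mem_CS (by decide)).1 hg
  rw [mem_centralizer_iff]
  intro f hf
  obtain ⟨c, hc, hcU, rfl⟩ := (h.mem_CS (by decide)).1 hf
  exact (S1_U1_comm h ha hc haS hcU).symm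

theorem card_subgroupOf_eq {A H : Subgroup Y} (hAH : A ≤ H) :
    Nat.card (A.subgroupOf H) = Nat.card A :=
  Nat.card_congr (Subgroup.subgroupOfEquivOfLe hAH).toEquiv

theorem exists_sylow (h : Emb (S : Subgroup Y) u) (zc : ∀ g : Y, g * u x15 = u x15 * g) :
    ∃ P : Sylow 2 (centralizer (CS u kU1 : Set Y)),
      (P : Subgroup (centralizer (CS u kU1 : Set Y))) =
        (CS u kS1).subgroupOf (centralizer (CS u kU1 : Set Y)) := by
  have h2 : Fact (Nat.Prime 2) := ⟨Nat.prime_two⟩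
  set H := centralizer (CS u kU1 : Set Y) with hH
  have hp : IsPGroup 2 ((CS u kS1).subgroupOf H) :=
    (S.isPGroup'.to_le (h.CS_le kS1)).comap_of_injective H.subtype H.subtype_injective
  have hcard : Nat.card ((CS u kS1).subgroupOf H) = 512 := by
    rw [card_subgroupOf_eq (S1_le h), card_S1 h]
  obtain ⟨T, hT⟩ := hp.exists_le_sylow
  refine ⟨T, ?_⟩
  symm
  apply Subgroup.eq_of_le_of_card_ge hT
  rw [hcard]
  by_contra hcon
  push Not at hcon
  obtain ⟨k, hk⟩ := IsPGroup.iff_card.1 T.2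
  have hk' : 1024 ≤ Nat.card (T : Subgroup H) := by
    change 512 < Nat.card (T : Subgroup H) at hcon
    have hk2 : Nat.card (T : Subgroup H) = 2 ^ k := hk
    rw [hk2] at hcon ⊢
    have h3 : 9 < k := by
      by_contra h4
      have h5 : 2 ^ k ≤ 2 ^ 9 := Nat.pow_le_pow_right (by norm_num) (by omega)
      omega
    calc 1024 = 2 ^ 10 := by norm_num
      _ ≤ 2 ^ k := Nat.pow_le_pow_right (by norm_num) h3
  set T' : Subgroup Y := (T : Subgroup H).map H.subtype with hT'
  have hT'card : Nat.card T' = Nat.card (T : Subgroup H) :=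
    (Nat.card_congr ((T : Subgroup H).equivMapOfInjective H.subtype H.subtype_injective).toEquiv).symm
  obtain ⟨g, -, hg⟩ := exists_conj_le_in (p := 2) (N := ⊤) (D := T')
    S.isPGroup' (by rw [relIndex_top_right]; exact S.not_dvd_index) le_top (T.isPGroup'.map _)
  have hgS : T'.map (MulAut.conj g).toMonoidHom = S := by
    apply Subgroup.eq_of_le_of_card_ge hg
    rw [card_map_conj, hT'card, h.card]
    exact hk'
  have ht : u x25 ∈ T' := by
    refine ⟨⟨u x25, S1_le h (u_mem u (by norm_num) (by decide))⟩, hT ?_, rfl⟩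
    exact mem_subgroupOf.2 (u_mem u (by norm_num) (by decide))
  have hx : g * u x25 * g⁻¹ ∈ (S : Subgroup Y) := hg ⟨_, ht, rfl⟩
  obtain ⟨c, hc, hc'⟩ := h.surj _ hx
  have hcomm : ∀ s ∈ (S : Subgroup Y), u c * s = s * u c := by
    intro s hs
    rw [← hgS] at hs
    obtain ⟨t, ht', rfl⟩ := hs
    obtain ⟨⟨t, htH⟩, -, rfl⟩ := ht'
    have h3 : u x25 * t = t * u x25 :=
      mem_centralizer_iff.1 htH _ (u_mem u (by norm_num) (by decide))
    rw [hc']
    show g * u x25 * g⁻¹ * (g * t * g⁻¹) = g * t * g⁻¹ * (g * u x25 * g⁻¹)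
    calc g * u x25 * g⁻¹ * (g * t * g⁻¹) = g * (u x25 * t) * g⁻¹ := by group
      _ = g * (t * u x25) * g⁻¹ := by rw [h3]
      _ = _ := by group
  have h4 := center_S h hc (hcomm _ (h.mem (by norm_num))) (hcomm _ (h.mem (by norm_num)))
    (hcomm _ (h.mem (by norm_num))) (hcomm _ (h.mem (by norm_num)))
  have h5 : u x25 = g⁻¹ * u c * g := by rw [hc']; group
  rcases h4 with rfl | rfl
  · rw [h.zero] at h5
    have h6 : u x25 = u 0 := by rw [h5, h.zero]; group
    exact absurd (h.inj (by norm_num) (by norm_num) h6) (by norm_num)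
  · have h6 : u x25 = u x15 := by
      rw [h5]
      have := zc g⁻¹
      change g⁻¹ * u 512 = u 512 * g⁻¹ at this
      show g⁻¹ * u 512 * g = u 512
      rw [this]; group
    exact absurd (h.inj (by norm_num) (by norm_num) h6) (by norm_num)

/-- `C_Y(Q)` is 2-nilpotent. -/
theorem oddClosed_Q (h : Emb (S : Subgroup Y) u) (zc : ∀ g : Y, g * u x15 = u x15 * g) :
    OddClosed (centralizer (CS u kQ : Set Y)) := by
  have h2 : Fact (Nat.Prime 2) := ⟨Nat.prime_two⟩
  apply oddClosed_of_central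
  rintro x hx ⟨n, hn⟩ g _
  have hxN : x ∈ normalizer (CS u kQ : Set Y) := centralizer_le_normalizer _ hx
  obtain ⟨m, hm, hmS⟩ := Cfsg.Agent.R15.NormalElem.exists_conj_mem S _ (Q_normal h) hxN hn
  obtain ⟨c, hc, hc'⟩ := h.surj _ hmS
  have h4 := cent_Q h hc (by
    intro q hq
    have h5 : m⁻¹ * q * m ∈ CS u kQ := by
      have := (mem_normalizer_iff.1 (inv_mem hm) q).1 hq
      rwa [inv_inv] at this
    have h6 := mem_centralizer_iff.1 hx _ h5
    rw [hc']
    calc m * x * m⁻¹ * q = m * (x * (m⁻¹ * q * m)) * m⁻¹ := by group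
      _ = m * ((m⁻¹ * q * m) * x) * m⁻¹ := by rw [h6]
      _ = q * (m * x * m⁻¹) := by group)
  have h5 : x = m⁻¹ * u c * m := by rw [hc']; group
  rcases h4 with rfl | rfl
  · have h6 : x = 1 := by rw [h5, h.zero]; group
    rw [h6]; group
  · have h6 : x = u 512 := by
      rw [h5]
      have := zc m⁻¹
      change m⁻¹ * u 512 = u 512 * m⁻¹ at this
      rw [this]; group
    rw [h6]
    exact (zc g).symm

theorem tdata (h : Emb (S : Subgroup Y) u) (zc : ∀ g : Y, g * u x15 = u x15 * g)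
    (nE1 : normalizer (CS u kQ : Set Y) ≤ normalizer (CS u kE1 : Set Y))
    (hc : Data.Ctrl (normalizer (CS u kQ : Set Y))) :
    ∃ (P : Sylow 2 (centralizer (CS u kU1 : Set Y)))
      (K : Subgroup (centralizer (CS u kU1 : Set Y))),
      TData P ((CS u kU1).subgroupOf _) ((CS u kE1).subgroupOf _) ((CS u kR).subgroupOf _)
        ((normalizer (CS u kQ : Set Y)).subgroupOf _) K := by
  have h2 : Fact (Nat.Prime 2) := ⟨Nat.prime_two⟩
  have hex := exists_sylow h zc
  set H := centralizer (CS u kU1 : Set Y) with hH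
  obtain ⟨P, hP⟩ := hex
  have hUE : CS u kU1 ≤ CS u kE1 := CS_mono (mono_of10 (by norm_num) (by decide))
  have hER : CS u kE1 ≤ CS u kR := CS_mono (mono_of10 (by norm_num) (by decide))
  have hRS : CS u kR ≤ CS u kS1 := CS_mono (mono_of10 (by norm_num) (by decide))
  have hSH : CS u kS1 ≤ H := S1_le h
  have hEQ : CS u kE1 ≤ CS u kQ := CS_mono (mono_of10 (by norm_num) (by decide))
  have memU : ∀ {g : Y}, g ∈ CS u kU1 ↔ ∃ a, a < 1024 ∧ SubK a kU1 ∧ u a = g :=
    h.mem_CS (by decide)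
  have memE : ∀ {g : Y}, g ∈ CS u kE1 ↔ ∃ a, a < 1024 ∧ SubK a kE1 ∧ u a = g :=
    h.mem_CS (by decide)
  have memR : ∀ {g : Y}, g ∈ CS u kR ↔ ∃ a, a < 1024 ∧ SubK a kR ∧ u a = g :=
    h.mem_CS (by decide)
  have memS : ∀ {g : Y}, g ∈ CS u kS1 ↔ ∃ a, a < 1024 ∧ SubK a kS1 ∧ u a = g :=
    h.mem_CS (by decide)
  have hodd := oddClosed_Q h zc
  refine ⟨P, (oddPart (centralizer (CS u kQ : Set Y)) hodd).subgroupOf H, ?_⟩
  refine
    { FE := fun x hx => hUE hx
      ER := fun x hx => hER hx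
      RP := by rw [hP]; exact fun x hx => hRS hx
      PN := by
        rw [hP]
        exact fun x hx => Q_normal h (h.CS_le kS1 hx)
      Fc := ?_
      E2 := ?_
      EN := ?_
      mem_R := ?_
      R_comm := ?_
      R_sq := ?_
      E_cent := ?_
      E_rel := ?_
      R_rel := ?_
      P_rel := ?_
      ctrl := ctrl_centralizer hc
        ((hUE.trans hEQ).trans le_normalizer)
        (S.isPGroup'.to_le (h.CS_le kU1))
      KN := ?_
      Kodd := ?_
      Kn := ?_
      mem_K := ?_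
      z := ?_
      v := ?_ }
  · intro f hf g
    exact Subtype.ext (mem_centralizer_iff.1 g.2 _ hf)
  · rintro e he
    obtain ⟨a, ha, ha', hae⟩ := memE.1 (mem_subgroupOf.1 he)
    apply Subtype.ext
    show (e : Y) * e = 1
    rw [← hae]
    exact E_sq h ha ha'
  · intro n hn e he
    exact (mem_normalizer_iff.1 (nE1 (mem_subgroupOf.1 hn)) _).1 he
  · intro r hr hre
    change r ∈ (P : Subgroup H) at hr
    rw [hP] at hr
    obtain ⟨a, ha, ha', hae⟩ := memS.1 (mem_subgroupOf.1 hr)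
    have h3 := hre ⟨u x45, hSH (u_mem u (by norm_num) (by decide))⟩
      (mem_subgroupOf.2 (u_mem u (by norm_num) (by decide)))
    have h4 : u a * u x45 * (u a)⁻¹ * (u x45)⁻¹ ∈ CS u kU1 := by
      rw [hae]; exact h3
    exact mem_subgroupOf.2 (memR.2 ⟨a, ha, mem_R h ha ha' h4, hae⟩)
  · intro r hr s hs
    obtain ⟨a, ha, ha', hae⟩ := memR.1 (mem_subgroupOf.1 hr)
    obtain ⟨b, hb, hb', hbe⟩ := memR.1 (mem_subgroupOf.1 hs)
    rw [mem_subgroupOf]
    show (r : Y) * s * (r : Y)⁻¹ * (s : Y)⁻¹ ∈ CS u kU1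
    rw [← hae, ← hbe]
    exact TypeACodes.R_comm h ha hb ha' hb'
  · intro r hr
    obtain ⟨a, ha, ha', hae⟩ := memR.1 (mem_subgroupOf.1 hr)
    rw [mem_subgroupOf]
    show (r : Y) * r ∈ CS u kU1
    rw [← hae]
    exact TypeACodes.R_sq h ha ha'
  · intro r hr hre
    obtain ⟨a, ha, ha', hae⟩ := memR.1 (mem_subgroupOf.1 hr)
    have h3 := congrArg Subtype.val (hre ⟨u x45, hSH (u_mem u (by norm_num) (by decide))⟩
      (mem_subgroupOf.2 (u_mem u (by norm_num) (by decide))))
    have h4 := congrArg Subtype.val (hre ⟨u x35, hSH (u_mem u (by norm_num) (by decide))⟩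
      (mem_subgroupOf.2 (u_mem u (by norm_num) (by decide))))
    change (r : Y) * u x45 = u x45 * r at h3
    change (r : Y) * u x35 = u x35 * r at h4
    rw [← hae] at h3 h4
    exact mem_subgroupOf.2 (memE.2 ⟨a, ha, TypeACodes.E_cent h ha ha' h3 h4, hae⟩)
  · rw [relIndex_subgroupOf (hER.trans (hRS.trans hSH))]
    have h3 := relIndex_CS h (K := kU1) (L := kE1) (by decide) (by decide)
      (mono_of10 (by norm_num) (by decide))
    rw [card_U1 h, card_E1 h] at h3
    omega
  · rw [relIndex_subgroupOf (hRS.trans hSH)]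
    have h3 := relIndex_CS h (K := kU1) (L := kR) (by decide) (by decide)
      (mono_of10 (by norm_num) (by decide))
    rw [card_U1 h, card_R h] at h3
    omega
  · rw [hP, relIndex_subgroupOf hSH]
    have h3 := relIndex_CS h (K := kR) (L := kS1) (by decide) (by decide)
      (mono_of10 (by norm_num) (by decide))
    rw [card_R h, card_S1 h] at h3
    omega
  · intro x hx
    exact centralizer_le_normalizer _ ((mem_subgroupOf.1 hx).1)
  · apply odd_card_of_forall
    intro x hx
    rw [← Subgroup.orderOf_coe]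
    exact (mem_subgroupOf.1 hx).2
  · intro n hn x hx
    rw [mem_subgroupOf] at hx hn ⊢
    refine conj_mem_oddPart (n := (n : Y)) ?_ hx
    intro c hc
    rw [mem_centralizer_iff] at hc ⊢
    intro v hv
    have h3 : (n : Y)⁻¹ * v * n ∈ CS u kQ := by
      have := (mem_normalizer_iff.1 (inv_mem hn) v).1 hv
      rwa [inv_inv] at this
    have h4 := hc _ h3
    calc v * (n * c * (n : Y)⁻¹) = n * (((n : Y)⁻¹ * v * n) * c) * (n : Y)⁻¹ := by group
      _ = n * (c * ((n : Y)⁻¹ * v * n)) * (n : Y)⁻¹ := by rw [h4]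
      _ = n * c * (n : Y)⁻¹ * v := by group
  · intro x hx hxo hxE
    rw [mem_subgroupOf]
    rw [← Subgroup.orderOf_coe] at hxo
    refine ⟨?_, hxo⟩
    have hxE' : ∀ e ∈ CS u kE1, (x : Y) * e = e * x := by
      intro e he
      exact congrArg Subtype.val (hxE ⟨e, hSH (hRS (hER he))⟩ (mem_subgroupOf.2 he))
    have hxN : (x : Y) ∈ normalizer (CS u kQ : Set Y) := mem_subgroupOf.1 hx
    rw [mem_centralizer_iff]
    intro q hq
    have hqN : q ∈ normalizer (CS u kE1 : Set Y) := nE1 (le_normalizer hq)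
    set q' : Y := x * q * (x : Y)⁻¹ with hq'
    have hq'Q : q' ∈ CS u kQ := (mem_normalizer_iff.1 hxN q).1 hq
    have h3 : ∀ e ∈ CS u kE1, q' * e * q'⁻¹ = q * e * q⁻¹ := by
      intro e he
      have h4 : q * e * q⁻¹ ∈ CS u kE1 := (mem_normalizer_iff.1 hqN e).1 he
      have h5 := hxE' _ h4
      have h6 : (x : Y)⁻¹ * e = e * (x : Y)⁻¹ := by
        rw [inv_mul_eq_iff_eq_mul, ← mul_assoc, hxE' e he, mul_inv_cancel_right]
      calc q' * e * q'⁻¹ = x * q * ((x : Y)⁻¹ * e) * x * q⁻¹ * (x : Y)⁻¹ := by rw [hq']; group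
        _ = x * (q * e * q⁻¹) * (x : Y)⁻¹ := by rw [h6]; group
        _ = q * e * q⁻¹ := by rw [h5]; group
    have h4 : ∀ e ∈ CS u kE1, (q' * q⁻¹) * e = e * (q' * q⁻¹) := by
      intro e he
      have h5 : q⁻¹ * e * q ∈ CS u kE1 := by
        have := (mem_normalizer_iff.1 (inv_mem hqN) e).1 he
        rwa [inv_inv] at this
      have h6 := h3 _ h5
      calc (q' * q⁻¹) * e = (q' * (q⁻¹ * e * q) * q'⁻¹) * (q' * q⁻¹) := by group
        _ = (q * (q⁻¹ * e * q) * q⁻¹) * (q' * q⁻¹) := by rw [h6]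
        _ = e * (q' * q⁻¹) := by group
    have h5 : q' * q⁻¹ ∈ CS u kE1 := by
      have h6 : q' * q⁻¹ ∈ CS u kQ := mul_mem hq'Q (inv_mem hq)
      obtain ⟨a, ha, haQ, hae⟩ := (h.mem_CS (by decide)).1 h6
      rw [← hae] at h4 ⊢
      refine memE.2 ⟨a, ha, cent_E1_Q h ha haQ (h4 _ (u_mem u (by norm_num) (by decide)))
        (h4 _ (u_mem u (by norm_num) (by decide))) (h4 _ (u_mem u (by norm_num) (by decide))), rfl⟩
    have h6 : (q' * q⁻¹) * (q' * q⁻¹) = 1 := by
      obtain ⟨a, ha, haE, hae⟩ := memE.1 h5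
      rw [← hae]
      exact E_sq h ha haE
    exact (comm_of_conj hxo h6 (hxE' _ h5) (by rw [hq']; group)).symm
  · refine ⟨⟨u x35, hSH (u_mem u (by norm_num) (by decide))⟩,
      mem_subgroupOf.2 (u_mem u (by norm_num) (by decide)), ?_, ?_⟩
    · intro h3
      obtain ⟨c, hc, hcU, hce⟩ := memU.1 (mem_subgroupOf.1 h3)
      have h4 := h.inj hc (by norm_num) hce
      rw [h4] at hcU
      have := hcU 6 (by decide)
      exact absurd this (by decide)
    · intro s hs
      change s ∈ (P : Subgroup H) at hs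
      rw [hP] at hs
      obtain ⟨a, ha, ha', hae⟩ := memS.1 (mem_subgroupOf.1 hs)
      rw [mem_subgroupOf]
      show (s : Y) * u x35 * (s : Y)⁻¹ * (u x35)⁻¹ ∈ CS u kU1
      rw [← hae]
      exact z_comm h ha ha'
  · refine ⟨⟨u x14, hSH (u_mem u (by norm_num) (by decide))⟩,
      mem_subgroupOf.2 (u_mem u (by norm_num) (by decide)), ?_⟩
    intro h3
    obtain ⟨c, hc, hcU, hce⟩ := memE.1 (mem_subgroupOf.1 h3)
    have h4 := h.inj hc (by norm_num) hce
    rw [h4] at hcU
    have := hcU 7 (by decide)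
    exact absurd this (by decide)

/-- **B3** for `x25`. -/
theorem main (h : Emb (S : Subgroup Y) u) (zc : ∀ g : Y, g * u x15 = u x15 * g)
    (nE1 : normalizer (CS u kQ : Set Y) ≤ normalizer (CS u kE1 : Set Y))
    (hc : Data.Ctrl (normalizer (CS u kQ : Set Y))) :
    Data.Solved ((normalizer (CS u kQ : Set Y)).subgroupOf (centralizer (CS u kU1 : Set Y))) ∧
      Group.IsSolvable ↥(centralizer (CS u kU1 : Set Y)) := by
  obtain ⟨P, K, hT⟩ := tdata h zc nE1 hc
  exact hT.main

end Cfsg.Agent.SylowL5.TypeA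
end

-- part: SylowL5/TypeADual
section
/-!
# The duality of the codes (S0512)

`pm` reverses the Dynkin diagram; `Emb.dual` and `VData.dual` are the data with `E1`, `E2`
(and `A1`, `A2`) exchanged.
-/

set_option autoImplicit false

namespace Cfsg.Agent.SylowL5.TypeADual

open Cfsg Subgroup
open Cfsg.Agent.SylowL5.Setup Cfsg.Agent.SylowL5.TypeACodes

/-- the reversal of the codes: `12 ↔ 45`, `23 ↔ 34`, `13 ↔ 35`, `14 ↔ 25` -/
def pm (a : ℕ) : ℕ :=
  Nat.xor (Nat.shiftLeft (bt a 3) 0) (Nat.xor (Nat.shiftLeft (bt a 2) 1)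
    (Nat.xor (Nat.shiftLeft (bt a 1) 2) (Nat.xor (Nat.shiftLeft (bt a 0) 3)
      (Nat.xor (Nat.shiftLeft (bt a 6) 4) (Nat.xor (Nat.shiftLeft (bt a 5) 5)
        (Nat.xor (Nat.shiftLeft (bt a 4) 6) (Nat.xor (Nat.shiftLeft (bt a 8) 7)
          (Nat.xor (Nat.shiftLeft (bt a 7) 8) (Nat.shiftLeft (bt a 9) 9)))))))))

theorem testBit_pm (a j : ℕ) : (pm a).testBit j =
    ((decide (j = 0) && a.testBit 3) ^^ ((decide (j = 1) && a.testBit 2) ^^
      ((decide (j = 2) && a.testBit 1) ^^ ((decide (j = 3) && a.testBit 0) ^^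
        ((decide (j = 4) && a.testBit 6) ^^ ((decide (j = 5) && a.testBit 5) ^^
          ((decide (j = 6) && a.testBit 4) ^^ ((decide (j = 7) && a.testBit 8) ^^
            ((decide (j = 8) && a.testBit 7) ^^ (decide (j = 9) && a.testBit 9)))))))))) := by
  have hx : ∀ p q : ℕ, (Nat.xor p q).testBit j = (p.testBit j ^^ q.testBit j) := fun p q =>
    Nat.testBit_xor p q j
  unfold pm
  simp only [hx, testBit_shl]

theorem pm_lt (a : ℕ) : pm a < 1024 := by
  apply Nat.lt_pow_two_of_testBit (n := 10)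
  intro j hj
  rw [testBit_pm]
  have h : ∀ k, k < 10 → decide (j = k) = false := by
    intro k hk
    simp only [decide_eq_false_iff_not]
    omega
  rw [h 0 (by norm_num), h 1 (by norm_num), h 2 (by norm_num), h 3 (by norm_num),
    h 4 (by norm_num), h 5 (by norm_num), h 6 (by norm_num), h 7 (by norm_num),
    h 8 (by norm_num), h 9 (by norm_num)]
  rfl

theorem pm_mu {a b : ℕ} : pm (mu a b) = mu (pm b) (pm a) := by
  apply ext10 (pm_lt _) (mu_lt (pm_lt _) (pm_lt _))
  intro j hj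
  simp only [testBit_mu, testBit_pm]
  interval_cases j <;> simp [-Nat.testBit_zero, Bool.xor_comm, Bool.and_comm, Bool.xor_left_comm]

theorem pm_pm {a : ℕ} (ha : a < 1024) : pm (pm a) = a := by
  apply ext10 (pm_lt _) ha
  intro j hj
  simp only [testBit_pm]
  interval_cases j <;> simp [-Nat.testBit_zero]

theorem pm_subK {a K : ℕ} (h : SubK a K) : SubK (pm a) (pm K) := by
  apply subK_of_bits (pm_lt _)
  intro j hj
  simp only [testBit_pm]
  have h0 := fun i => not_of_subK (j := i) h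
  interval_cases j <;> simp [-Nat.testBit_zero] <;> exact h0 _

section

variable {G : Type*} [Group G] {S : Subgroup G} {u : ℕ → G}

/-- the dual coordinates -/
def du (u : ℕ → G) (a : ℕ) : G := (u (pm a))⁻¹

theorem Emb.dual (h : Emb S u) : Emb S (du u) where
  mul := by
    intro a b ha hb
    show (u (pm (mu a b)))⁻¹ = (u (pm a))⁻¹ * (u (pm b))⁻¹
    rw [pm_mu, h.mul (pm_lt _) (pm_lt _), _root_.mul_inv_rev]
  inj := by
    intro a b ha hb hab
    have h1 : u (pm a) = u (pm b) := inv_injective hab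
    have h2 := h.inj (pm_lt _) (pm_lt _) h1
    rw [← pm_pm ha, ← pm_pm hb, h2]
  mem := fun _ => S.inv_mem (h.mem (pm_lt _))
  surj := by
    intro g hg
    obtain ⟨a, ha, hg'⟩ := h.surj g⁻¹ (S.inv_mem hg)
    refine ⟨pm a, pm_lt _, ?_⟩
    show (u (pm (pm a)))⁻¹ = g
    rw [pm_pm ha, hg', inv_inv]

theorem CS_dual (u : ℕ → G) {K L : ℕ} (hK : K < 1024) (hKL : pm K = L) :
    CS (du u) L = CS u K := by
  subst hKL
  apply le_antisymm
  · unfold CS
    rw [closure_le]
    rintro g ⟨a, ha, haK, rfl⟩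
    apply inv_mem
    apply Subgroup.subset_closure
    refine ⟨pm a, pm_lt _, ?_, rfl⟩
    have := pm_subK haK
    rwa [pm_pm hK] at this
  · unfold CS
    rw [closure_le]
    rintro g ⟨a, ha, haK, rfl⟩
    have h1 : u a = (du u (pm a))⁻¹ := by
      show u a = ((u (pm (pm a)))⁻¹)⁻¹
      rw [pm_pm ha, inv_inv]
    rw [h1]
    apply inv_mem
    apply Subgroup.subset_closure
    exact ⟨pm a, pm_lt _, pm_subK haK, rfl⟩

theorem CS_dual_Q (u : ℕ → G) : CS (du u) kQ = CS u kQ := CS_dual u (by norm_num) (by decide)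
theorem CS_dual_E1 (u : ℕ → G) : CS (du u) kE1 = CS u kE2 := CS_dual u (by norm_num) (by decide)
theorem CS_dual_E2 (u : ℕ → G) : CS (du u) kE2 = CS u kE1 := CS_dual u (by norm_num) (by decide)
theorem CS_dual_A1 (u : ℕ → G) : CS (du u) kA1 = CS u kA2 := CS_dual u (by norm_num) (by decide)
theorem CS_dual_A2 (u : ℕ → G) : CS (du u) kA2 = CS u kA1 := CS_dual u (by norm_num) (by decide)
end

variable {Y : Type*} [Group Y] {S : Sylow 2 Y} {u : ℕ → Y}

theorem zc_dual (zc : ∀ g : Y, g * u x15 = u x15 * g) : ∀ g : Y, g * du u x15 = du u x15 * g := by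
  intro g
  have e : du u x15 = (u x15)⁻¹ := by
    show (u (pm x15))⁻¹ = _
    rw [show pm x15 = x15 by decide]
  rw [e]
  have := zc g
  calc g * (u x15)⁻¹ = (u x15)⁻¹ * (u x15 * g) * (u x15)⁻¹ := by group
    _ = (u x15)⁻¹ * (g * u x15) * (u x15)⁻¹ := by rw [this]
    _ = _ := by group

theorem VData.dual (h : Data.VData S u) : Data.VData S (du u) where
  emb := Emb.dual h.emb
  zc := zc_dual h.zc
  scQ := by rw [CS_dual_Q]; exact h.scQ
  nE1 := by rw [CS_dual_Q, CS_dual_E1]; exact h.nE2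
  nE2 := by rw [CS_dual_Q, CS_dual_E2]; exact h.nE1
  k3 := by
    obtain ⟨k, hk, hko, hkA, a, ha, haU, he⟩ := h.k2
    refine ⟨k, by rw [CS_dual_Q]; exact hk, hko, by rw [CS_dual_A1]; exact hkA, pm a, pm_lt _, ?_, ?_⟩
    · have := pm_subK haU
      rwa [show pm kU2 = kU1 by decide] at this
    · show k * (u (pm x35))⁻¹ * k⁻¹ = (u (pm (mu x45 (pm a))))⁻¹
      rw [pm_mu, pm_pm ha, show pm x35 = x13 by decide, show pm x45 = x12 by decide]
      have e1 : k * (u x13)⁻¹ * k⁻¹ = (k * u x13 * k⁻¹)⁻¹ := by group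
      rw [e1, he]
      congr 2
      apply ext10 (mu_lt (by norm_num) ha) (mu_lt ha (by norm_num))
      intro j hj
      rw [testBit_mu, testBit_mu, not_of_subK haU (j := 1) (by decide),
        not_of_subK haU (j := 5) (by decide), not_of_subK haU (j := 8) (by decide)]
      interval_cases j <;> simp [-Nat.testBit_zero, tb1, Bool.xor_comm]
  k2 := by
    obtain ⟨k, hk, hko, hkA, a, ha, haU, he⟩ := h.k3
    refine ⟨k, by rw [CS_dual_Q]; exact hk, hko, by rw [CS_dual_A2]; exact hkA, pm a, pm_lt _, ?_, ?_⟩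
    · have := pm_subK haU
      rwa [show pm kU1 = kU2 by decide] at this
    · show k * (u (pm x13))⁻¹ * k⁻¹ = (u (pm (mu x12 (pm a))))⁻¹
      rw [pm_mu, pm_pm ha, show pm x13 = x35 by decide, show pm x12 = x45 by decide]
      have e1 : k * (u x35)⁻¹ * k⁻¹ = (k * u x35 * k⁻¹)⁻¹ := by group
      rw [e1, he]
      congr 2
      apply ext10 (mu_lt (by norm_num) ha) (mu_lt ha (by norm_num))
      intro j hj
      rw [testBit_mu, testBit_mu, not_of_subK haU (j := 2) (by decide),
        not_of_subK haU (j := 5) (by decide), not_of_subK haU (j := 7) (by decide)]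
      interval_cases j <;> simp [-Nat.testBit_zero, tb8, Bool.xor_comm]

end Cfsg.Agent.SylowL5.TypeADual
end

-- part: SylowL5/LiteCodes
section
/-!
# Some facts on the codes of `UT_5(2)` used for the LITE end
-/

set_option autoImplicit false

namespace Cfsg.Agent.SylowL5.LiteCodes

open Cfsg.Agent.SylowL5.Setup

/-- `a` has only bits in `K`, kernel friendly -/
def sub (a K : ℕ) : Bool := Nat.beq (Nat.land a K) a

theorem sub_of_subK {a K : ℕ} (h : SubK a K) : sub a K = true := by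
  unfold sub
  rw [(subK_iff a K).1 h]
  exact Nat.beq_refl a

theorem subK_of_sub {a K : ℕ} (h : sub a K = true) : SubK a K := by
  exact (subK_iff a K).2 (Nat.eq_of_beq_eq_true h)

/-- quantifier over the codes of a coordinate subgroup -/
def allK (K : ℕ) (P : ℕ → Bool) : Bool := allb 1024 fun a => cond (sub a K) (P a) true

theorem of_allK {K : ℕ} {P : ℕ → Bool} (h : allK K P = true) {a : ℕ} (ha : a < 1024)
    (hK : SubK a K) : P a = true := by
  have h1 := of_allb h a ha
  rw [sub_of_subK hK] at h1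
  exact h1

theorem comm1 : allK kE1 (fun a => allK kE1 fun b => Nat.beq (mu a b) (mu b a)) = true := by
  decide +kernel

theorem comm2 : allK kE2 (fun a => allK kE2 fun b => Nat.beq (mu a b) (mu b a)) = true := by
  decide +kernel

theorem sq1 : allK kE1 (fun a => Nat.beq (mu a a) 0) = true := by decide +kernel

theorem sq2 : allK kE2 (fun a => Nat.beq (mu a a) 0) = true := by decide +kernel

theorem commQ : allK kQ (fun a => allK kQ fun b => or (Nat.beq (mu a b) (mu b a))
    (Nat.beq (mu a b) (mu (mu b a) 512))) = true := by decide +kernel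

theorem inter : allK kE1 (fun a => or (not (sub a kE2)) (or (Nat.beq a 0) (Nat.beq a 512))) =
    true := by decide +kernel

/-- a code of `Q` not commuting with `a`, if possible -/
def partner (a : ℕ) : ℕ :=
  cond (a.testBit 3) 128 (cond (a.testBit 6) 16 (cond (a.testBit 8) 1
    (cond (a.testBit 0) 256 (cond (a.testBit 4) 64 (cond (a.testBit 7) 8 0)))))

theorem part : allK kQ (fun a => or (or (Nat.beq a 0) (Nat.beq a 512))
    (and (and (sub (partner a) kQ) (Nat.blt (partner a) 1024))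
      (Nat.beq (mu (partner a) a) (mu (mu a 512) (partner a))))) = true := by
  decide +kernel

/-- `a` and `b` commute modulo `z` -/
def cz (a b : ℕ) : Bool := or (Nat.beq (mu a b) (mu b a)) (Nat.beq (mu a b) (mu (mu b a) 512))

theorem cent : allb 1024 (fun a => or (not (and (and (cz a 1) (cz a 2)) (and (cz a 4) (cz a 8))))
    (sub a 896)) = true := by decide +kernel

end Cfsg.Agent.SylowL5.LiteCodes
end

-- part: SylowL5/LiteEnd
section
/-!
# The LITE end for two commuting strongly closed elementary abelian subgroups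

`X` finite, `P` a Sylow 2-subgroup, `V`, `U ≤ P` elementary abelian, `V` strongly closed, no involution of
`U` is fused into `V`, `V` and `U` commute, every normal subgroup of even order meets `V` or `U`. If the
centralizers of the involutions of `V` are solvable and the centralizers `C(a)` of the involutions `a` of
`V` and `U` are contained in `O(C(a)) N(V)`, then `X = O(X) N_X(V)`.
-/

set_option autoImplicit false
open Cfsg

namespace Cfsg.Agent.SylowL5.LiteEnd

open Subgroup Cfsg.Agent.R15 Cfsg.Agent.R15.NormalElem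

/-- A strongly closed subgroup is weakly closed. -/
theorem isWeaklyClosed {X : Type*} [Group X] [Finite X] (P V : Subgroup X) (hVP : V ≤ P)
    (hsc : ∀ v ∈ V, ∀ g : X, g * v * g⁻¹ ∈ P → g * v * g⁻¹ ∈ V) : IsWeaklyClosed V P := by
  refine ⟨hVP, ?_⟩
  intro g hg
  have h1 : V.map (MulAut.conj g).toMonoidHom ≤ V := by
    rintro _ ⟨v, hv, rfl⟩
    exact hsc v hv g (hg ⟨v, hv, rfl⟩)
  refine Subgroup.eq_of_le_of_card_ge h1 ?_
  rw [Subgroup.card_map_of_injective (MulAut.conj g).injective]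

/-- Membership criterion for involutions of the strongly closed abelian subgroup `V`. -/
theorem mem_of_conj_mem {X : Type*} [Group X] [Finite X] (P : Sylow 2 X) (V : Subgroup X)
    (hVP : V ≤ P) (hsc : ∀ v ∈ V, ∀ g : X, g * v * g⁻¹ ∈ P → g * v * g⁻¹ ∈ V)
    (hVc : ∀ a ∈ V, ∀ b ∈ V, a * b = b * a)
    (M : Subgroup X) (hPM : (P : Subgroup X) ≤ M) (hN : normalizer (V : Set X) ≤ M) {x : X}
    (hxx : x * x = 1) (hxV : x ∈ V) (hC : centralizer {x} ≤ M) {g : X}
    (hg : g * x * g⁻¹ ∈ M) : g ∈ M := by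
  have hpow : (g * x * g⁻¹) ^ 2 ^ 1 = 1 := by
    rw [pow_one, pow_two]
    calc g * x * g⁻¹ * (g * x * g⁻¹) = g * (x * x) * g⁻¹ := by group
      _ = 1 := by rw [hxx]; group
  obtain ⟨m, hm, hmP⟩ := exists_conj_mem P M hPM hg hpow
  have e : m * (g * x * g⁻¹) * m⁻¹ = (m * g) * x * (m * g)⁻¹ := by group
  rw [e] at hmP
  have hV := hsc x hxV _ hmP
  obtain ⟨n, hn, hnx⟩ := exists_normalizer_conj P V (isWeaklyClosed P V hVP hsc) hVc hxV hV
  have hc : n⁻¹ * (m * g) ∈ centralizer ({x} : Set X) := by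
    rw [mem_centralizer_singleton_iff]
    have h1 : (m * g) * x = n * x * n⁻¹ * (m * g) := by rw [hnx]; group
    calc n⁻¹ * (m * g) * x = n⁻¹ * ((m * g) * x) := by group
      _ = n⁻¹ * (n * x * n⁻¹ * (m * g)) := by rw [h1]
      _ = x * (n⁻¹ * (m * g)) := by group
  have h2 := M.mul_mem (M.mul_mem (M.inv_mem hm) (hN hn)) (hC hc)
  have e2 : m⁻¹ * n * (n⁻¹ * (m * g)) = g := by group
  rwa [e2] at h2

/-- A subgroup containing `N(V)`, all `C(v)`, `v ∈ V#`, and all `C(u)`, `u ∈ U#`, is the whole group. -/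
theorem eq_top_of_contains {X : Type*} [Group X] [Finite X] (P : Sylow 2 X) (V U : Subgroup X)
    (hVP : V ≤ P) (hUP : U ≤ P)
    (hsc : ∀ v ∈ V, ∀ g : X, g * v * g⁻¹ ∈ P → g * v * g⁻¹ ∈ V)
    (hVc : ∀ a ∈ V, ∀ b ∈ V, a * b = b * a) (hV2 : ∀ a ∈ V, a * a = 1) (hV1 : V ≠ ⊥)
    (hU2 : ∀ a ∈ U, a * a = 1) (hU1 : U ≠ ⊥)
    (hdis : ∀ u ∈ U, u ≠ 1 → ∀ g : X, g * u * g⁻¹ ∉ V)
    (hnor : ∀ K : Subgroup X, K.Normal → K ⊓ P ≠ ⊥ → K ⊓ V ≠ ⊥ ∨ K ⊓ U ≠ ⊥)
    (M : Subgroup X) (hN : normalizer (V : Set X) ≤ M)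
    (hC : ∀ a ∈ V, a ≠ 1 → centralizer {a} ≤ M) (hCU : ∀ a ∈ U, a ≠ 1 → centralizer {a} ≤ M) :
    M = ⊤ := by
  classical
  by_contra hM
  have h2 : Fact (Nat.Prime 2) := ⟨Nat.prime_two⟩
  have hWc := isWeaklyClosed (P : Subgroup X) V hVP hsc
  -- `V` is normal in `P`
  have hPN : (P : Subgroup X) ≤ normalizer (V : Set X) := by
    intro g hg
    rw [mem_normalizer_iff]
    intro x
    constructor
    · intro hx
      exact hsc x hx g ((P : Subgroup X).mul_mem ((P : Subgroup X).mul_mem hg (hVP hx))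
        ((P : Subgroup X).inv_mem hg))
    · intro hx
      have h := hsc _ hx g⁻¹ ((P : Subgroup X).mul_mem ((P : Subgroup X).mul_mem
        ((P : Subgroup X).inv_mem hg) (hVP hx)) ((P : Subgroup X).inv_mem
          ((P : Subgroup X).inv_mem hg)))
      have e : g⁻¹ * (g * x * g⁻¹) * g⁻¹⁻¹ = x := by group
      rwa [e] at h
  have hPM : (P : Subgroup X) ≤ M := hPN.trans hN
  -- a central involution of `P` in `V`
  obtain ⟨z, hzV, hzc, hz1⟩ : ∃ z ∈ V, (P : Subgroup X) ≤ centralizer {z} ∧ z ≠ 1 := by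
    let K : Subgroup (P : Subgroup X) := V.subgroupOf P
    have hK : K ≠ ⊥ := by
      intro h
      apply hV1
      rw [eq_bot_iff]
      intro v hv
      have h1 : (⟨v, hVP hv⟩ : (P : Subgroup X)) ∈ K := hv
      rw [h, mem_bot] at h1
      exact congrArg Subtype.val h1
    have hKn : K.Normal := (normal_subgroupOf_iff_le_normalizer hVP).2 hPN
    obtain ⟨x, hxK, hxc, hxo⟩ :=
      Cfsg.Agent.Transfer.PGroupNormal.exists_mem_inf_center_orderOf P.2 K hK
    refine ⟨x, hxK, ?_, ?_⟩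
    · intro y hy
      rw [mem_centralizer_singleton_iff]
      exact congrArg Subtype.val ((mem_center_iff.1 hxc) ⟨y, hy⟩)
    · intro h
      have : x = 1 := Subtype.ext h
      rw [this, orderOf_one] at hxo
      norm_num at hxo
  have hzz : z * z = 1 := hV2 z hzV
  have hzP : z ∈ P := hVP hzV
  have hCz : centralizer {z} ≤ M := hC z hzV hz1
  have hzM : z ∈ M := hPM hzP
  have hfus : ∀ g : X, g * z * g⁻¹ ∈ P → g * z * g⁻¹ ∈ V := hsc z hzV
  have hF1 : ∀ g : X, g * z * g⁻¹ ∈ M → g ∈ M := fun g hg =>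
    mem_of_conj_mem P V hVP hsc hVc M hPM hN hzz hzV hCz hg
  -- the class
  let D : Set X := {d | ∃ g : X, g * z * g⁻¹ = d}
  have hDc : ∀ d ∈ D, ∃ g : X, g * z * g⁻¹ = d := fun d hd => hd
  let pt : X → X ⧸ M := fun d => if h : ∃ g : X, g * z * g⁻¹ = d then
    ((Classical.choose h : X) : X ⧸ M) else ((1 : X) : X ⧸ M)
  have hsmul : ∀ (d h : X), d • ((h : X) : X ⧸ M) = ((h : X) : X ⧸ M) ↔ h⁻¹ * d * h ∈ M := by
    intro d h
    rw [show d • ((h : X) : X ⧸ M) = ((d * h : X) : X ⧸ M) from rfl, QuotientGroup.eq]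
    rw [← inv_mem_iff]
    have : ((d * h)⁻¹ * h)⁻¹ = h⁻¹ * d * h := by group
    rw [this]
  have hfix : ∀ d ∈ D, ∀ a : X ⧸ M, d • a = a ↔ a = pt d := by
    intro d hd a
    obtain ⟨h, rfl⟩ := QuotientGroup.mk_surjective a
    have hpt : pt d = ((Classical.choose (hDc d hd) : X) : X ⧸ M) := dif_pos (hDc d hd)
    have hg := Classical.choose_spec (hDc d hd)
    set g := Classical.choose (hDc d hd)
    rw [hpt]
    rw [hsmul, QuotientGroup.eq]
    constructor
    · intro h1
      apply hF1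
      rw [← hg] at h1
      have e : h⁻¹ * (g * z * g⁻¹) * h = (h⁻¹ * g) * z * (h⁻¹ * g)⁻¹ := by group
      rwa [e] at h1
    · intro h1
      rw [← hg]
      have e : h⁻¹ * (g * z * g⁻¹) * h = (h⁻¹ * g) * z * (h⁻¹ * g)⁻¹ := by group
      rw [e]
      exact M.mul_mem (M.mul_mem h1 hzM) (M.inv_mem h1)
  have hsq : ∀ d ∈ D, d * d = 1 := by
    rintro _ ⟨g, rfl⟩
    calc g * z * g⁻¹ * (g * z * g⁻¹) = g * (z * z) * g⁻¹ := by group
      _ = 1 := by rw [hzz]; group
  have hconj : ∀ d ∈ D, ∀ g : X, g * d * g⁻¹ ∈ D := by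
    rintro _ ⟨h, rfl⟩ g
    exact ⟨g * h, by group⟩
  have hcent : ∀ d ∈ D, ∀ e ∈ D, d ≠ e → d * e = e * d → ∀ g : X, g * (d * e) = (d * e) * g →
      g • pt d = pt d := by
    intro d hd e he hne hde g hg
    obtain ⟨x, hx⟩ := hd
    have hptx : pt d = ((x : X) : X ⧸ M) := by
      symm
      rw [← hfix d ⟨x, hx⟩, hsmul, ← hx]
      have : x⁻¹ * (x * z * x⁻¹) * x = z := by group
      rw [this]; exact hzM
    rw [hptx, hsmul]
    -- translate to `z`
    set e' := x⁻¹ * e * x with he'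
    set g' := x⁻¹ * g * x with hg'
    have he'D : e' ∈ D := by
      have := hconj e he x⁻¹
      simpa [he'] using this
    have hz' : z = x⁻¹ * d * x := by rw [← hx]; group
    have hne' : z ≠ e' := by
      intro h
      apply hne
      have h1 : x * z * x⁻¹ = x * e' * x⁻¹ := by rw [h]
      rw [hx] at h1
      rw [h1, he']; group
    have hcomm : z * e' = e' * z := by
      rw [hz', he']
      calc x⁻¹ * d * x * (x⁻¹ * e * x) = x⁻¹ * (d * e) * x := by group
        _ = x⁻¹ * (e * d) * x := by rw [hde]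
        _ = x⁻¹ * e * x * (x⁻¹ * d * x) := by group
    have hg'c : g' * (z * e') = (z * e') * g' := by
      rw [hz', he', hg']
      calc x⁻¹ * g * x * (x⁻¹ * d * x * (x⁻¹ * e * x)) = x⁻¹ * (g * (d * e)) * x := by group
        _ = x⁻¹ * ((d * e) * g) * x := by rw [hg]
        _ = _ := by group
    have he'C : e' ∈ centralizer ({z} : Set X) := mem_centralizer_singleton_iff.2 hcomm.symm
    have hpow : e' ^ 2 ^ 1 = 1 := by rw [pow_one, pow_two]; exact hsq e' he'D
    obtain ⟨c, hc, hcP⟩ := exists_conj_mem P (centralizer {z}) hzc he'C hpow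
    obtain ⟨y, hy⟩ := he'D
    have hcV : c * e' * c⁻¹ ∈ V := by
      rw [← hy] at hcP ⊢
      have e1 : c * (y * z * y⁻¹) * c⁻¹ = (c * y) * z * (c * y)⁻¹ := by group
      rw [e1] at hcP ⊢
      exact hfus _ hcP
    have hcz : c * z = z * c := mem_centralizer_singleton_iff.1 hc
    have hprodV : c * (z * e') * c⁻¹ ∈ V := by
      have e1 : c * (z * e') * c⁻¹ = z * (c * e' * c⁻¹) := by
        calc c * (z * e') * c⁻¹ = (c * z) * e' * c⁻¹ := by group
          _ = (z * c) * e' * c⁻¹ := by rw [hcz]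
          _ = _ := by group
      rw [e1]
      exact V.mul_mem hzV hcV
    have hprod1 : c * (z * e') * c⁻¹ ≠ 1 := by
      intro h
      have h1 : z * e' = 1 := by
        have := congrArg (fun t => c⁻¹ * t * c) h
        simpa only [mul_assoc, _root_.inv_mul_cancel_left, _root_.inv_mul_cancel, _root_.mul_one] using this
      apply hne'
      have h2 : e' = z⁻¹ := eq_inv_of_mul_eq_one_right h1
      rw [h2, inv_eq_of_mul_eq_one_left hzz]
    have hcM : c ∈ M := hCz hc
    have hmem : c * g' * c⁻¹ ∈ M := by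
      apply hC _ hprodV hprod1
      rw [mem_centralizer_singleton_iff]
      calc c * g' * c⁻¹ * (c * (z * e') * c⁻¹) = c * (g' * (z * e')) * c⁻¹ := by group
        _ = c * ((z * e') * g') * c⁻¹ := by rw [hg'c]
        _ = _ := by group
    have h3 := M.mul_mem (M.mul_mem (M.inv_mem hcM) hmem) hcM
    have e3 : c⁻¹ * (c * g' * c⁻¹) * c = g' := by group
    rwa [e3] at h3
  have H : Lite.Hyp D pt :=
    { sq := hsq
      ne := by
        rintro _ ⟨g, rfl⟩ h
        apply hz1
        have := congrArg (fun t => g⁻¹ * t * g) h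
        simpa [mul_assoc] using this
      conj := hconj
      fix := hfix
      cent := hcent }
  -- oddness
  have hoddM : Odd (Nat.card {d : X // d ∈ D ∧ d ∈ M}) := by
    -- `M` acts transitively by conjugation
    let f : M → {d : X // d ∈ D ∧ d ∈ M} := fun m =>
      ⟨(m : X) * z * (m : X)⁻¹, ⟨m, rfl⟩, M.mul_mem (M.mul_mem m.2 hzM) (M.inv_mem m.2)⟩
    let K : Subgroup M := (centralizer ({z} : Set X)).subgroupOf M
    have hf : ∀ a b : M, f a = f b ↔ a⁻¹ * b ∈ K := by
      intro a b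
      rw [Subtype.ext_iff]
      show (a : X) * z * (a : X)⁻¹ = b * z * (b : X)⁻¹ ↔ _
      rw [mem_subgroupOf, mem_centralizer_singleton_iff]
      push_cast
      constructor
      · intro h
        calc (a : X)⁻¹ * b * z = (a : X)⁻¹ * (b * z * (b : X)⁻¹) * b := by group
          _ = (a : X)⁻¹ * (a * z * (a : X)⁻¹) * b := by rw [h]
          _ = z * ((a : X)⁻¹ * b) := by group
      · intro h
        calc (a : X) * z * (a : X)⁻¹ = a * (z * ((a : X)⁻¹ * b)) * (b : X)⁻¹ := by group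
          _ = a * ((a : X)⁻¹ * b * z) * (b : X)⁻¹ := by rw [h]
          _ = b * z * (b : X)⁻¹ := by group
    have hsurj : Function.Surjective f := by
      rintro ⟨_, ⟨g, rfl⟩, hgM⟩
      exact ⟨⟨g, hF1 g hgM⟩, rfl⟩
    have hcard : Nat.card {d : X // d ∈ D ∧ d ∈ M} = K.index := by
      rw [Subgroup.index]
      refine (Nat.card_congr (Equiv.ofBijective (Quotient.lift f ?_) ⟨?_, ?_⟩)).symm
      · intro a b hab
        exact (hf a b).2 (QuotientGroup.leftRel_apply.1 hab)
      · rintro ⟨a⟩ ⟨b⟩ hab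
        exact Quotient.sound (QuotientGroup.leftRel_apply.2 ((hf a b).1 hab))
      · intro d
        obtain ⟨a, rfl⟩ := hsurj d
        exact ⟨Quotient.mk _ a, rfl⟩
    rw [hcard]
    have h1 : ((P : Subgroup X).subgroupOf M) ≤ K := by
      intro a ha
      exact hzc ha
    have h2 := Subgroup.index_dvd_of_le h1
    have h3 : ¬ 2 ∣ ((P : Subgroup X).subgroupOf M).index := by
      have h4 := (P.subtype hPM).not_dvd_index
      exact h4
    rw [← Nat.not_even_iff_odd, even_iff_two_dvd]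
    exact fun h5 => h3 (h5.trans h2)
  have hodd : ∀ a : X ⧸ M, Odd (Nat.card {d : X // d ∈ D ∧ pt d = a}) := by
    intro a
    obtain ⟨h, rfl⟩ := QuotientGroup.mk_surjective a
    rw [← Nat.card_congr ?_]
    · exact hoddM
    refine ⟨fun d => ⟨h * d.1 * h⁻¹, hconj _ d.2.1 h, ?_⟩,
      fun d => ⟨h⁻¹ * d.1 * h, ?_, ?_⟩, ?_, ?_⟩
    · symm
      rw [← hfix _ (hconj _ d.2.1 h), hsmul]
      have e : h⁻¹ * (h * d.1 * h⁻¹) * h = d.1 := by group
      rw [e]; exact d.2.2
    · have := hconj _ d.2.1 h⁻¹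
      rwa [inv_inv] at this
    · have h1 := (hfix _ d.2.1 _).2 d.2.2.symm
      rwa [hsmul] at h1
    · intro d
      apply Subtype.ext
      show h⁻¹ * (h * d.1 * h⁻¹) * h = d.1
      group
    · intro d
      apply Subtype.ext
      show h * (h⁻¹ * d.1 * h) * h⁻¹ = d.1
      group
  obtain ⟨g0, hg0⟩ : ∃ g : X, g ∉ M := by
    by_contra h
    push Not at h
    exact hM (eq_top_iff.2 fun g _ => h g)
  have hne : ((g0 : X) : X ⧸ M) ≠ ((1 : X) : X ⧸ M) := by
    intro h
    apply hg0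
    rw [QuotientGroup.eq] at h
    simpa using M.inv_mem h
  have hbase : pt z = ((1 : X) : X ⧸ M) := by
    symm
    rw [← hfix z ⟨1, by group⟩, hsmul]
    simpa using hzM
  -- an involution of `U` fixes exactly one point
  have hUfix : ∀ v ∈ U, v ≠ 1 → ∀ b : X ⧸ M, v • b = b ↔ b = ((1 : X) : X ⧸ M) := by
    intro v hv hv1 b
    constructor
    · intro hb
      obtain ⟨d, hd, hdb, hdv⟩ := Lite.exists_commuting H (hodd b) (hU2 v hv) hb
      have hdM : d ∈ M := hCU v hv hv1 (mem_centralizer_singleton_iff.2 hdv)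
      have h1 : d • ((1 : X) : X ⧸ M) = ((1 : X) : X ⧸ M) := by
        rw [hsmul]; simpa using hdM
      rw [hfix d hd] at h1
      rw [h1, hdb]
    · rintro rfl
      rw [hsmul]
      have : v ∈ M := hPM (hUP hv)
      simpa using this
  -- the kernel
  have hker : ∀ u : X, u * u = 1 → (∀ a : X ⧸ M, u • a = a) → u = 1 := by
    intro u huu hu
    by_contra hu1
    -- the normal core of `M` has even order
    let N : Subgroup X := M.normalCore
    have huN : u ∈ N := by
      intro g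
      have h := hu ((g⁻¹ : X) : X ⧸ M)
      rw [hsmul, inv_inv] at h
      exact h
    have hpow : u ^ 2 ^ 1 = 1 := by rw [pow_one, pow_two]; exact huu
    obtain ⟨m, hm, hmP⟩ := exists_conj_mem P ⊤ le_top (mem_top u) hpow
    have hNn : N.Normal := M.normalCore_normal
    have hNP : N ⊓ (P : Subgroup X) ≠ ⊥ := by
      intro h
      have h1 : m * u * m⁻¹ ∈ N ⊓ (P : Subgroup X) := ⟨hNn.conj_mem u huN m, hmP⟩
      rw [h, mem_bot] at h1
      apply hu1
      have := congrArg (fun t => m⁻¹ * t * m) h1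
      simpa [mul_assoc] using this
    rcases hnor N hNn hNP with h | h
    · obtain ⟨x, hx1⟩ := (Subgroup.ne_bot_iff_exists_ne_one.1 h)
      obtain ⟨x, hx⟩ := x
      have hx1' : x ≠ 1 := fun h0 => hx1 (Subtype.ext h0)
      apply hM
      rw [eq_top_iff]
      intro g _
      refine mem_of_conj_mem P V hVP hsc hVc M hPM hN (hV2 x hx.2) hx.2 (hC x hx.2 hx1')
        (g := g) ?_
      exact M.normalCore_le (hNn.conj_mem _ hx.1 g)
    · obtain ⟨x, hx1⟩ := (Subgroup.ne_bot_iff_exists_ne_one.1 h)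
      obtain ⟨x, hx⟩ := x
      have hx1' : x ≠ 1 := fun h0 => hx1 (Subtype.ext h0)
      apply hne
      rw [← hUfix x hx.2 hx1', hsmul]
      have h3 := hNn.conj_mem _ hx.1 g0⁻¹
      rw [inv_inv] at h3
      exact M.normalCore_le h3
  obtain ⟨v, hv1⟩ := (Subgroup.ne_bot_iff_exists_ne_one.1 hU1)
  obtain ⟨v, hv⟩ := v
  have hv1' : v ≠ 1 := fun h0 => hv1 (Subtype.ext h0)
  obtain ⟨x, hx⟩ := Lite.mem_of_unique_fixed H hodd hker (hU2 v hv) _ (hUfix v hv hv1') hne
  refine hdis v hv hv1' x⁻¹ ?_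
  rw [← hx]
  have e : x⁻¹ * (x * z * x⁻¹) * x⁻¹⁻¹ = z := by group
  rw [e]; exact hzV

/-- **The LITE end.** -/
theorem sup_normalizer_eq_top {X : Type*} [Group X] [Finite X] (P : Sylow 2 X) (V U : Subgroup X)
    (hVP : V ≤ P) (hUP : U ≤ P)
    (hsc : ∀ v ∈ V, ∀ g : X, g * v * g⁻¹ ∈ P → g * v * g⁻¹ ∈ V)
    (hVc : ∀ a ∈ V, ∀ b ∈ V, a * b = b * a) (hV2 : ∀ a ∈ V, a * a = 1) (hVr : 8 ≤ Nat.card V)
    (hU2 : ∀ a ∈ U, a * a = 1) (hU1 : U ≠ ⊥) (hVU : ∀ a ∈ V, ∀ b ∈ U, a * b = b * a)
    (hdis : ∀ u ∈ U, u ≠ 1 → ∀ g : X, g * u * g⁻¹ ∉ V)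
    (hnor : ∀ K : Subgroup X, K.Normal → K ⊓ P ≠ ⊥ → K ⊓ V ≠ ⊥ ∨ K ⊓ U ≠ ⊥)
    (hsolv : ∀ a ∈ V, a ≠ 1 → Group.IsSolvable ↥(centralizer ({a} : Set X)))
    (hnorm : ∀ a ∈ V, a ≠ 1 →
      centralizer {a} ≤ centralizerPPrimeCore 2 a ⊔ normalizer (V : Set X))
    (hnormU : ∀ a ∈ U, a ≠ 1 →
      centralizer {a} ≤ centralizerPPrimeCore 2 a ⊔ normalizer (V : Set X)) :
    pPrimeCore 2 X ⊔ normalizer (V : Set X) = ⊤ := by
  have h2 : Fact (Nat.Prime 2) := ⟨Nat.prime_two⟩
  have hV1 : V ≠ ⊥ := by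
    rintro rfl
    rw [Subgroup.card_bot] at hVr
    omega
  obtain ⟨W, hWodd, hWc, hWN⟩ := exists_closure V hVc hV2 hVr hsolv
  have hle : ∀ a ∈ V, a ≠ 1 → centralizerPPrimeCore 2 a ≤ W := fun a ha ha1 => by
    rw [← hWc a ha ha1]; exact inf_le_left
  -- cores of centralizers of involutions of `U`
  have hcoreU : ∀ M : Subgroup X, (∀ a ∈ V, a ≠ 1 → centralizer {a} ≤ M) →
      ∀ u ∈ U, centralizerPPrimeCore 2 u ≤ M := by
    intro M hM u hu
    have hVe : Cfsg.IsElementaryAbelian 2 V := by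
      refine ⟨⟨⟨fun x y => Subtype.ext (hVc x x.2 y y.2)⟩⟩, fun a ha => ?_⟩
      rw [pow_two]; exact hV2 a ha
    have hVn : V ≤ normalizer (centralizerPPrimeCore 2 u : Set X) := by
      refine le_trans ?_ (Cfsg.Agent.SignalizersComponents.CentralizerCore.core_normalized 2 u)
      intro v hv
      exact mem_centralizer_singleton_iff.2 (hVU v hv u hu)
    refine (Cfsg.Agent.SignalizersComponents.CoprimeGen.le_iSup_centralizer_ne_one (p := 2) hVe
      (by norm_num only []; omega) (Cfsg.Agent.SignalizersComponents.CentralizerCore.core_card 2 u) hVn).trans ?_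
    refine iSup_le fun a => ?_
    exact inf_le_right.trans (hM a a.2.1 a.2.2)
  have h1 : normalizer (W : Set X) = ⊤ := by
    have hCV : ∀ a ∈ V, a ≠ 1 → centralizer {a} ≤ normalizer (W : Set X) := fun a ha ha1 =>
      (hnorm a ha ha1).trans (sup_le ((hle a ha ha1).trans le_normalizer) hWN)
    refine eq_top_of_contains P V U hVP hUP hsc hVc hV2 hV1 hU2 hU1 hdis hnor _ hWN hCV ?_
    intro a ha ha1
    exact (hnormU a ha ha1).trans (sup_le (hcoreU _ hCV a ha) hWN)
  have hWn : W.Normal := normalizer_eq_top_iff.1 h1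
  have hWle : W ≤ pPrimeCore 2 X := Cfsg.Agent.Lib.Cores.le_pPrimeCore hWn hWodd
  have hCV : ∀ a ∈ V, a ≠ 1 → centralizer {a} ≤ pPrimeCore 2 X ⊔ normalizer (V : Set X) :=
    fun a ha ha1 => (hnorm a ha ha1).trans (sup_le_sup_right ((hle a ha ha1).trans hWle) _)
  refine eq_top_of_contains P V U hVP hUP hsc hVc hV2 hV1 hU2 hU1 hdis hnor _ le_sup_right hCV ?_
  intro a ha ha1
  exact (hnormU a ha ha1).trans (sup_le (hcoreU _ hCV a ha) le_sup_right)

end Cfsg.Agent.SylowL5.LiteEnd
end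

-- part: SylowL5/LiteY
section
/-!
# S0512, piece (B4): `Y = O(Y) N_Y(Q)`

`Y = C_G(z)` with the data `VData S u`. If all centralizers of involutions of `E1`, `E2` outside `⟨z⟩` are
solvable and contained in `O(C(v)) N_Y(Q)`, then `Y = O(Y) N_Y(Q)`.
-/

set_option autoImplicit false
set_option linter.unusedSectionVars false
set_option linter.unusedVariables false
open Cfsg

namespace Cfsg.Agent.SylowL5.LiteY

open Subgroup Cfsg.Agent.SylowL5.Setup Cfsg.Agent.SylowL5.Data Cfsg.Agent.SylowL5.LiteCodes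

/-- The core of a central quotient by a `2`-group. -/
theorem comap_core_le {Y : Type*} [Group Y] [Finite Y] (Z : Subgroup Y) [hZn : Z.Normal]
    (hZc : ∀ z ∈ Z, ∀ g : Y, g * z = z * g) (hZ : IsPGroup 2 Z) :
    (pPrimeCore 2 (Y ⧸ Z)).comap (QuotientGroup.mk' Z) ≤ Z ⊔ pPrimeCore 2 Y := by
  have h2 : Fact (Nat.Prime 2) := ⟨Nat.prime_two⟩
  set R : Subgroup Y := (pPrimeCore 2 (Y ⧸ Z)).comap (QuotientGroup.mk' Z) with hR
  have hRn : R.Normal := by
    have := Cfsg.Agent.Lib.Cores.pPrimeCore_normal (G := Y ⧸ Z) 2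
    exact this.comap _
  have hZR : Z ≤ R := by
    intro z hz
    rw [hR, mem_comap]
    have : QuotientGroup.mk' Z z = 1 := (QuotientGroup.eq_one_iff z).2 hz
    rw [this]
    exact one_mem _
  let ZR : Subgroup R := Z.subgroupOf R
  have hZRn : ZR.Normal := hZn.subgroupOf R
  have hcardZR : Nat.card ZR = Nat.card Z := Nat.card_congr (subgroupOfEquivOfLe hZR).toEquiv
  have hcardR : Nat.card R = Nat.card Z * Nat.card (pPrimeCore 2 (Y ⧸ Z)) :=
    QuotientGroup.card_preimage_mk Z (pPrimeCore 2 (Y ⧸ Z) : Set (Y ⧸ Z))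
  have hidx : ZR.index = Nat.card (pPrimeCore 2 (Y ⧸ Z)) := by
    have h1 := ZR.card_mul_index
    rw [hcardZR, hcardR] at h1
    exact Nat.eq_of_mul_eq_mul_left Nat.card_pos h1
  obtain ⟨n, hn⟩ := IsPGroup.iff_card.mp hZ
  have hcop : (Nat.card ZR).Coprime ZR.index := by
    rw [hcardZR, hn, hidx]
    exact Nat.Coprime.pow_left n (Cfsg.Agent.Lib.Cores.pPrimeCore_coprime 2).symm
  obtain ⟨C, hC⟩ := exists_right_complement'_of_coprime hcop
  have hsup : ZR ⊔ C = ⊤ := hC.sup_eq_top
  have hCcard : (Nat.card C).Coprime 2 := by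
    have h1 : Nat.card C = ZR.index := hC.symm.index_eq_card.symm
    rw [h1, hidx]
    exact Cfsg.Agent.Lib.Cores.pPrimeCore_coprime 2
  have hCn : C.Normal := by
    have h1 : normalizer (C : Set R) = ⊤ := by
      rw [← top_le_iff, ← hsup]
      refine sup_le ?_ le_normalizer
      intro z hz
      rw [mem_normalizer_iff]
      intro x
      have h3 : z * x * z⁻¹ = x := by
        have h4 : x * z = z * x := Subtype.ext (hZc z hz x)
        rw [← h4, mul_inv_cancel_right]
      rw [h3]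
    exact normalizer_eq_top_iff.1 h1
  have hCle := Cfsg.Agent.Lib.Cores.le_pPrimeCore hCn hCcard
  have h5 := Cfsg.Agent.Lib.Cores.map_subtype_pPrimeCore 2 hRn
  intro r hr
  have h6 : (⟨r, hr⟩ : R) ∈ ZR ⊔ C := by rw [hsup]; trivial
  rw [← SetLike.mem_coe, Subgroup.normal_mul] at h6
  obtain ⟨a, ha, c, hc, hac⟩ := Set.mem_mul.1 h6
  have h7 : r = (a : Y) * (c : Y) := congrArg Subtype.val hac.symm
  rw [h7]
  refine mul_mem_sup ha ?_
  have h8 : (c : Y) ∈ (pPrimeCore 2 R).map R.subtype := ⟨c, hCle hc, rfl⟩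
  rw [h5] at h8
  exact h8.2

section

variable {Y : Type*} [Group Y] {S : Subgroup Y} {u : ℕ → Y}

theorem z_sq (h : Emb S u) : u x15 * u x15 = 1 := by
  rw [← h.mul (by norm_num) (by norm_num), show mu x15 x15 = 0 by decide, h.zero]

theorem mem_zp (h : Emb S u) {g : Y} (hg : g ∈ zpowers (u x15)) : g = 1 ∨ g = u x15 := by
  obtain ⟨k, rfl⟩ := mem_zpowers_iff.1 hg
  rcases Int.even_or_odd' k with ⟨l, rfl | rfl⟩
  · left
    rw [zpow_mul, show (2 : ℤ) = ((2 : ℕ) : ℤ) by rfl, zpow_natCast, pow_two, z_sq h, one_zpow]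
  · right
    rw [zpow_add, zpow_mul, show (2 : ℤ) = ((2 : ℕ) : ℤ) by rfl, zpow_natCast, pow_two, z_sq h,
      one_zpow, one_mul, zpow_one]

theorem closed1 : closedK kE1 = true := by decide
theorem closed2 : closedK kE2 = true := by decide
theorem closedQ : closedK kQ = true := by decide

theorem subK_trans {a K L : ℕ} (h : SubK a K) (hKL : ∀ j, K.testBit j = true → L.testBit j = true) :
    SubK a L := fun j hj => hKL j (h j hj)

theorem CS_mono (u : ℕ → Y) {K L : ℕ} (hKL : Nat.land K L = K) : CS u K ≤ CS u L := by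
  have h1 : ∀ j, K.testBit j = true → L.testBit j = true := by
    have : SubK K L := (subK_iff K L).2 hKL
    exact this
  unfold CS
  apply Subgroup.closure_mono
  rintro g ⟨a, ha, hs, rfl⟩
  exact ⟨a, ha, subK_trans hs h1, rfl⟩

theorem E1_le_Q : CS u kE1 ≤ CS u kQ := CS_mono u (by decide)
theorem E2_le_Q : CS u kE2 ≤ CS u kQ := CS_mono u (by decide)

theorem z_mem (u : ℕ → Y) {K : ℕ} (hK : Nat.land 512 K = 512) : u x15 ∈ CS u K :=
  subset_closure ⟨512, by norm_num, (subK_iff 512 K).2 hK, rfl⟩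

theorem comm_E1 (h : Emb S u) : ∀ a ∈ CS u kE1, ∀ b ∈ CS u kE1, a * b = b * a := by
  intro a hma b hmb
  obtain ⟨a, ha, hs, rfl⟩ := (h.mem_CS closed1).1 hma
  obtain ⟨b, hb, hs', rfl⟩ := (h.mem_CS closed1).1 hmb
  rw [← h.mul ha hb, ← h.mul hb ha, Nat.eq_of_beq_eq_true (of_allK (of_allK comm1 ha hs) hb hs')]

theorem comm_E2 (h : Emb S u) : ∀ a ∈ CS u kE2, ∀ b ∈ CS u kE2, a * b = b * a := by
  intro a hma b hmb
  obtain ⟨a, ha, hs, rfl⟩ := (h.mem_CS closed2).1 hma
  obtain ⟨b, hb, hs', rfl⟩ := (h.mem_CS closed2).1 hmb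
  rw [← h.mul ha hb, ← h.mul hb ha, Nat.eq_of_beq_eq_true (of_allK (of_allK comm2 ha hs) hb hs')]

theorem sq_E1 (h : Emb S u) : ∀ a ∈ CS u kE1, a * a = 1 := by
  intro a hma
  obtain ⟨a, ha, hs, rfl⟩ := (h.mem_CS closed1).1 hma
  rw [← h.mul ha ha, Nat.eq_of_beq_eq_true (of_allK sq1 ha hs), h.zero]

theorem sq_E2 (h : Emb S u) : ∀ a ∈ CS u kE2, a * a = 1 := by
  intro a hma
  obtain ⟨a, ha, hs, rfl⟩ := (h.mem_CS closed2).1 hma
  rw [← h.mul ha ha, Nat.eq_of_beq_eq_true (of_allK sq2 ha hs), h.zero]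

theorem comm_Q (h : Emb S u) : ∀ a ∈ CS u kQ, ∀ b ∈ CS u kQ,
    a * b = b * a ∨ a * b = b * a * u x15 := by
  intro a hma b hmb
  obtain ⟨a, ha, hs, rfl⟩ := (h.mem_CS closedQ).1 hma
  obtain ⟨b, hb, hs', rfl⟩ := (h.mem_CS closedQ).1 hmb
  have h1 := of_allK (of_allK commQ ha hs) hb hs'
  rcases (Bool.or_eq_true _ _).mp h1 with h2 | h2
  · left
    rw [← h.mul ha hb, ← h.mul hb ha, Nat.eq_of_beq_eq_true h2]
  · right
    rw [← h.mul ha hb, ← h.mul hb ha, ← h.mul (mu_lt hb ha) (by norm_num),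
      Nat.eq_of_beq_eq_true h2]

theorem E1_inf_E2 (h : Emb S u) {g : Y} (h1 : g ∈ CS u kE1) (h2 : g ∈ CS u kE2) :
    g ∈ zpowers (u x15) := by
  obtain ⟨a, ha, hs, rfl⟩ := (h.mem_CS closed1).1 h1
  obtain ⟨b, hb, hs', hba⟩ := (h.mem_CS closed2).1 h2
  have hab := h.inj hb ha hba
  subst hab
  have h3 := of_allK inter ha hs
  rw [sub_of_subK hs'] at h3
  rcases (Bool.or_eq_true _ _).mp h3 with h4 | h4
  · exact absurd h4 (by decide)
  · rcases (Bool.or_eq_true _ _).mp h4 with h5 | h5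
    · rw [Nat.eq_of_beq_eq_true h5, h.zero]; exact one_mem _
    · rw [Nat.eq_of_beq_eq_true h5]; exact mem_zpowers _

/-- `Q` is extraspecial: an element of `Q` outside `⟨z⟩` is moved to `v z` by some element of `Q`. -/
theorem exists_partner (h : Emb S u) {v : Y} (hv : v ∈ CS u kQ) (h1 : v ≠ 1) (hz : v ≠ u x15) :
    ∃ s ∈ CS u kQ, s * v = v * u x15 * s := by
  obtain ⟨a, ha, hs, rfl⟩ := (h.mem_CS closedQ).1 hv
  have h3 := of_allK part ha hs
  rcases (Bool.or_eq_true _ _).mp h3 with h4 | h4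
  · exfalso
    rcases (Bool.or_eq_true _ _).mp h4 with h5 | h5
    · rw [Nat.eq_of_beq_eq_true h5] at h1
      exact h1 h.zero
    · rw [Nat.eq_of_beq_eq_true h5] at hz
      exact hz rfl
  · obtain ⟨h5, h6⟩ := (Bool.and_eq_true _ _).mp h4
    obtain ⟨h7, h8⟩ := (Bool.and_eq_true _ _).mp h5
    have h8' : partner a < 1024 := Nat.le_of_ble_eq_true h8
    refine ⟨u (partner a), (h.mem_CS closedQ).2 ⟨_, h8', subK_of_sub h7, rfl⟩, ?_⟩
    rw [← h.mul h8' ha, Nat.eq_of_beq_eq_true h6, h.mul (mu_lt ha (by norm_num)) h8',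
      h.mul ha (by norm_num)]

/-- The centre of `S / ⟨z⟩`. -/
theorem cent_S (h : Emb S u) {g : Y} (hg : g ∈ S)
    (hc : ∀ s ∈ S, g * s = s * g ∨ g * s = s * g * u x15) : g ∈ CS u kT0 := by
  obtain ⟨a, ha, rfl⟩ := h.surj g hg
  have key : ∀ b, b < 1024 → cz a b = true := by
    intro b hb
    rcases hc (u b) (h.mem hb) with h1 | h1
    · rw [← h.mul ha hb, ← h.mul hb ha] at h1
      have := h.inj (mu_lt ha hb) (mu_lt hb ha) h1
      unfold cz
      rw [this, Nat.beq_refl]; rfl
    · rw [← h.mul ha hb, ← h.mul hb ha, ← h.mul (mu_lt hb ha) (by norm_num)] at h1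
      have := h.inj (mu_lt ha hb) (mu_lt (mu_lt hb ha) (by norm_num)) h1
      unfold cz
      rw [this, Nat.beq_refl, Bool.or_true]
  have h1 := of_allb cent a ha
  rw [key 1 (by norm_num), key 2 (by norm_num), key 4 (by norm_num), key 8 (by norm_num)] at h1
  have h2 : sub a 896 = true := h1
  exact (h.mem_CS (by decide)).2 ⟨a, ha, subK_of_sub h2, rfl⟩

end

section main

variable {Y : Type*} [Group Y] [Finite Y] {S : Sylow 2 Y} {u : ℕ → Y}

theorem zn (h : VData S u) : (zpowers (u x15)).Normal := by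
  constructor
  intro n hn g
  have h1 : g * n = n * g := by
    rcases mem_zp h.emb hn with rfl | rfl
    · simp
    · exact h.zc g
  rw [h1, mul_inv_cancel_right]
  exact hn

theorem zpow_central (h : VData S u) : ∀ z ∈ zpowers (u x15), ∀ g : Y, g * z = z * g := by
  intro z hz g
  rcases mem_zp h.emb hz with rfl | rfl
  · simp
  · exact h.zc g

theorem zpow_isPGroup (h : VData S u) : IsPGroup 2 (zpowers (u x15)) := by
  rintro ⟨z, hz⟩
  refine ⟨1, Subtype.ext ?_⟩
  show z ^ 2 ^ 1 = 1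
  rcases mem_zp h.emb hz with rfl | rfl
  · simp
  · rw [pow_one, pow_two]; exact z_sq h.emb

theorem zpow_le (u : ℕ → Y) {K : ℕ} (hK : Nat.land 512 K = 512) : zpowers (u x15) ≤ CS u K := by
  rw [zpowers_le]
  exact z_mem u hK

variable [hZn : (zpowers (u x15)).Normal]

local notation "π" => QuotientGroup.mk' (zpowers (u x15))

/-- Equality in the quotient. -/
theorem pi_eq (h : VData S u) {a b : Y} (hab : π a = π b) : b = a ∨ b = a * u x15 := by
  have h1 : a⁻¹ * b ∈ zpowers (u x15) := QuotientGroup.eq.1 hab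
  rcases mem_zp h.emb h1 with h2 | h2
  · left
    exact (inv_mul_eq_one.1 h2).symm
  · right
    rw [← h2, mul_inv_cancel_left]

theorem pi_z (h : VData S u) (a : Y) : π (a * u x15) = π a := by
  have h1 : π (u x15) = 1 := (QuotientGroup.eq_one_iff _).2 (mem_zpowers _)
  rw [map_mul, h1, mul_one]

/-- The Sylow subgroup of the quotient. -/
noncomputable def P (S : Sylow 2 Y) (u : ℕ → Y) [(zpowers (u x15)).Normal] :
    Sylow 2 (Y ⧸ zpowers (u x15)) :=
  S.mapSurjective (QuotientGroup.mk'_surjective (zpowers (u x15)))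

theorem mem_of_pi_mem {H : Subgroup Y} (hH : zpowers (u x15) ≤ H) {a : Y} (ha : π a ∈ H.map π) :
    a ∈ H := by
  have h1 : a ∈ (H.map π).comap π := ha
  rwa [comap_map_eq_self (by rw [QuotientGroup.ker_mk']; exact hH)] at h1

theorem z_le_S (h : VData S u) : zpowers (u x15) ≤ (S : Subgroup Y) := by
  rw [zpowers_le]
  exact h.emb.mem (by norm_num)

theorem mem_S_of_pi (h : VData S u) {a : Y} (ha : π a ∈ (P S u : Subgroup (Y ⧸ zpowers (u x15)))) :
    a ∈ (S : Subgroup Y) :=
  mem_of_pi_mem (z_le_S h) ha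

/-- Fusion of elements of `Q`. -/
theorem fus (h : VData S u) {v g : Y} (hv : v ∈ CS u kQ) (hg : g * v * g⁻¹ ∈ (S : Subgroup Y)) :
    ∃ n ∈ normalizer (CS u kQ : Set Y), n * v * n⁻¹ = g * v * g⁻¹ ∨
      n * v * n⁻¹ = g * v * g⁻¹ * u x15 := by
  have h2 : Fact (Nat.Prime 2) := ⟨Nat.prime_two⟩
  let Qb : Subgroup (Y ⧸ zpowers (u x15)) := (CS u kQ).map π
  have hzQ : zpowers (u x15) ≤ CS u kQ := zpow_le u (by decide)
  have hQP : Qb ≤ (P S u : Subgroup (Y ⧸ zpowers (u x15))) := map_mono (h.emb.CS_le kQ)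
  have hsc : ∀ x ∈ Qb, ∀ y : Y ⧸ zpowers (u x15),
      y * x * y⁻¹ ∈ (P S u : Subgroup (Y ⧸ zpowers (u x15))) → y * x * y⁻¹ ∈ Qb := by
    rintro _ ⟨x, hx, rfl⟩ y hy
    obtain ⟨y, rfl⟩ := QuotientGroup.mk'_surjective _ y
    have e : π y * π x * (π y)⁻¹ = π (y * x * y⁻¹) := by simp only [_root_.QuotientGroup.mk'_apply, _root_.QuotientGroup.mk_mul, _root_.QuotientGroup.mk_inv]
    rw [e] at hy ⊢
    exact ⟨_, h.scQ x hx y (mem_S_of_pi h hy), rfl⟩
  have hQc : ∀ a ∈ Qb, ∀ b ∈ Qb, a * b = b * a := by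
    rintro _ ⟨a, ha, rfl⟩ _ ⟨b, hb, rfl⟩
    rw [← map_mul, ← map_mul]
    rcases comm_Q h.emb a ha b hb with h3 | h3
    · rw [h3]
    · rw [h3, pi_z h]
  have hW := LiteEnd.isWeaklyClosed (P S u : Subgroup (Y ⧸ zpowers (u x15))) Qb hQP hsc
  have hgQ : g * v * g⁻¹ ∈ CS u kQ := h.scQ v hv g hg
  have e : π g * π v * (π g)⁻¹ = π (g * v * g⁻¹) := by simp only [_root_.QuotientGroup.mk'_apply, _root_.QuotientGroup.mk_mul, _root_.QuotientGroup.mk_inv]
  obtain ⟨n, hn, hnv⟩ := Cfsg.Agent.R15.NormalElem.exists_normalizer_conj (P S u) Qb hW hQc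
    (x := π v) (g := π g) ⟨v, hv, rfl⟩ (by rw [e]; exact ⟨_, hgQ, rfl⟩)
  obtain ⟨n, rfl⟩ := QuotientGroup.mk'_surjective _ n
  refine ⟨n, ?_, ?_⟩
  · have h3 : n ∈ (normalizer (Qb : Set (Y ⧸ zpowers (u x15)))).comap π := hn
    rw [comap_normalizer_eq_of_surjective _ (QuotientGroup.mk'_surjective _)] at h3
    rwa [comap_map_eq_self (by rw [QuotientGroup.ker_mk']; exact hzQ)] at h3
  · have h4 : π (g * v * g⁻¹) = π (n * v * n⁻¹) := by
      rw [← e, ← hnv]; simp only [_root_.QuotientGroup.mk'_apply, _root_.QuotientGroup.mk_mul, _root_.QuotientGroup.mk_inv]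
    exact pi_eq h h4

/-- `E1`, `E2` are strongly closed. -/
theorem strong (h : VData S u) {K : ℕ} (hKQ : CS u K ≤ CS u kQ) (hzK : u x15 ∈ CS u K)
    (nK : normalizer (CS u kQ : Set Y) ≤ normalizer (CS u K : Set Y)) :
    ∀ v ∈ CS u K, ∀ g : Y, g * v * g⁻¹ ∈ (S : Subgroup Y) → g * v * g⁻¹ ∈ CS u K := by
  intro v hv g hg
  obtain ⟨n, hn, h1⟩ := fus h (hKQ hv) hg
  have h2 : n * v * n⁻¹ ∈ CS u K := (mem_normalizer_iff.1 (nK hn) v).1 hv
  rcases h1 with h1 | h1
  · rwa [← h1]
  · have h3 : g * v * g⁻¹ = n * v * n⁻¹ * (u x15)⁻¹ := by rw [h1, mul_inv_cancel_right]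
    rw [h3]
    exact mul_mem h2 (inv_mem hzK)

theorem strongX (h : VData S u) {K : ℕ} (hKQ : CS u K ≤ CS u kQ) (hzK : u x15 ∈ CS u K)
    (nK : normalizer (CS u kQ : Set Y) ≤ normalizer (CS u K : Set Y)) :
    ∀ v ∈ (CS u K).map π, ∀ g : Y ⧸ zpowers (u x15),
      g * v * g⁻¹ ∈ (P S u : Subgroup (Y ⧸ zpowers (u x15))) → g * v * g⁻¹ ∈ (CS u K).map π := by
  rintro _ ⟨v, hv, rfl⟩ g hg
  obtain ⟨g, rfl⟩ := QuotientGroup.mk'_surjective _ g
  have e : π g * π v * (π g)⁻¹ = π (g * v * g⁻¹) := by simp only [_root_.QuotientGroup.mk'_apply, _root_.QuotientGroup.mk_mul, _root_.QuotientGroup.mk_inv]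
  rw [e] at hg ⊢
  exact ⟨_, strong h hKQ hzK nK v hv g (mem_S_of_pi h hg), rfl⟩

/-- The centralizer modulo `z`. -/
theorem mem_cent (h : VData S u) {v : Y} (hv : v ∈ CS u kQ) (hv1 : v ≠ 1) (hvz : v ≠ u x15)
    {g : Y} (hg : π g ∈ centralizer {π v}) : ∃ s ∈ CS u kQ, ∃ c ∈ centralizer ({v} : Set Y),
      g = s * c := by
  rw [mem_centralizer_singleton_iff, ← map_mul, ← map_mul] at hg
  rcases pi_eq h hg with h1 | h1
  · exact ⟨1, one_mem _, g, mem_centralizer_singleton_iff.2 h1.symm, (one_mul g).symm⟩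
  · obtain ⟨s, hs, hsv⟩ := exists_partner h.emb hv hv1 hvz
    refine ⟨s⁻¹, inv_mem hs, s * g, ?_, by group⟩
    rw [mem_centralizer_singleton_iff]
    -- `v g = g v z`, `s v = v z s`
    have hz := h.zc
    have h2 : g * v = v * g * u x15 := by
      rw [h1, mul_assoc (g * v), z_sq h.emb, mul_one]
    calc s * g * v = s * (v * g * u x15) := by rw [mul_assoc, h2]
      _ = (s * v) * g * u x15 := by simp only [mul_assoc]
      _ = v * u x15 * s * g * u x15 := by rw [hsv]
      _ = v * (s * g) * (u x15 * u x15) := by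
          have h3 : u x15 * (s * g) = (s * g) * u x15 := (hz (s * g)).symm
          calc v * u x15 * s * g * u x15 = v * (u x15 * (s * g)) * u x15 := by
                simp only [mul_assoc]
            _ = v * ((s * g) * u x15) * u x15 := by rw [h3]
            _ = _ := by simp only [mul_assoc]
      _ = v * (s * g) := by rw [z_sq h.emb, mul_one]

theorem core_map_le (h : VData S u) {v : Y} (hv : v ∈ CS u kQ) (hv1 : v ≠ 1) (hvz : v ≠ u x15) :
    (centralizerPPrimeCore 2 v).map π ≤ centralizerPPrimeCore 2 (π v) := by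
  have h2 : Fact (Nat.Prime 2) := ⟨Nat.prime_two⟩
  refine Cfsg.Agent.SignalizersComponents.CentralizerCore.le_core 2 _ ?_ ?_ ?_
  · rintro _ ⟨a, ha, rfl⟩
    have h3 := Cfsg.Agent.SignalizersComponents.CentralizerCore.core_le 2 v ha
    rw [mem_centralizer_singleton_iff] at h3 ⊢
    rw [← map_mul, ← map_mul, h3]
  · intro g hg
    obtain ⟨g, rfl⟩ := QuotientGroup.mk'_surjective _ g
    -- `g` normalises the core
    have key : ∀ g : Y, π g ∈ centralizer {π v} → ∀ a ∈ centralizerPPrimeCore 2 v,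
        g * a * g⁻¹ ∈ centralizerPPrimeCore 2 v := by
      intro g hg a ha
      have h4 : centralizerPPrimeCore 2 (g * v * g⁻¹) =
          (centralizerPPrimeCore 2 v).map (MulAut.conj g).toMonoidHom :=
        Cfsg.Agent.SignalizersComponents.CentralizerCore.core_conj 2 v g
      have h5 : g * a * g⁻¹ ∈ centralizerPPrimeCore 2 (g * v * g⁻¹) := by
        rw [h4]; exact ⟨a, ha, rfl⟩
      rw [mem_centralizer_singleton_iff, ← map_mul, ← map_mul] at hg
      rcases pi_eq h hg with h6 | h6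
      · rw [← h6, mul_inv_cancel_right] at h5
        exact h5
      · have h7 : g * v * g⁻¹ = v * u x15 := by
          have h8 : g * v = v * g * u x15 := by
            rw [h6, mul_assoc (g * v), z_sq h.emb, mul_one]
          rw [h8, mul_assoc, mul_assoc, ← mul_assoc g, h.zc g, mul_assoc, mul_inv_cancel, mul_one]
        have h9 : centralizer ({v * u x15} : Set Y) = centralizer ({v} : Set Y) := by
          ext y
          rw [mem_centralizer_singleton_iff, mem_centralizer_singleton_iff]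
          have h10 : y * (v * u x15) = (y * v) * u x15 := by rw [mul_assoc]
          have h11 : v * u x15 * y = (v * y) * u x15 := by
            rw [mul_assoc, ← h.zc y, mul_assoc]
          rw [h10, h11]
          exact ⟨fun h12 => mul_right_cancel h12, fun h12 => by rw [h12]⟩
        have h12 : centralizerPPrimeCore 2 (v * u x15) = centralizerPPrimeCore 2 v := by
          unfold centralizerPPrimeCore
          rw [h9]
        rw [h7, h12] at h5
        exact h5
    have hg' : π g⁻¹ ∈ centralizer {π v} := by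
      rw [map_inv]; exact inv_mem hg
    rw [mem_normalizer_iff]
    intro x
    constructor
    · rintro ⟨a, ha, rfl⟩
      exact ⟨g * a * g⁻¹, key g hg a ha, by simp only [_root_.QuotientGroup.mk'_apply, _root_.QuotientGroup.mk_mul, _root_.QuotientGroup.mk_inv]⟩
    · rintro ⟨a, ha, hax⟩
      refine ⟨g⁻¹ * a * g⁻¹⁻¹, key _ hg' a ha, ?_⟩
      rw [map_mul, map_mul, hax]
      simp only [mul_assoc, _root_.QuotientGroup.mk'_apply, _root_.QuotientGroup.mk_inv, _root_.inv_mul_cancel_left, _root_.inv_inv, _root_.inv_mul_cancel, _root_.mul_one]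
  · intro h3
    have h4 := Subgroup.card_map_dvd (centralizerPPrimeCore 2 v) π
    exact Cfsg.Agent.SignalizersComponents.CentralizerCore.core_card 2 v (h3.trans h4)

theorem cent_le (h : VData S u) {v : Y} (hv : v ∈ CS u kQ) (hv1 : v ≠ 1) (hvz : v ≠ u x15)
    (hB : centralizer {v} ≤ centralizerPPrimeCore 2 v ⊔ normalizer (CS u kQ : Set Y)) {K : ℕ}
    (nK : normalizer (CS u kQ : Set Y) ≤ normalizer (CS u K : Set Y)) :
    centralizer {π v} ≤ centralizerPPrimeCore 2 (π v) ⊔
      normalizer ((CS u K).map π : Set (Y ⧸ zpowers (u x15))) := by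
  intro g hg
  obtain ⟨g, rfl⟩ := QuotientGroup.mk'_surjective _ g
  obtain ⟨s, hs, c, hc, rfl⟩ := mem_cent h hv hv1 hvz hg
  have h1 : (normalizer (CS u kQ : Set Y)).map π ≤
      normalizer ((CS u K).map π : Set (Y ⧸ zpowers (u x15))) :=
    (map_mono nK).trans (le_normalizer_map π)
  rw [map_mul]
  refine mul_mem ?_ ?_
  · exact mem_sup_right (h1 ⟨s, le_normalizer hs, rfl⟩)
  · have h2 : π c ∈ (centralizerPPrimeCore 2 v ⊔ normalizer (CS u kQ : Set Y)).map π :=
      ⟨c, hB hc, rfl⟩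
    rw [Subgroup.map_sup] at h2
    exact sup_le_sup (core_map_le h hv hv1 hvz) h1 h2

theorem cent_solvable (h : VData S u) {v : Y} (hv : v ∈ CS u kQ) (hv1 : v ≠ 1)
    (hvz : v ≠ u x15) (hs : Group.IsSolvable (centralizer ({v} : Set Y))) :
    Group.IsSolvable (centralizer ({π v} : Set (Y ⧸ zpowers (u x15)))) := by
  let C' : Subgroup Y := (centralizer ({π v} : Set (Y ⧸ zpowers (u x15)))).comap π
  have hφ : ∀ g ∈ C', g * v * g⁻¹ * v⁻¹ ∈ zpowers (u x15) := by
    intro g hg
    have hg' : π g ∈ centralizer ({π v} : Set (Y ⧸ zpowers (u x15))) := hg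
    rw [mem_centralizer_singleton_iff] at hg'
    rw [← QuotientGroup.eq_one_iff]
    show π (g * v * g⁻¹ * v⁻¹) = 1
    rw [map_mul, map_mul, map_mul, map_inv, map_inv, hg', mul_inv_cancel_right, mul_inv_cancel]
  let φ : C' →* zpowers (u x15) := MonoidHom.mk' (fun g => ⟨(g : Y) * v * (g : Y)⁻¹ * v⁻¹, hφ g g.2⟩) (by
    intro a b
    apply Subtype.ext
    show (a * b : Y) * v * (a * b : Y)⁻¹ * v⁻¹ =
      ((a : Y) * v * (a : Y)⁻¹ * v⁻¹) * ((b : Y) * v * (b : Y)⁻¹ * v⁻¹)
    have hc := zpow_central h _ (hφ b b.2)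
    calc (a * b : Y) * v * (a * b : Y)⁻¹ * v⁻¹
        = (a : Y) * ((b : Y) * v * (b : Y)⁻¹ * v⁻¹) * (v * (a : Y)⁻¹ * v⁻¹) := by group
      _ = ((b : Y) * v * (b : Y)⁻¹ * v⁻¹) * (a : Y) * (v * (a : Y)⁻¹ * v⁻¹) := by rw [hc a]
      _ = ((b : Y) * v * (b : Y)⁻¹ * v⁻¹) * ((a : Y) * v * (a : Y)⁻¹ * v⁻¹) := by group
      _ = _ := (hc _).symm)
  have hCC : centralizer ({v} : Set Y) ≤ C' := by
    intro g hg
    show π g ∈ centralizer ({π v} : Set (Y ⧸ zpowers (u x15)))
    rw [mem_centralizer_singleton_iff] at hg ⊢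
    rw [← map_mul, ← map_mul, hg]
  have hZs : Group.IsSolvable (zpowers (u x15)) := Group.isSolvable_of_comm fun a b =>
    Subtype.ext ((zpow_central h b b.2 a))
  have hC's : Group.IsSolvable C' := by
    refine Group.isSolvable_of_ker_le_range (Subgroup.inclusion hCC) φ ?_
    intro g hg
    have h1 : (g : Y) * v * (g : Y)⁻¹ * v⁻¹ = 1 := congrArg Subtype.val (MonoidHom.mem_ker.1 hg)
    refine ⟨⟨g, ?_⟩, rfl⟩
    rw [mem_centralizer_singleton_iff]
    have h2 : (g : Y) * v * (g : Y)⁻¹ = v := by rwa [mul_inv_eq_one] at h1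
    calc (g : Y) * v = (g : Y) * v * (g : Y)⁻¹ * g := by group
      _ = v * g := by rw [h2]
  let ψ : C' →* centralizer ({π v} : Set (Y ⧸ zpowers (u x15))) :=
    ((QuotientGroup.mk' (zpowers (u x15))).comp C'.subtype).codRestrict _ (fun g => g.2)
  refine Group.isSolvable_of_surjective (f := ψ) ?_
  rintro ⟨x, hx⟩
  obtain ⟨x, rfl⟩ := QuotientGroup.mk'_surjective _ x
  exact ⟨⟨x, hx⟩, rfl⟩

/-- `E1 / z` and `E2 / z` commute. -/
theorem comm_V_U (h : VData S u) : ∀ a ∈ (CS u kE1).map π, ∀ b ∈ (CS u kE2).map π,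
    a * b = b * a := by
  rintro _ ⟨a, ha, rfl⟩ _ ⟨b, hb, rfl⟩
  rw [← map_mul, ← map_mul]
  rcases comm_Q h.emb a (E1_le_Q ha) b (E2_le_Q hb) with h3 | h3
  · rw [h3]
  · rw [h3, pi_z h]

theorem card_ge (h : VData S u) {K : ℕ} (c : Fin 8 → ℕ) (hc : ∀ i, c i < 512)
    (hcK : ∀ i, sub (c i) K = true) (hinj : Function.Injective c) :
    8 ≤ Nat.card ((CS u K).map π) := by
  let f : Fin 8 → (CS u K).map π := fun i =>
    ⟨π (u (c i)), _, subset_closure ⟨c i, by have := hc i; omega, subK_of_sub (hcK i), rfl⟩, rfl⟩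
  have hf : Function.Injective f := by
    intro i j hij
    have h1 : π (u (c i)) = π (u (c j)) := congrArg Subtype.val hij
    have hi : c i < 1024 := by have := hc i; omega
    have hj : c j < 1024 := by have := hc j; omega
    rcases pi_eq h h1 with h2 | h2
    · exact (hinj (h.emb.inj hj hi h2)).symm
    · exfalso
      rw [← h.emb.mul hi (by norm_num)] at h2
      have h3 := h.emb.inj hj (mu_lt hi (by norm_num)) h2
      have h4 := congrArg (fun t => Nat.testBit t 9) h3
      simp only [testBit_mu] at h4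
      have h5 : (c i).testBit 9 = false := Nat.testBit_lt_two_pow (hc i)
      have h6 : (c j).testBit 9 = false := Nat.testBit_lt_two_pow (hc j)
      rw [h5, h6, show x15.testBit 9 = true by decide, show x15.testBit 8 = false by decide,
        show x15.testBit 6 = false by decide, show x15.testBit 3 = false by decide,
        show x15.testBit 1 = false by decide, show x15.testBit 2 = false by decide,
        show x15.testBit 5 = false by decide] at h4
      revert h4
      simp
  have := Nat.card_le_card_of_injective f hf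
  rwa [Nat.card_eq_fintype_card, Fintype.card_fin] at this

/-- Normal subgroups of even order of `Y / z` meet `E1 / z` or `E2 / z`. -/
theorem normal_meets (h : VData S u) (K : Subgroup (Y ⧸ zpowers (u x15))) (hK : K.Normal)
    (hKP : K ⊓ (P S u : Subgroup (Y ⧸ zpowers (u x15))) ≠ ⊥) :
    K ⊓ (CS u kE1).map π ≠ ⊥ ∨ K ⊓ (CS u kE2).map π ≠ ⊥ := by
  have h2 : Fact (Nat.Prime 2) := ⟨Nat.prime_two⟩
  let Pb : Subgroup (Y ⧸ zpowers (u x15)) := (P S u : Subgroup (Y ⧸ zpowers (u x15)))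
  let KP : Subgroup Pb := K.subgroupOf Pb
  have hKP1 : KP ≠ ⊥ := by
    intro h0
    apply hKP
    rw [eq_bot_iff]
    rintro x ⟨hx, hxP⟩
    have h1 : (⟨x, hxP⟩ : Pb) ∈ KP := hx
    rw [h0, mem_bot] at h1
    exact congrArg Subtype.val h1
  have hKPn : KP.Normal := hK.subgroupOf _
  obtain ⟨x, hxK, hxc, hxo⟩ :=
    Cfsg.Agent.Transfer.PGroupNormal.exists_mem_inf_center_orderOf (P S u).2 KP hKP1
  obtain ⟨s, hs, hsx⟩ := x.2
  have hx1 : (x : Y ⧸ zpowers (u x15)) ≠ 1 := by
    intro h0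
    have : x = 1 := Subtype.ext h0
    rw [this, orderOf_one] at hxo
    norm_num at hxo
  have hsK : π s ∈ K := by rw [hsx]; exact hxK
  have hs1 : π s ≠ 1 := by rw [hsx]; exact hx1
  have hsT : s ∈ CS u kT0 := by
    refine cent_S h.emb hs ?_
    intro t ht
    have h3 : π s * π t = π t * π s := by
      rw [hsx]
      have h4 := (mem_center_iff.1 hxc) ⟨π t, t, ht, rfl⟩
      exact (congrArg Subtype.val h4).symm
    rw [← map_mul, ← map_mul] at h3
    exact (pi_eq h h3.symm).imp id id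
  -- the codes
  obtain ⟨a, ha, hsa, rfl⟩ := (h.emb.mem_CS (by decide)).1 hsT
  have hcases : ∀ a, a < 1024 → SubK a kT0 →
      (sub a kE1 = true ∨ sub a kE2 = true ∨ a = 384 ∨ a = 896) := by
    intro a ha hs
    have key : allK kT0 (fun a => or (or (sub a kE1) (sub a kE2)) (or (Nat.beq a 384)
      (Nat.beq a 896))) = true := by decide +kernel
    have h3 := of_allK key ha hs
    rcases (Bool.or_eq_true _ _).mp h3 with h4 | h4
    · rcases (Bool.or_eq_true _ _).mp h4 with h5 | h5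
      · exact Or.inl h5
      · exact Or.inr (Or.inl h5)
    · rcases (Bool.or_eq_true _ _).mp h4 with h5 | h5
      · exact Or.inr (Or.inr (Or.inl (Nat.eq_of_beq_eq_true h5)))
      · exact Or.inr (Or.inr (Or.inr (Nat.eq_of_beq_eq_true h5)))
  rcases hcases a ha hsa with h3 | h3 | h3
  · left
    intro h0
    apply hs1
    rw [← mem_bot, ← h0]
    exact ⟨hsK, _, (h.emb.mem_CS closed1).2 ⟨a, ha, subK_of_sub h3, rfl⟩, rfl⟩
  · right
    intro h0
    apply hs1
    rw [← mem_bot, ← h0]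
    exact ⟨hsK, _, (h.emb.mem_CS closed2).2 ⟨a, ha, subK_of_sub h3, rfl⟩, rfl⟩
  · -- `x14 x25`
    right
    have hK' : π (u x14 * u x25) ∈ K := by
      rw [← h.emb.mul (by norm_num) (by norm_num), show mu x14 x25 = 384 by decide]
      rcases h3 with rfl | rfl
      · exact hsK
      · have h4 : u 896 = u 384 * u x15 := by
          rw [← h.emb.mul (by norm_num) (by norm_num)]
          congr 1
        rw [h4, pi_z h] at hsK
        exact hsK
    obtain ⟨k, hkQ, -, hkA, b, hb, hbU, hk⟩ := h.k3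
    have hk1 := h.nE1 hkQ
    have hk2 := h.nE2 hkQ
    -- `k` fixes `x25` modulo `z`
    have hU1 : CS u kU1 = CS u kE1 ⊓ CS u kA1 := by
      ext g
      rw [mem_inf, h.emb.mem_CS (by decide), h.emb.mem_CS closed1, h.emb.mem_CS (by decide)]
      constructor
      · rintro ⟨c, hc, hcs, rfl⟩
        exact ⟨⟨c, hc, subK_trans hcs ((subK_iff kU1 kE1).2 (by decide)), rfl⟩,
          ⟨c, hc, subK_trans hcs ((subK_iff kU1 kA1).2 (by decide)), rfl⟩⟩
      · rintro ⟨⟨c, hc, hcs, rfl⟩, ⟨d, hd, hds, hdc⟩⟩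
        have := h.emb.inj hd hc hdc
        subst this
        refine ⟨d, hc, ?_, rfl⟩
        have key : allK kE1 (fun a => or (not (sub a kA1)) (sub a kU1)) = true := by
          decide +kernel
        have h5 := of_allK key hc hcs
        rw [sub_of_subK hds] at h5
        exact subK_of_sub h5
    have hk25 : k * u x25 * k⁻¹ = u x25 ∨ k * u x25 * k⁻¹ = u x25 * u x15 := by
      have h5 : u x25 ∈ CS u kU1 := (h.emb.mem_CS (by decide)).2 ⟨x25, by norm_num,
        (subK_iff x25 kU1).2 (by decide), rfl⟩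
      have h6 : k * u x25 * k⁻¹ ∈ CS u kU1 := by
        rw [hU1] at h5 ⊢
        exact ⟨(mem_normalizer_iff.1 hk1 _).1 h5.1, (mem_normalizer_iff.1 hkA _).1 h5.2⟩
      obtain ⟨c, hc, hcs, hcu⟩ := (h.emb.mem_CS (by decide)).1 h6
      have key : allK kU1 (fun a => or (or (Nat.beq a 0) (Nat.beq a 512)) (or (Nat.beq a 256)
        (Nat.beq a 768))) = true := by decide +kernel
      have h7 := of_allK key hc hcs
      rcases (Bool.or_eq_true _ _).mp h7 with h8 | h8
      · exfalso
        -- then `x25` is in `⟨z⟩`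
        have h9 : u x25 = k⁻¹ * u c * k := by rw [hcu]; group
        rcases (Bool.or_eq_true _ _).mp h8 with h10 | h10
        · rw [Nat.eq_of_beq_eq_true h10, h.emb.zero] at h9
          have h11 : u x25 = u 0 := by rw [h9, h.emb.zero]; group
          have := h.emb.inj (by norm_num) (by norm_num) h11
          norm_num at this
        · rw [Nat.eq_of_beq_eq_true h10] at h9
          have h11 : u x25 = u x15 := by
            rw [h9]
            show k⁻¹ * u x15 * k = u x15
            rw [mul_assoc, ← h.zc k]; group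
          have := h.emb.inj (by norm_num) (by norm_num) h11
          norm_num at this
      · rcases (Bool.or_eq_true _ _).mp h8 with h9 | h9
        · left
          rw [← hcu, Nat.eq_of_beq_eq_true h9]
        · right
          rw [← hcu, Nat.eq_of_beq_eq_true h9, ← h.emb.mul (by norm_num) (by norm_num)]
          congr 1
    -- the conjugate of `x14`
    have h14 : u x14 ∈ CS u kE2 := (h.emb.mem_CS closed2).2 ⟨x14, by norm_num,
      (subK_iff x14 kE2).2 (by decide), rfl⟩
    have h14' : k * u x14 * k⁻¹ ∈ CS u kE2 := (mem_normalizer_iff.1 hk2 _).1 h14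
    have hne : ¬ (π (k * u x14 * k⁻¹) = π (u x14)) := by
      intro h5
      -- `x14` commutes with `x35`
      have h6 : u x14 * u x35 = u x35 * u x14 := by
        rw [← h.emb.mul (by norm_num) (by norm_num), ← h.emb.mul (by norm_num) (by norm_num)]
        congr 1
      -- so its conjugate commutes with the conjugate of `x35`
      have h7 : (k * u x14 * k⁻¹) * (k * u x35 * k⁻¹) = (k * u x35 * k⁻¹) * (k * u x14 * k⁻¹) := by
        calc (k * u x14 * k⁻¹) * (k * u x35 * k⁻¹) = k * (u x14 * u x35) * k⁻¹ := by group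
          _ = k * (u x35 * u x14) * k⁻¹ := by rw [h6]
          _ = _ := by group
      rw [hk] at h7
      have h8 : u x14 * u (mu x45 b) = u (mu x45 b) * u x14 := by
        rcases pi_eq h h5.symm with h9 | h9
        · rwa [h9] at h7
        · rw [h9] at h7
          have hz := h.zc (u (mu x45 b))
          have h10 : u x14 * u x15 * u (mu x45 b) = (u x14 * u (mu x45 b)) * u x15 := by
            rw [mul_assoc, ← hz, mul_assoc]
          have h11 : u (mu x45 b) * (u x14 * u x15) = (u (mu x45 b) * u x14) * u x15 := by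
            rw [mul_assoc]
          rw [h10, h11] at h7
          exact mul_right_cancel h7
      have hb' : mu x45 b < 1024 := mu_lt (by norm_num) hb
      rw [← h.emb.mul (by norm_num) hb', ← h.emb.mul hb' (by norm_num)] at h8
      have h9 := h.emb.inj (mu_lt (by norm_num) hb') (mu_lt hb' (by norm_num)) h8
      have key : allK kU1 (fun b => not (Nat.beq (mu x14 (mu x45 b)) (mu (mu x45 b) x14))) =
        true := by decide +kernel
      have h10 := of_allK key hb hbU
      rw [h9, Nat.beq_refl] at h10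
      exact absurd h10 (by decide)
    -- the quotient
    have hKk : π (k * (u x14 * u x25) * k⁻¹) ∈ K := by
      rw [map_mul, map_mul, map_inv]
      exact hK.conj_mem _ hK' (π k)
    have h5 : π (k * (u x14 * u x25) * k⁻¹) = π (k * u x14 * k⁻¹) * π (u x25) := by
      have h6 : k * (u x14 * u x25) * k⁻¹ = (k * u x14 * k⁻¹) * (k * u x25 * k⁻¹) := by group
      rw [h6, map_mul]
      rcases hk25 with h7 | h7
      · rw [h7]
      · rw [h7, pi_z h]
    have h6 : π (k * u x14 * k⁻¹) * (π (u x14))⁻¹ ∈ K := by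
      have h7 := mul_mem hKk (inv_mem hK')
      rw [h5, map_mul (QuotientGroup.mk' (zpowers (u x15))) (u x14) (u x25)] at h7
      have e : π (k * u x14 * k⁻¹) * π (u x25) * (π (u x14) * π (u x25))⁻¹ =
          π (k * u x14 * k⁻¹) * (π (u x14))⁻¹ := by
        rw [mul_inv_rev]; group
      rwa [e] at h7
    intro h0
    have h7 : π (k * u x14 * k⁻¹) * (π (u x14))⁻¹ ∈ K ⊓ (CS u kE2).map π :=
      ⟨h6, ((CS u kE2).map π).mul_mem ⟨_, h14', rfl⟩
        (((CS u kE2).map π).inv_mem ⟨_, h14, rfl⟩)⟩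
    rw [h0, mem_bot, mul_inv_eq_one] at h7
    exact hne h7

/-- One half of the end. -/
theorem sup_eq_top_one (h : VData S u)
    (hsol : ∀ v ∈ CS u kE1, v ≠ 1 → v ≠ u x15 → Group.IsSolvable (centralizer ({v} : Set Y)))
    (hB1 : ∀ v ∈ CS u kE1, v ≠ 1 → v ≠ u x15 →
      centralizer {v} ≤ centralizerPPrimeCore 2 v ⊔ normalizer (CS u kQ : Set Y))
    (hB2 : ∀ v ∈ CS u kE2, v ≠ 1 → v ≠ u x15 →
      centralizer {v} ≤ centralizerPPrimeCore 2 v ⊔ normalizer (CS u kQ : Set Y)) :
    pPrimeCore 2 (Y ⧸ zpowers (u x15)) ⊔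
      normalizer ((CS u kE1).map π : Set (Y ⧸ zpowers (u x15))) = ⊤ := by
  have hz1 : u x15 ∈ CS u kE1 := z_mem u (by decide)
  have hz2 : u x15 ∈ CS u kE2 := z_mem u (by decide)
  have hne : ∀ v : Y, π v ≠ 1 → v ≠ 1 ∧ v ≠ u x15 := by
    intro v hv
    constructor
    · rintro rfl
      exact hv (map_one _)
    · rintro rfl
      exact hv ((QuotientGroup.eq_one_iff _).2 (mem_zpowers _))
  refine LiteEnd.sup_normalizer_eq_top (P S u) ((CS u kE1).map π) ((CS u kE2).map π)
    (map_mono (h.emb.CS_le kE1)) (map_mono (h.emb.CS_le kE2))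
    (strongX h E1_le_Q hz1 h.nE1) ?_ ?_ ?_ ?_ ?_ (comm_V_U h) ?_
    (normal_meets h) ?_ ?_ ?_
  · rintro _ ⟨a, ha, rfl⟩ _ ⟨b, hb, rfl⟩
    rw [← map_mul, ← map_mul, comm_E1 h.emb a ha b hb]
  · rintro _ ⟨a, ha, rfl⟩
    rw [← map_mul, sq_E1 h.emb a ha, map_one]
  · exact card_ge h ![0, 8, 64, 72, 256, 264, 320, 328] (by decide) (by decide) (by decide)
  · rintro _ ⟨a, ha, rfl⟩
    rw [← map_mul, sq_E2 h.emb a ha, map_one]
  · have h1 := card_ge h (K := kE2) ![0, 1, 16, 17, 128, 129, 144, 145] (by decide) (by decide)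
      (by decide)
    intro h0
    rw [h0, Subgroup.card_bot] at h1
    omega
  · rintro _ ⟨a, ha, rfl⟩ ha1 g hg
    have h1 : g⁻¹ * (g * π a * g⁻¹) * g⁻¹⁻¹ = π a := by group
    have h2 := strongX h E1_le_Q hz1 h.nE1 _ hg g⁻¹ (by
      rw [h1]; exact ⟨a, h.emb.CS_le kE2 ha, rfl⟩)
    rw [h1] at h2
    have h3 : a ∈ CS u kE1 := mem_of_pi_mem (zpow_le u (by decide)) h2
    have h4 := E1_inf_E2 h.emb h3 ha
    exact ha1 ((QuotientGroup.eq_one_iff _).2 h4)
  · rintro _ ⟨a, ha, rfl⟩ ha1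
    obtain ⟨h1, h2⟩ := hne a ha1
    exact cent_solvable h (E1_le_Q ha) h1 h2 (hsol a ha h1 h2)
  · rintro _ ⟨a, ha, rfl⟩ ha1
    obtain ⟨h1, h2⟩ := hne a ha1
    exact cent_le h (E1_le_Q ha) h1 h2 (hB1 a ha h1 h2) h.nE1
  · rintro _ ⟨a, ha, rfl⟩ ha1
    obtain ⟨h1, h2⟩ := hne a ha1
    exact cent_le h (E2_le_Q ha) h1 h2 (hB2 a ha h1 h2) h.nE1

/-- The other half of the end. -/
theorem sup_eq_top_two (h : VData S u)
    (hsol : ∀ v ∈ CS u kE2, v ≠ 1 → v ≠ u x15 → Group.IsSolvable (centralizer ({v} : Set Y)))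
    (hB1 : ∀ v ∈ CS u kE1, v ≠ 1 → v ≠ u x15 →
      centralizer {v} ≤ centralizerPPrimeCore 2 v ⊔ normalizer (CS u kQ : Set Y))
    (hB2 : ∀ v ∈ CS u kE2, v ≠ 1 → v ≠ u x15 →
      centralizer {v} ≤ centralizerPPrimeCore 2 v ⊔ normalizer (CS u kQ : Set Y)) :
    pPrimeCore 2 (Y ⧸ zpowers (u x15)) ⊔
      normalizer ((CS u kE2).map π : Set (Y ⧸ zpowers (u x15))) = ⊤ := by
  have hz1 : u x15 ∈ CS u kE1 := z_mem u (by decide)
  have hz2 : u x15 ∈ CS u kE2 := z_mem u (by decide)
  have hne : ∀ v : Y, π v ≠ 1 → v ≠ 1 ∧ v ≠ u x15 := by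
    intro v hv
    constructor
    · rintro rfl
      exact hv (map_one _)
    · rintro rfl
      exact hv ((QuotientGroup.eq_one_iff _).2 (mem_zpowers _))
  refine LiteEnd.sup_normalizer_eq_top (P S u) ((CS u kE2).map π) ((CS u kE1).map π)
    (map_mono (h.emb.CS_le kE2)) (map_mono (h.emb.CS_le kE1))
    (strongX h E2_le_Q hz2 h.nE2) ?_ ?_ ?_ ?_ ?_
    (fun a ha b hb => (comm_V_U h b hb a ha).symm) ?_
    (fun K hK hKP => (normal_meets h K hK hKP).symm) ?_ ?_ ?_
  · rintro _ ⟨a, ha, rfl⟩ _ ⟨b, hb, rfl⟩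
    rw [← map_mul, ← map_mul, comm_E2 h.emb a ha b hb]
  · rintro _ ⟨a, ha, rfl⟩
    rw [← map_mul, sq_E2 h.emb a ha, map_one]
  · exact card_ge h ![0, 1, 16, 17, 128, 129, 144, 145] (by decide) (by decide) (by decide)
  · rintro _ ⟨a, ha, rfl⟩
    rw [← map_mul, sq_E1 h.emb a ha, map_one]
  · have h1 := card_ge h (K := kE1) ![0, 8, 64, 72, 256, 264, 320, 328] (by decide) (by decide)
      (by decide)
    intro h0
    rw [h0, Subgroup.card_bot] at h1
    omega
  · rintro _ ⟨a, ha, rfl⟩ ha1 g hg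
    have h1 : g⁻¹ * (g * π a * g⁻¹) * g⁻¹⁻¹ = π a := by group
    have h2 := strongX h E2_le_Q hz2 h.nE2 _ hg g⁻¹ (by
      rw [h1]; exact ⟨a, h.emb.CS_le kE1 ha, rfl⟩)
    rw [h1] at h2
    have h3 : a ∈ CS u kE2 := mem_of_pi_mem (zpow_le u (by decide)) h2
    have h4 := E1_inf_E2 h.emb ha h3
    exact ha1 ((QuotientGroup.eq_one_iff _).2 h4)
  · rintro _ ⟨a, ha, rfl⟩ ha1
    obtain ⟨h1, h2⟩ := hne a ha1
    exact cent_solvable h (E2_le_Q ha) h1 h2 (hsol a ha h1 h2)
  · rintro _ ⟨a, ha, rfl⟩ ha1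
    obtain ⟨h1, h2⟩ := hne a ha1
    exact cent_le h (E2_le_Q ha) h1 h2 (hB2 a ha h1 h2) h.nE2
  · rintro _ ⟨a, ha, rfl⟩ ha1
    obtain ⟨h1, h2⟩ := hne a ha1
    exact cent_le h (E1_le_Q ha) h1 h2 (hB1 a ha h1 h2) h.nE2

/-- Pulling back: `O(Y) E` is normal. -/
theorem sup_normal (h : VData S u) {K : ℕ} (hK : Nat.land 512 K = 512)
    (htop : pPrimeCore 2 (Y ⧸ zpowers (u x15)) ⊔
      normalizer ((CS u K).map π : Set (Y ⧸ zpowers (u x15))) = ⊤) :
    (pPrimeCore 2 Y ⊔ CS u K).Normal := by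
  have hOn : (pPrimeCore 2 (Y ⧸ zpowers (u x15))).Normal :=
    Cfsg.Agent.Lib.Cores.pPrimeCore_normal 2
  have hKn : (pPrimeCore 2 Y).Normal := Cfsg.Agent.Lib.Cores.pPrimeCore_normal 2
  have hN : (pPrimeCore 2 (Y ⧸ zpowers (u x15)) ⊔ (CS u K).map π).Normal := by
    rw [← normalizer_eq_top_iff, ← top_le_iff, ← htop]
    refine sup_le (le_sup_left.trans le_normalizer) ?_
    intro n hn
    have key : ∀ n ∈ normalizer ((CS u K).map π : Set (Y ⧸ zpowers (u x15))),
        ∀ x ∈ pPrimeCore 2 (Y ⧸ zpowers (u x15)) ⊔ (CS u K).map π,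
        n * x * n⁻¹ ∈ pPrimeCore 2 (Y ⧸ zpowers (u x15)) ⊔ (CS u K).map π := by
      intro n hn x hx
      rw [mem_sup_of_normal_left] at hx
      obtain ⟨a, ha, b, hb, rfl⟩ := hx
      have e : n * (a * b) * n⁻¹ = (n * a * n⁻¹) * (n * b * n⁻¹) := by group
      rw [e]
      exact mul_mem (mem_sup_left (hOn.conj_mem a ha n))
        (mem_sup_right ((mem_normalizer_iff.1 hn b).1 hb))
    rw [mem_normalizer_iff]
    intro x
    refine ⟨key n hn x, fun hx => ?_⟩
    have h1 := key n⁻¹ (inv_mem hn) _ hx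
    have e : n⁻¹ * (n * x * n⁻¹) * n⁻¹⁻¹ = x := by group
    rwa [e] at h1
  have he : pPrimeCore 2 Y ⊔ CS u K =
      (pPrimeCore 2 (Y ⧸ zpowers (u x15)) ⊔ (CS u K).map π).comap π := by
    apply le_antisymm
    · rw [← map_le_iff_le_comap, Subgroup.map_sup]
      refine sup_le_sup_right ?_ _
      refine Cfsg.Agent.Lib.Cores.le_pPrimeCore
        (hKn.map _ (QuotientGroup.mk'_surjective _)) ?_
      exact Nat.Coprime.coprime_dvd_left (Subgroup.card_map_dvd (pPrimeCore 2 Y) π)
        (Cfsg.Agent.Lib.Cores.pPrimeCore_coprime 2)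
    · intro g hg
      have hg' : π g ∈ pPrimeCore 2 (Y ⧸ zpowers (u x15)) ⊔ (CS u K).map π := hg
      rw [mem_sup_of_normal_left] at hg'
      obtain ⟨a, ha, b, ⟨b, hb, rfl⟩, hab⟩ := hg'
      have h1 : g * b⁻¹ ∈ (pPrimeCore 2 (Y ⧸ zpowers (u x15))).comap π := by
        show π (g * b⁻¹) ∈ pPrimeCore 2 (Y ⧸ zpowers (u x15))
        rw [map_mul, map_inv, ← hab, mul_inv_cancel_right]
        exact ha
      have h2 := comap_core_le (zpowers (u x15)) (zpow_central h) (zpow_isPGroup h) h1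
      have h3 : zpowers (u x15) ⊔ pPrimeCore 2 Y ≤ pPrimeCore 2 Y ⊔ CS u K :=
        sup_le ((zpow_le u hK).trans le_sup_right) le_sup_left
      have h4 := mul_mem (h3 h2) (mem_sup_right hb : b ∈ pPrimeCore 2 Y ⊔ CS u K)
      rwa [inv_mul_cancel_right] at h4
  rw [he]
  exact hN.comap _

omit [Finite Y] hZn in
theorem Q_le (h : VData S u) : CS u kQ ≤ CS u kE1 ⊔ CS u kE2 := by
  intro g hg
  obtain ⟨a, ha, hs, rfl⟩ := (h.emb.mem_CS closedQ).1 hg
  have key : allK kQ (fun a => or (Nat.beq (mu (Nat.land a kE1) (Nat.land a kE2)) a)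
      (Nat.beq (mu (mu (Nat.land a kE1) (Nat.land a kE2)) 512) a)) = true := by decide +kernel
  have hl : ∀ K, Nat.land a K < 1024 := fun K => lt_of_le_of_lt Nat.and_le_left ha
  have hm : ∀ K, u (Nat.land a K) ∈ CS u K := by
    intro K
    refine subset_closure ⟨_, hl K, ?_, rfl⟩
    rw [subK_iff]
    show (a &&& K) &&& K = a &&& K
    rw [Nat.and_assoc, Nat.and_self]
  have h1 := of_allK key ha hs
  rcases (Bool.or_eq_true _ _).mp h1 with h2 | h2
  · rw [← Nat.eq_of_beq_eq_true h2, h.emb.mul (hl _) (hl _)]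
    exact mul_mem_sup (hm _) (hm _)
  · rw [← Nat.eq_of_beq_eq_true h2, h.emb.mul (mu_lt (hl _) (hl _)) (by norm_num),
      h.emb.mul (hl _) (hl _)]
    exact mul_mem (mul_mem_sup (hm _) (hm _)) (mem_sup_left (z_mem u (by decide)))

omit hZn in
/-- **(B4)** `Y = O(Y) N_Y(Q)`. -/
theorem solved (h : VData S u)
    (hsol : ∀ v, (v ∈ CS u kE1 ∨ v ∈ CS u kE2) → v ≠ 1 → v ≠ u x15 →
      Group.IsSolvable (centralizer ({v} : Set Y)))
    (hB3 : ∀ v, (v ∈ CS u kE1 ∨ v ∈ CS u kE2) → v ≠ 1 → v ≠ u x15 →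
      centralizer {v} ≤ centralizerPPrimeCore 2 v ⊔ normalizer (CS u kQ : Set Y)) :
    Solved (normalizer (CS u kQ : Set Y)) := by
  have h2 : Fact (Nat.Prime 2) := ⟨Nat.prime_two⟩
  have hZn := zn h
  have hKn : (pPrimeCore 2 Y).Normal := Cfsg.Agent.Lib.Cores.pPrimeCore_normal 2
  have hE1 := sup_normal h (K := kE1) (by decide) (sup_eq_top_one h
    (fun v hv => hsol v (Or.inl hv)) (fun v hv => hB3 v (Or.inl hv))
    (fun v hv => hB3 v (Or.inr hv)))
  have hE2 := sup_normal h (K := kE2) (by decide) (sup_eq_top_two h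
    (fun v hv => hsol v (Or.inr hv)) (fun v hv => hB3 v (Or.inl hv))
    (fun v hv => hB3 v (Or.inr hv)))
  have hQe : pPrimeCore 2 Y ⊔ CS u kQ =
      (pPrimeCore 2 Y ⊔ CS u kE1) ⊔ (pPrimeCore 2 Y ⊔ CS u kE2) := by
    apply le_antisymm
    · refine sup_le (le_sup_left.trans le_sup_left) ((Q_le h).trans ?_)
      exact sup_le_sup le_sup_right le_sup_right
    · exact sup_le (sup_le_sup_left E1_le_Q _) (sup_le_sup_left E2_le_Q _)
  have hQn : (pPrimeCore 2 Y ⊔ CS u kQ).Normal := by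
    rw [hQe]
    exact Subgroup.sup_normal _ _
  have htop := PLocal.ZJReduction.sup_normalizer_eq_top hKn
    (Cfsg.Agent.Lib.Cores.pPrimeCore_coprime 2) (S.isPGroup'.to_le (h.emb.CS_le kQ)) hQn
  intro g
  have hg : g ∈ pPrimeCore 2 Y ⊔ normalizer (CS u kQ : Set Y) := by rw [htop]; trivial
  rw [mem_sup_of_normal_left] at hg
  obtain ⟨a, ha, n, hn, e⟩ := hg
  exact ⟨a, ha, n, hn, e.symm⟩

end main

end Cfsg.Agent.SylowL5.LiteY
end

-- part: SylowL5/TypeAFinal
section
/-!
# Piece B3 of S0512, final form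

All elements of `E1 - ⟨z⟩` are conjugate to `x25` under `N = N_Y(Q)`; hence
`C_Y(v) = O(C_Y(v)) C_N(v)` and `C_Y(v)` is solvable for `v ∈ E1 - ⟨z⟩` and `v ∈ E2 - ⟨z⟩`.
`solved`: `Y = O(Y) N`.
-/

set_option autoImplicit false

namespace Cfsg.Agent.SylowL5.TypeAFinal

open Cfsg Subgroup
open Cfsg.Agent.SylowL5.Setup Cfsg.Agent.SylowL5.TypeACodes Cfsg.Agent.SylowL5.TypeA

section codes

/-- conjugators inside `S` -/
def sc (c : ℕ) : ℕ := Nat.xor (Nat.shiftLeft (bt c 6) 2) (Nat.shiftLeft (bt c 8) 5)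

theorem sc_lt (c : ℕ) : sc c < 1024 := by
  unfold sc
  rcases bt_cases c 6 with h | h <;> rcases bt_cases c 8 with h' | h' <;> rw [h, h'] <;> decide

theorem key3 : ∀ c, c < 1024 → SubK c kE1 → c.testBit 3 = true →
    mu (sc c) 8 = mu c (sc c) ∨ mu (sc c) 8 = mu (mu c 512) (sc c) := by
  intro c hc hcE h3
  have key : allb 1024 (fun c => !(Nat.beq (Nat.land c kE1) c) || (!(c.testBit 3) ||
    (Nat.beq (mu (sc c) 8) (mu c (sc c)) || Nat.beq (mu (sc c) 8) (mu (mu c 512) (sc c))))) = true := by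
    decide +kernel
  have h5 := of_allb key c hc
  have e1 : Nat.beq (Nat.land c kE1) c = true := by rw [Nat.beq_eq]; exact (subK_iff _ _).1 hcE
  rw [e1, h3] at h5
  simp only [Bool.not_true, Bool.false_or, Bool.or_eq_true, Nat.beq_eq] at h5
  exact h5

theorem key6 : ∀ c, c < 1024 → SubK c kE1 → c.testBit 3 = false → c.testBit 6 = true →
    mu (Nat.shiftLeft (bt c 8) 1) 64 = mu c (Nat.shiftLeft (bt c 8) 1) ∨
      mu (Nat.shiftLeft (bt c 8) 1) 64 = mu (mu c 512) (Nat.shiftLeft (bt c 8) 1) := by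
  intro c hc hcE h3 h6
  have key : allb 1024 (fun c => !(Nat.beq (Nat.land c kE1) c) || (c.testBit 3 || (!(c.testBit 6) ||
    (Nat.beq (mu (Nat.shiftLeft (bt c 8) 1) 64) (mu c (Nat.shiftLeft (bt c 8) 1)) ||
      Nat.beq (mu (Nat.shiftLeft (bt c 8) 1) 64) (mu (mu c 512) (Nat.shiftLeft (bt c 8) 1)))))) =
        true := by
    decide +kernel
  have h5 := of_allb key c hc
  have e1 : Nat.beq (Nat.land c kE1) c = true := by rw [Nat.beq_eq]; exact (subK_iff _ _).1 hcE
  rw [e1, h3, h6] at h5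
  simp only [Bool.not_true, Bool.false_or, Bool.or_eq_true, Nat.beq_eq] at h5
  exact h5

theorem key0 : ∀ c, c < 1024 → SubK c kE1 → c.testBit 3 = false → c.testBit 6 = false →
    c = 0 ∨ c = 512 ∨ c = 256 ∨ c = 768 := by
  intro c hc hcE h3 h6
  have key : allb 1024 (fun c => !(Nat.beq (Nat.land c kE1) c) || (c.testBit 3 || (c.testBit 6 ||
    (Nat.beq c 0 || (Nat.beq c 512 || (Nat.beq c 256 || Nat.beq c 768)))))) = true := by
    decide +kernel
  have h5 := of_allb key c hc
  have e1 : Nat.beq (Nat.land c kE1) c = true := by rw [Nat.beq_eq]; exact (subK_iff _ _).1 hcE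
  rw [e1, h3, h6] at h5
  simp only [Bool.not_true, Bool.false_or, Bool.or_eq_true, Nat.beq_eq] at h5
  exact h5

end codes

variable {Y : Type*} [Group Y] {S : Sylow 2 Y} {u : ℕ → Y}

/-- `N`-conjugacy modulo `z` -/
def Rel (u : ℕ → Y) (v w : Y) : Prop :=
  ∃ n ∈ normalizer (CS u kQ : Set Y), n * v * n⁻¹ = w ∨ n * v * n⁻¹ = w * u 512

theorem zz (h : Data.VData S u) : u 512 * u 512 = 1 := by
  rw [← h.emb.mul (by norm_num) (by norm_num), ← h.emb.zero]
  congr 1

theorem zc' (h : Data.VData S u) (g : Y) : g * u 512 = u 512 * g := h.zc g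

theorem Rel.symm (h : Data.VData S u) {v w : Y} (hr : Rel u v w) : Rel u w v := by
  obtain ⟨n, hn, h1 | h1⟩ := hr
  · exact ⟨n⁻¹, inv_mem hn, Or.inl (by rw [← h1]; group)⟩
  · refine ⟨n⁻¹, inv_mem hn, Or.inr ?_⟩
    have h2 : w = n * v * n⁻¹ * u 512 := by rw [h1, mul_assoc, zz h, mul_one]
    rw [h2]
    calc n⁻¹ * (n * v * n⁻¹ * u 512) * n⁻¹⁻¹ = v * (n⁻¹ * u 512) * n := by group
      _ = v * (u 512 * n⁻¹) * n := by rw [zc' h]
      _ = v * u 512 := by group

theorem Rel.trans (h : Data.VData S u) {v w x : Y} (hr : Rel u v w) (hs : Rel u w x) :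
    Rel u v x := by
  obtain ⟨n, hn, h1⟩ := hr
  obtain ⟨m, hm, h2⟩ := hs
  refine ⟨m * n, mul_mem hm hn, ?_⟩
  have e : m * n * v * (m * n)⁻¹ = m * (n * v * n⁻¹) * m⁻¹ := by group
  rw [e]
  rcases h1 with h1 | h1 <;> rcases h2 with h2 | h2 <;> rw [h1]
  · left; exact h2
  · right; exact h2
  · right
    rw [← h2]
    calc m * (w * u 512) * m⁻¹ = m * w * (u 512 * m⁻¹) := by group
      _ = m * w * (m⁻¹ * u 512) := by rw [zc' h]
      _ = m * w * m⁻¹ * u 512 := by group
  · left
    have h3 : m * (w * u 512) * m⁻¹ = (m * w * m⁻¹) * u 512 := by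
      calc m * (w * u 512) * m⁻¹ = m * w * (u 512 * m⁻¹) := by group
        _ = m * w * (m⁻¹ * u 512) := by rw [zc' h]
        _ = m * w * m⁻¹ * u 512 := by group
    rw [h3, h2, mul_assoc, zz h, mul_one]

theorem rel_of_mu (h : Data.VData S u) {s a c : ℕ} (hs : s < 1024) (ha : a < 1024) (hc : c < 1024)
    (hm : mu s a = mu c s ∨ mu s a = mu (mu c 512) s) : Rel u (u a) (u c) := by
  refine ⟨u s, Q_normal h.emb (h.emb.mem hs), ?_⟩
  rcases hm with hm | hm
  · left
    rw [← h.emb.mul hs ha, hm, h.emb.mul hc hs]; group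
  · right
    rw [← h.emb.mul hs ha, hm, h.emb.mul (mu_lt hc (by norm_num)) hs,
      h.emb.mul hc (by norm_num)]
    group

theorem rel_x45 (h : Data.VData S u) {v : Y} (hv : v ∈ CS u kE1) (hv1 : v ≠ 1)
    (hvz : v ≠ u x15) (hv2 : v ≠ u x25) (hv3 : v ≠ u 768) : Rel u (u x45) v := by
  obtain ⟨c, hc, hcE, rfl⟩ := (h.emb.mem_CS (by decide)).1 hv
  cases h3 : c.testBit 3
  · cases h6 : c.testBit 6
    · exfalso
      rcases key0 c hc hcE h3 h6 with rfl | rfl | rfl | rfl
      · exact hv1 h.emb.zero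
      · exact hvz rfl
      · exact hv2 rfl
      · exact hv3 rfl
    · -- conjugate to `x35`
      have h1 : Rel u (u 64) (u c) := rel_of_mu h (s := Nat.shiftLeft (bt c 8) 1) (by
        rcases bt_cases c 8 with h | h <;> rw [h] <;> decide) (by norm_num) hc
        (key6 c hc hcE h3 h6)
      obtain ⟨k, hk, -, -, a, ha, haU, hke⟩ := h.k3
      have hlt : mu x45 a < 1024 := mu_lt (by norm_num) ha
      have hE : SubK (mu x45 a) kE1 := by
        apply SubK.mu (by decide)
        · rw [subK_iff]; decide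
        · intro j hj
          have := haU j hj
          revert this
          exact mono_of10 (K := kU1) (L := kE1) (by norm_num) (by decide) j
      have hb3 : (mu x45 a).testBit 3 = true := by
        rw [testBit_mu, not_of_subK haU (j := 3) (by decide)]
        simp [-Nat.testBit_zero, tb8]
      have h2 : Rel u (u 64) (u (mu x45 a)) := ⟨k, hk, Or.inl hke⟩
      have h4 : Rel u (u 8) (u (mu x45 a)) :=
        rel_of_mu h (sc_lt _) (by norm_num) hlt (key3 _ hlt hE hb3)
      exact (h4.trans h (h2.symm h)).trans h h1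
  · exact rel_of_mu h (sc_lt _) (by norm_num) hc (key3 c hc hcE h3)

theorem rel_x25_x45 (h : Data.VData S u) : Rel u (u x45) (u x25) := by
  obtain ⟨k, hk, -, -, a, ha, haU, hke⟩ := h.k2
  have hx : u x25 ∈ CS u kE1 := u_mem u (by norm_num) (by decide)
  have hkE : k * u x25 * k⁻¹ ∈ CS u kE1 := (mem_normalizer_iff.1 (h.nE1 hk) _).1 hx
  have hcomm : u x13 * u x25 = u x25 * u x13 := by
    rw [comm_iff h.emb (by norm_num) (by norm_num)]; decide
  have hcomm2 : u (mu x12 a) * (k * u x25 * k⁻¹) = (k * u x25 * k⁻¹) * u (mu x12 a) := by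
    rw [← hke]
    calc k * u x13 * k⁻¹ * (k * u x25 * k⁻¹) = k * (u x13 * u x25) * k⁻¹ := by group
      _ = k * (u x25 * u x13) * k⁻¹ := by rw [hcomm]
      _ = _ := by group
  have hinj : ∀ b, b < 1024 → b ≠ 256 → (∀ g : Y, g * u b = u b * g) → k * u x25 * k⁻¹ ≠ u b := by
    intro b hb hb2 hbc h1
    have h2 : u x25 = u b := by
      have : u x25 = k⁻¹ * (k * u x25 * k⁻¹) * k := by group
      rw [this, h1, hbc]; group
    exact hb2 (h.emb.inj (by norm_num) hb h2).symm
  have h7 : ∀ b, b < 1024 → SubK b kU1 → b.testBit 8 = true → k * u x25 * k⁻¹ ≠ u b := by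
    intro b hb hbU hb8 h1
    rw [h1] at hcomm2
    rw [comm_iff h.emb (mu_lt (by norm_num) ha) hb] at hcomm2
    have e := congrArg (fun x => x.testBit 9) hcomm2
    simp only [mu_U1 hbU] at e
    rw [testBit_mu, testBit_mu, testBit_mu, not_of_subK hbU (j := 3) (by decide),
      not_of_subK hbU (j := 6) (by decide), hb8, not_of_subK haU (j := 0) (by decide)] at e
    revert e
    cases a.testBit 9 <;> cases b.testBit 9 <;> cases a.testBit 8 <;> cases a.testBit 6 <;>
      cases a.testBit 3 <;> simp [-Nat.testBit_zero, tb1]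
  have h1 : Rel u (u x45) (k * u x25 * k⁻¹) := by
    apply rel_x45 h hkE
    · rw [← h.emb.zero]
      exact hinj 0 (by norm_num) (by norm_num) (fun g => by rw [h.emb.zero]; group)
    · exact hinj 512 (by norm_num) (by norm_num) (zc' h)
    · exact h7 256 (by norm_num) (by rw [subK_iff]; decide) (by decide)
    · exact h7 768 (by norm_num) (by rw [subK_iff]; decide) (by decide)
  exact h1.trans h ⟨k⁻¹, inv_mem hk, Or.inl (by group)⟩

/-- transitivity -/
theorem exists_conj (h : Data.VData S u) {v : Y} (hv : v ∈ CS u kE1) (hv1 : v ≠ 1)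
    (hvz : v ≠ u x15) : ∃ n ∈ normalizer (CS u kQ : Set Y), n * u x25 * n⁻¹ = v := by
  have h1 : Rel u (u x25) v := by
    by_cases h2 : v = u x25
    · rw [h2]
      exact ⟨1, one_mem _, Or.inl (by group)⟩
    by_cases h3 : v = u 768
    · rw [h3]
      exact ⟨1, one_mem _, Or.inr (by
        rw [← h.emb.mul (by norm_num) (by norm_num), show mu 768 512 = 256 by decide]
        group)⟩
    exact (rel_x25_x45 h).symm h |>.trans h (rel_x45 h hv hv1 hvz h2 h3)
  obtain ⟨n, hn, h2 | h2⟩ := h1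
  · exact ⟨n, hn, h2⟩
  · refine ⟨n * u x12, mul_mem hn (Q_normal h.emb (h.emb.mem (by norm_num))), ?_⟩
    have h3 : u x12 * u x25 = u x25 * u 512 * u x12 := by
      rw [← h.emb.mul (by norm_num) (by norm_num), ← h.emb.mul (by norm_num) (by norm_num),
        ← h.emb.mul (by decide) (by norm_num)]
      congr 1
    calc n * u x12 * u x25 * (n * u x12)⁻¹ = n * (u x12 * u x25) * (u x12)⁻¹ * n⁻¹ := by group
      _ = n * u x25 * (u 512 * n⁻¹) := by rw [h3]; group
      _ = n * u x25 * (n⁻¹ * u 512) := by rw [← zc' h]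
      _ = (n * u x25 * n⁻¹) * u 512 := by group
      _ = v := by rw [h2, mul_assoc, zz h, mul_one]

theorem centralizer_U1 (h : Data.VData S u) :
    centralizer (CS u kU1 : Set Y) = centralizer ({u x25} : Set Y) := by
  apply le_antisymm
  · intro g hg
    rw [mem_centralizer_singleton_iff]
    exact (mem_centralizer_iff.1 hg _ (u_mem u (by norm_num) (by decide))).symm
  · intro g hg
    rw [mem_centralizer_singleton_iff] at hg
    rw [mem_centralizer_iff]
    intro f hf
    obtain ⟨c, hc, hcU, rfl⟩ := (h.emb.mem_CS (by decide)).1 hf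
    have hcE : SubK c kE1 := fun j hj =>
      mono_of10 (K := kU1) (L := kE1) (by norm_num) (by decide) j (hcU j hj)
    rcases key0 c hc hcE (not_of_subK hcU (by decide)) (not_of_subK hcU (by decide)) with
      rfl | rfl | rfl | rfl
    · rw [h.emb.zero]; group
    · exact (zc' h g).symm
    · exact hg.symm
    · have h1 : u 768 = u x25 * u 512 := by
        rw [← h.emb.mul (by norm_num) (by norm_num)]
        congr 1
      rw [h1, mul_assoc, ← zc' h, ← mul_assoc, ← hg, mul_assoc, zc' h, ← mul_assoc]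

variable [Finite Y]

theorem main_x25 (h : Data.VData S u) (hc : Data.Ctrl (normalizer (CS u kQ : Set Y))) :
    Group.IsSolvable ↥(centralizer ({u x25} : Set Y)) ∧
      centralizer ({u x25} : Set Y) ≤ centralizerPPrimeCore 2 (u x25) ⊔
        normalizer (CS u kQ : Set Y) := by
  have h1 := TypeA.main h.emb h.zc h.nE1 hc
  rw [centralizer_U1 h] at h1
  refine ⟨h1.2, ?_⟩
  intro g hg
  obtain ⟨a, ha, n, hn, he⟩ := h1.1 ⟨g, hg⟩
  have he' : g = (a : Y) * (n : Y) := congrArg Subtype.val he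
  rw [he']
  exact mul_mem (mem_sup_left ⟨a, ha, rfl⟩) (mem_sup_right (mem_subgroupOf.1 hn))

theorem transport {x n : Y} {N : Subgroup Y} (hn : n ∈ N)
    (h : Group.IsSolvable ↥(centralizer ({x} : Set Y)) ∧
      centralizer ({x} : Set Y) ≤ centralizerPPrimeCore 2 x ⊔ N) :
    Group.IsSolvable ↥(centralizer ({n * x * n⁻¹} : Set Y)) ∧
      centralizer ({n * x * n⁻¹} : Set Y) ≤ centralizerPPrimeCore 2 (n * x * n⁻¹) ⊔ N := by
  have h2 : Fact (Nat.Prime 2) := ⟨Nat.prime_two⟩
  have e : centralizer ({n * x * n⁻¹} : Set Y) =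
      (centralizer ({x} : Set Y)).map (MulAut.conj n).toMonoidHom := by
    ext g
    rw [mem_centralizer_singleton_iff]
    constructor
    · intro hg
      refine ⟨n⁻¹ * g * n, mem_centralizer_singleton_iff.2 ?_, ?_⟩
      · calc n⁻¹ * g * n * x = n⁻¹ * (g * (n * x * n⁻¹)) * n := by group
          _ = n⁻¹ * ((n * x * n⁻¹) * g) * n := by rw [hg]
          _ = x * (n⁻¹ * g * n) := by group
      · show n * (n⁻¹ * g * n) * n⁻¹ = g
        group
    · rintro ⟨g, hg, rfl⟩
      have hg' := mem_centralizer_singleton_iff.1 hg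
      show n * g * n⁻¹ * (n * x * n⁻¹) = n * x * n⁻¹ * (n * g * n⁻¹)
      calc n * g * n⁻¹ * (n * x * n⁻¹) = n * (g * x) * n⁻¹ := by group
        _ = n * (x * g) * n⁻¹ := by rw [hg']
        _ = _ := by group
  constructor
  · rw [e]
    have := h.1
    exact Group.isSolvable_of_surjective
      (f := ((centralizer ({x} : Set Y)).equivMapOfInjective (MulAut.conj n).toMonoidHom
        (MulAut.conj n).injective).toMonoidHom)
      ((centralizer ({x} : Set Y)).equivMapOfInjective _ (MulAut.conj n).injective).surjective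
  · rw [e, Cfsg.Agent.Lib.CoreCent.core_conj 2 x n]
    refine (map_mono h.2).trans ?_
    rw [Subgroup.map_sup]
    refine sup_le_sup_left ?_ _
    rintro _ ⟨m, hm, rfl⟩
    exact mul_mem (mul_mem hn hm) (inv_mem hn)

theorem main_E1 (h : Data.VData S u) (hc : Data.Ctrl (normalizer (CS u kQ : Set Y))) {v : Y}
    (hv : v ∈ CS u kE1) (hv1 : v ≠ 1) (hvz : v ≠ u x15) :
    Group.IsSolvable ↥(centralizer ({v} : Set Y)) ∧
      centralizer ({v} : Set Y) ≤ centralizerPPrimeCore 2 v ⊔ normalizer (CS u kQ : Set Y) := by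
  obtain ⟨n, hn, rfl⟩ := exists_conj h hv hv1 hvz
  exact transport hn (main_x25 h hc)

theorem main_E2 (h : Data.VData S u) (hc : Data.Ctrl (normalizer (CS u kQ : Set Y))) {v : Y}
    (hv : v ∈ CS u kE2) (hv1 : v ≠ 1) (hvz : v ≠ u x15) :
    Group.IsSolvable ↥(centralizer ({v} : Set Y)) ∧
      centralizer ({v} : Set Y) ≤ centralizerPPrimeCore 2 v ⊔ normalizer (CS u kQ : Set Y) := by
  have hz : TypeADual.du u x15 = u x15 := by
    show (u (TypeADual.pm x15))⁻¹ = u x15
    rw [show TypeADual.pm x15 = x15 by decide]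
    exact inv_eq_of_mul_eq_one_left (zz h)
  have h1 := main_E1 (TypeADual.VData.dual h) (by rw [TypeADual.CS_dual_Q]; exact hc) (v := v)
    (by rw [TypeADual.CS_dual_E1]; exact hv) hv1 (by rw [hz]; exact hvz)
  rw [TypeADual.CS_dual_Q] at h1
  exact h1

/-- **(V)** `Y = O(Y) N_Y(Q)`. -/
theorem solved (h : Data.VData S u) (hc : Data.Ctrl (normalizer (CS u kQ : Set Y))) :
    Data.Solved (normalizer (CS u kQ : Set Y)) :=
  LiteY.solved h
    (fun v hv hv1 hvz => by
      rcases hv with hv | hv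
      · exact (main_E1 h hc hv hv1 hvz).1
      · exact (main_E2 h hc hv hv1 hvz).1)
    (fun v hv hv1 hvz => by
      rcases hv with hv | hv
      · exact (main_E1 h hc hv hv1 hvz).2
      · exact (main_E2 h hc hv hv1 hvz).2)

end Cfsg.Agent.SylowL5.TypeAFinal
end

-- part: SylowL5/CtrlV
section
/-!
# `VData` gives control of fusion by `N_Y(Q)` and `Y = O(Y) N_Y(Q)` (S0512)
-/

set_option autoImplicit false

namespace Cfsg.Agent.SylowL5.CtrlV

open Cfsg Subgroup
open Cfsg.Agent.SylowL5.Setup Cfsg.Agent.SylowL5.TypeACodes Cfsg.Agent.SylowL5.TypeA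
open Cfsg.Agent.SylowL5.Ctrl Cfsg.Agent.Lib.GoldschmidtFusion

variable {Y : Type*} [Group Y] [Finite Y] {S : Sylow 2 Y} {u : ℕ → Y}

omit [Finite Y] in
/-- `Q / ⟨z⟩` is abelian. -/
theorem Q_comm (h : Emb (S : Subgroup Y) u) {x y : Y} (hx : x ∈ CS u kQ) (hy : y ∈ CS u kQ) :
    x * y * x⁻¹ * y⁻¹ ∈ zpowers (u 512) := by
  obtain ⟨a, ha, haQ, rfl⟩ := (h.mem_CS (by decide)).1 hx
  obtain ⟨b, hb, hbQ, rfl⟩ := (h.mem_CS (by decide)).1 hy
  have a1 := not_of_subK haQ (j := 1) (by decide)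
  have a2 := not_of_subK haQ (j := 2) (by decide)
  have a5 := not_of_subK haQ (j := 5) (by decide)
  have b1 := not_of_subK hbQ (j := 1) (by decide)
  have b2 := not_of_subK hbQ (j := 2) (by decide)
  have b5 := not_of_subK hbQ (j := 5) (by decide)
  have h1 : ∀ j, j < 10 → j ≠ 9 → j ≠ 6 → (mu a b).testBit j = (mu b a).testBit j := by
    intro j hj hj9 hj6
    rw [testBit_mu, testBit_mu, a1, a2, a5, b1, b2, b5]
    interval_cases j <;> first | (exact absurd rfl hj9) | (exact absurd rfl hj6) |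
      simp [-Nat.testBit_zero, Bool.xor_comm]
  have h6 : (mu a b).testBit 6 = (mu b a).testBit 6 := by
    rw [testBit_mu, testBit_mu, a1, a2, a5, b1, b2, b5]
    simp [-Nat.testBit_zero, Bool.xor_comm]
  by_cases h9 : (mu a b).testBit 9 = (mu b a).testBit 9
  · have h2 : mu a b = mu b a := by
      apply ext10 (mu_lt ha hb) (mu_lt hb ha)
      intro j hj
      by_cases hj9 : j = 9
      · rw [hj9]; exact h9
      by_cases hj6 : j = 6
      · rw [hj6]; exact h6
      exact h1 j hj hj9 hj6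
    have h3 := (comm_iff h ha hb).2 h2
    rw [h3]
    have : u b * u a * (u a)⁻¹ * (u b)⁻¹ = 1 := by group
    rw [this]; exact one_mem _
  · have hz : SubK 512 kU1 := by rw [subK_iff]; decide
    have h2 : mu a b = mu 512 (mu b a) := by
      apply ext10 (mu_lt ha hb) (mu_lt (by norm_num) (mu_lt hb ha))
      intro j hj
      rw [mu_U1 hz, tb512]
      by_cases hj9 : j = 9
      · subst hj9
        revert h9
        cases (mu a b).testBit 9 <;> cases (mu b a).testBit 9 <;> decide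
      · have : decide (9 = j) = false := by
          simp only [decide_eq_false_iff_not]; omega
        rw [this, Bool.false_xor]
        by_cases hj6 : j = 6
        · rw [hj6]; exact h6
        exact h1 j hj hj9 hj6
    have h3 : u a * u b = u 512 * (u b * u a) := by
      rw [← h.mul ha hb, ← h.mul hb ha, ← h.mul (by norm_num) (mu_lt hb ha), h2]
    have h4 : u a * u b * (u a)⁻¹ * (u b)⁻¹ = u 512 := by
      rw [h3]; group
    rw [h4]
    exact mem_zpowers _

/-- `N_Y(Q)` controls strong 2-fusion in `Y`. -/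
theorem ctrl (h : Data.VData S u) : Data.Ctrl (normalizer (CS u kQ : Set Y)) := by
  have h2 : Fact (Nat.Prime 2) := ⟨Nat.prime_two⟩
  set Z : Subgroup Y := zpowers (u 512) with hZ
  have hZc : ∀ z ∈ Z, ∀ y : Y, z * y = y * z := by
    intro z hz y
    obtain ⟨k, rfl⟩ := mem_zpowers_iff.1 hz
    exact ((show Commute y (u 512) from h.zc y).zpow_right k).symm
  have hZn : Z.Normal := by
    constructor
    intro z hz g
    rw [← hZc z hz g, mul_inv_cancel_right]
    exact hz
  have hzQ : u 512 ∈ CS u kQ := u_mem u (by norm_num) (by decide)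
  have hZQ : Z ≤ CS u kQ := by rw [hZ, zpowers_le]; exact hzQ
  have hQS : CS u kQ ≤ (S : Subgroup Y) := h.emb.CS_le kQ
  have hZN : Z ≤ normalizer (CS u kQ : Set Y) := hZQ.trans le_normalizer
  have hZp : IsPGroup 2 Z := S.isPGroup'.to_le (hZQ.trans hQS)
  apply ctrl_of_quotient hZc hZN hZp
  have hπ : Function.Surjective (QuotientGroup.mk' Z) := QuotientGroup.mk'_surjective Z
  have hmk : ∀ {A : Subgroup Y} (hA : Z ≤ A) {x : Y},
      QuotientGroup.mk' Z x ∈ A.map (QuotientGroup.mk' Z) ↔ x ∈ A := fun hA =>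
    TypeAAbs.mk_mem_map_iff hA
  have hN : normalizer ((CS u kQ).map (QuotientGroup.mk' Z) : Set (Y ⧸ Z)) =
      (normalizer (CS u kQ : Set Y)).map (QuotientGroup.mk' Z) := by
    apply le_antisymm
    · intro g hg
      obtain ⟨y, rfl⟩ := hπ g
      refine mem_map_of_mem _ ?_
      refine J2Sylow.Functor.mem_normalizer_of_conj' ?_
      intro q hq
      have h3 := (mem_normalizer_iff.1 hg (QuotientGroup.mk' Z q)).1 (mem_map_of_mem _ hq)
      rw [← map_inv, ← map_mul, ← map_mul] at h3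
      exact (hmk hZQ).1 h3
    · rintro _ ⟨y, hy, rfl⟩
      refine J2Sylow.Functor.mem_normalizer_of_conj' ?_
      rintro _ ⟨q, hq, rfl⟩
      rw [← map_inv, ← map_mul, ← map_mul]
      exact mem_map_of_mem _ ((mem_normalizer_iff.1 hy q).1 hq)
  rw [← hN]
  refine control_of_stronglyClosed (S.mapSurjective hπ) _ (map_mono hQS) ?_ ?_
  · rintro _ ⟨a, ha, rfl⟩ _ ⟨b, hb, rfl⟩
    rw [← map_mul, ← map_mul, TypeAAbs.mk_eq_iff]
    have := Q_comm h.emb ha hb
    have e : a * b * (b * a)⁻¹ = a * b * a⁻¹ * b⁻¹ := by group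
    rw [e]; exact this
  · rintro _ ⟨a, ha, rfl⟩ g hg
    obtain ⟨y, rfl⟩ := hπ g
    rw [← map_inv, ← map_mul, ← map_mul] at hg ⊢
    have h3 : y * a * y⁻¹ ∈ (S : Subgroup Y) := (hmk (hZQ.trans hQS)).1 hg
    exact mem_map_of_mem _ (h.scQ a ha y h3)

/-- **(V)** `Y = O(Y) N_Y(Q)`. -/
theorem solved (h : Data.VData S u) : Data.Solved (normalizer (CS u kQ : Set Y)) :=
  TypeAFinal.solved h (ctrl h)

end Cfsg.Agent.SylowL5.CtrlV
end

-- part: SylowL5/SolvedFinal
section
/-!
# `Y = O(Y) N_Y(Q)` (S0512)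
-/

set_option autoImplicit false

namespace Cfsg.Agent.SylowL5.SolvedFinal

open Cfsg Subgroup Cfsg.Agent.SylowL5.Setup

theorem solved {Y : Type*} [Group Y] [Finite Y] {T : Sylow 2 Y} {v : ℕ → Y}
    (h : Data.VData T v) : Data.Solved (normalizer (CS v kQ : Set Y)) :=
  CtrlV.solved h

end Cfsg.Agent.SylowL5.SolvedFinal
end
end

-- part: Held/ClosingOdd
section
prune_inst 0x20100400000000000000000020001c62b2000000000b0000004000000cc00c0100000620b0300202110280a4603a8060031000094000000020008a00411c0080040322e21074bc0011000040c801100000000000000000000000000000000000000000000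
set_option linter.all false
open scoped Cfsg.Agent.FastGrp

/-!
# The closing theorem modulo a normal subgroup of odd order
-/

set_option autoImplicit false

namespace Cfsg.Agent.Held.ClosingOdd

open Cfsg.Agent.Held.CentVOdd

section Core

open Cfsg.Agent.Lib.F2Mat Cfsg.Agent.Held.Code Cfsg.Agent.Held.ClosingCode Cfsg.Agent.Held.ClosingT
open Cfsg.Agent.Held.ClosingSound Cfsg.Agent.Held.Closing Cfsg.Agent.Held.ClosingCheck
open Cfsg.Agent.Held.Fus8 Cfsg.Agent.Held.SideDef Cfsg.Agent.Held.Acts Cfsg.Agent.Held.ClosingMain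

variable {G : Type*} [Group G] [Finite G] {M : Subgroup G} {N : Type*} [Group N] (π : M →* N)

/-- the lift to `P` of the coordinates in the quotient -/
noncomputable def lft (P : Subgroup M) (ph : ℕ → N) (a : ℕ) : G :=
  open Classical in
  if h : ∃ p : M, p ∈ P ∧ π p = ph a then ((Classical.choose h : M) : G) else 1

theorem lft_spec {P : Subgroup M} {ph : ℕ → N} (hPT : ∀ g : N, g ∈ P.map π ↔ ∃ n < 1024, ph (tc n) = g)
    {a : ℕ} (ha : TC a) : ∃ p : M, p ∈ P ∧ π p = ph a ∧ lft π P ph a = p := by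
  have h : ∃ p : M, p ∈ P ∧ π p = ph a := by
    obtain ⟨n, hn, rfl⟩ := ha
    have h1 : ph (dec n) ∈ P.map π := by
      rw [hPT]; exact ⟨n, hn, by rw [tc_eq_dec hn]⟩
    obtain ⟨p, hp, hpe⟩ := h1
    exact ⟨p, hp, hpe⟩
  refine ⟨Classical.choose h, (Classical.choose_spec h).1, (Classical.choose_spec h).2, ?_⟩
  unfold lft
  rw [dif_pos h]

theorem lft_eq (hker : Odd (Nat.card π.ker)) {P : Subgroup M} (hP : IsPGroup 2 P) {ph : ℕ → N}
    (hPT : ∀ g : N, g ∈ P.map π ↔ ∃ n < 1024, ph (tc n) = g)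
    {a : ℕ} (ha : TC a) {p : M} (hp : p ∈ P) (hpa : π p = ph a) : lft π P ph a = p := by
  obtain ⟨q, hq, hqa, he⟩ := lft_spec π hPT ha
  rw [he, inj_of_odd π hker hP hq hp (hqa.trans hpa.symm)]

/-- **Closing theorem modulo a normal subgroup of odd order** (with a given Sylow subgroup). -/
theorem closing_core [Finite N] (hπ : Function.Surjective π) (hker : Odd (Nat.card π.ker))
    (z : M) (hA : ∀ g : G, g * z * g⁻¹ ∈ M → g ∈ M) {t1 t2 : Bool} {y1 y2 : N} {ph : ℕ → N}
    (E : Emb (π z) ph) (P : Subgroup M) (hP : IsPGroup 2 P) (hzP : z ∈ P)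
    (S : Sylow 2 G) (hS : (S : Subgroup G) = P.map M.subtype)
    (hPT : ∀ g : N, g ∈ P.map π ↔ ∃ n < 1024, ph (tc n) = g)
    (s1 : SideDef.Side (π z) ph t1 y1) (s2 : Side2 (π z) ph t2 y2)
    (hb : ¬ IsConj (π z) (ph (mu (X 0 3) (X 1 4))))
    (hV : t1 = true → t2 = true → ∀ g : G,
      (∀ b ∈ P, π b = ph tt ∨ π b = ph ClosingCheck.vv → g * (b : G) = b * g) → g ∈ M) :
    M = ⊤ := by
  have hzz : z * z = 1 := by
    apply inj_of_odd π hker hP (P.mul_mem hzP hzP) P.one_mem
    rw [map_mul, map_one, ← Acts.ph_z E]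
    exact Acts.p1_4 (ph := ph) ▸ (Acts.hom1 E).sq (by norm_num)
  have hH : ∀ c, C c → ph c ∈ (⊤ : Subgroup N) := fun _ _ => Subgroup.mem_top _
  have hph1 : ph e1 = 1 := Acts.ph_e1 E
  have td : TD (z : G) (lft π P ph) (S : Subgroup G) := by
    refine ⟨?_, ?_, ?_, ?_⟩
    · intro a b ha hb
      obtain ⟨p, hp, hpa, he⟩ := lft_spec π hPT ha
      obtain ⟨q, hq, hqa, hf⟩ := lft_spec π hPT hb
      rw [he, hf, lft_eq π hker hP hPT (ha.mul hb) (P.mul_mem hp hq)]
      · rfl
      · rw [map_mul, hpa, hqa, E.mul (C_of_TC ha) (C_of_TC hb)]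
    · intro a b ha hb h
      obtain ⟨p, hp, hpa, he⟩ := lft_spec π hPT ha
      obtain ⟨q, hq, hqa, hf⟩ := lft_spec π hPT hb
      apply E.inj (C_of_TC ha) (C_of_TC hb)
      rw [← hpa, ← hqa]
      congr 1
      apply Subtype.ext
      rw [← he, ← hf, h]
    · intro g
      rw [hS]
      constructor
      · rintro ⟨p, hp, rfl⟩
        obtain ⟨n, hn, h1⟩ := (hPT (π p)).1 ⟨p, hp, rfl⟩
        refine ⟨dec n, ⟨n, hn, rfl⟩, ?_⟩
        exact lft_eq π hker hP hPT ⟨n, hn, rfl⟩ hp (by rw [← h1, tc_eq_dec hn])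
      · rintro ⟨a, ha, rfl⟩
        obtain ⟨p, hp, hpa, he⟩ := lft_spec π hPT ha
        exact ⟨p, hp, he.symm⟩
    · exact lft_eq π hker hP hPT TC_zc hzP E.z_eq.symm
  have hinv : ∀ n < 1024, kf n ≠ 0 → mu (dec n) (dec n) = e1 := by
    intro n hn h0
    have h2 := (isC_mu (tc_spec hn h0).2.1).2
    rwa [tc_eq_dec hn] at h2
  have hsq : ∀ {a : ℕ}, TC a → mu a a = e1 → ∀ p ∈ P, π p = ph a → p * p = 1 := by
    intro a ha haa p hp hpa
    apply inj_of_odd π hker hP (P.mul_mem hp hp) P.one_mem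
    rw [map_mul, map_one, hpa, ← E.mul (C_of_TC ha) (C_of_TC ha), haa, hph1]
  -- conjugacy in the quotient gives conjugacy in `M`
  have hlift : ∀ {a b : ℕ}, TC a → TC b → mu a a = e1 → mu b b = e1 →
      (∃ h : N, h * ph a * h⁻¹ = ph b) →
      ∃ m ∈ M, m * lft π P ph a * m⁻¹ = lft π P ph b := by
    intro a b ha hb haa hbb hab
    obtain ⟨h, hh⟩ := hab
    obtain ⟨p, hp, hpa, he⟩ := lft_spec π hPT ha
    obtain ⟨q, hq, hqa, hf⟩ := lft_spec π hPT hb
    obtain ⟨m0, rfl⟩ := hπ h
    have hpp := hsq ha haa p hp hpa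
    obtain ⟨k, -, hk⟩ := conj_involutions π hker (a := m0 * p * m0⁻¹) (b := q) (by
      calc m0 * p * m0⁻¹ * (m0 * p * m0⁻¹) = m0 * (p * p) * m0⁻¹ := by group
        _ = 1 := by rw [hpp]; group) (hsq hb hbb q hq hqa) (by
      rw [map_mul, map_mul, map_inv, hpa, hqa, hh])
    refine ⟨(k * m0 : M), (k * m0).2, ?_⟩
    rw [he, hf, ← hk]
    show ((k * m0 : M) : G) * p * ((k * m0 : M) : G)⁻¹ = _
    push_cast
    group
  have hzc : mu zc zc = e1 := by decide +kernel
  have htt2 : mu tt tt = e1 := by decide +kernel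
  have hzl : lft π P ph zc = z := td.z_eq
  have hyp : Closing.Hyp (z : G) (lft π P ph) S M (msk t1 t2) := by
    refine ⟨td, ?_, ?_, ?_, ?_, ?_⟩
    · intro g hg
      apply hA
      rw [hg]
      have : (z : G) * g * g⁻¹ = z := by group
      rw [this]; exact z.2
    · rintro a ⟨n, hn, rfl⟩ hz
      obtain ⟨h0, h1⟩ := (mask_iff t1 t2 hn).1 hz
      obtain ⟨h, -, hh⟩ := (fus E hH s1 s2 (Subgroup.mem_top _) (Subgroup.mem_top _) hn h0).1 h1
      rw [tc_eq_dec hn] at hh
      have := hlift TC_zc ⟨n, hn, rfl⟩ hzc (hinv n hn h0) ⟨h, by rw [E.z_eq]; exact hh⟩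
      rw [hzl] at this
      exact this
    · rintro a ⟨n, hn, rfl⟩ hz
      obtain ⟨h0, h1⟩ := (mask_iff t1 t2 hn).1 hz
      refine ⟨hinv n hn h0, ?_⟩
      intro h3
      have h4 : n = 0 := dec_inj hn (by norm_num) (h3.trans (by decide +kernel : e1 = dec 0))
      rw [h4] at h0
      exact h0 (by decide +kernel)
    · rintro a ⟨n, hn, rfl⟩ haa ha1 hz
      have h0 : kf n ≠ 0 := by
        apply kf_ne_zero hn
        · rintro rfl
          exact ha1 (by decide +kernel)
        · rw [tc_eq_dec hn]; exact haa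
      have h1 : Fus8.zt t1 t2 (kf n) = false := by
        rcases h2 : Fus8.zt t1 t2 (kf n) with _ | _
        · rfl
        · rw [(mask_iff t1 t2 hn).2 ⟨h0, h2⟩] at hz
          exact absurd hz (by decide)
      obtain ⟨h, -, hh⟩ := (fus E hH s1 s2 (Subgroup.mem_top _) (Subgroup.mem_top _) hn h0).2 h1
      rw [tc_eq_dec hn, tt_eq] at hh
      exact hlift TC_tt ⟨n, hn, rfl⟩ htt2 (hinv n hn h0) ⟨h, hh⟩
    · intro hc
      obtain ⟨g, hg⟩ := isConj_iff.1 hc
      obtain ⟨p, hp, hpa, he⟩ := lft_spec π hPT TC_tt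
      have hgM : g ∈ M := by
        apply hA; rw [hg, he]; exact p.2
      apply hb
      rw [tt_eq, ← hpa]
      refine isConj_iff.2 ⟨π ⟨g, hgM⟩, ?_⟩
      rw [← map_inv, ← map_mul, ← map_mul]
      congr 1
      apply Subtype.ext
      show g * z * g⁻¹ = p
      rw [hg, he]
  have h0 : ¬ TC 0 := by
    rintro ⟨n, hn, h⟩
    rw [dec_eq] at h
    omega
  cases t1 <;> cases t2
  · exact closing hyp main_m00 (by decide +kernel) (fun h => absurd h h0)
  · exact closing hyp main_m10 (by decide +kernel) (fun h => absurd h h0)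
  · exact closing hyp main_m01 (by decide +kernel) (fun h => absurd h h0)
  · refine closing hyp main_m11 (by decide +kernel) (fun _ g hg1 hg2 => hV rfl rfl g ?_)
    rintro b hb (h1 | h1)
    · have := lft_eq π hker hP hPT TC_tt hb h1
      rw [this] at hg1; exact hg1
    · have := lft_eq π hker hP hPT (a := ClosingCheck.vv) ⟨104, by norm_num, by decide +kernel⟩ hb h1
      rw [this] at hg2; exact hg2

end Core

section SylowPart

variable {G : Type*} [Group G] [Finite G] {M : Subgroup G} {N : Type*} [Group N] [Finite N]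
  (π : M →* N)

/-- A Sylow subgroup of `M` over a given Sylow subgroup of `N` containing the involution `z`; it is a
Sylow subgroup of `G`. -/
theorem exists_sylow (hπ : Function.Surjective π) (hker : Odd (Nat.card π.ker))
    (z : M) (hzz : z * z = 1) (hA : ∀ g : G, g * z * g⁻¹ ∈ M → g ∈ M) (T : Sylow 2 N)
    (hzT : π z ∈ (T : Subgroup N)) :
    ∃ P : Subgroup M, IsPGroup 2 P ∧ z ∈ P ∧ P.map π = T ∧
      ∃ S : Sylow 2 G, (S : Subgroup G) = P.map M.subtype := by
  have f2 : Fact (Nat.Prime 2) := ⟨Nat.prime_two⟩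
  have P1 : Sylow 2 M := default
  have hmap : ∀ g : M, ∀ x : N, x ∈ ((g • P1 : Sylow 2 M) : Subgroup M).map π ↔
      ∃ p ∈ (P1 : Subgroup M), π (g * p * g⁻¹) = x := by
    intro g x
    constructor
    · rintro ⟨y, hy, rfl⟩
      have hy' : y ∈ ((g • P1 : Sylow 2 M) : Subgroup M) := hy
      rw [Sylow.coe_subgroup_smul, Subgroup.mem_pointwise_smul_iff_inv_smul_mem] at hy'
      refine ⟨g⁻¹ * y * g, ?_, ?_⟩
      · simpa using hy'
      · congr 1; group
    · rintro ⟨p, hp, rfl⟩
      refine ⟨g * p * g⁻¹, ?_, rfl⟩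
      show g * p * g⁻¹ ∈ ((g • P1 : Sylow 2 M) : Subgroup M)
      rw [Sylow.coe_subgroup_smul]
      have := Subgroup.smul_mem_pointwise_smul p (MulAut.conj g) (P1 : Subgroup M) hp
      simpa using this
  obtain ⟨n, hn⟩ := MulAction.exists_smul_eq N (P1.mapSurjective hπ) T
  obtain ⟨m, rfl⟩ := hπ n
  have hT : ∀ x : N, x ∈ (T : Subgroup N) ↔ ∃ p ∈ (P1 : Subgroup M), π (m * p * m⁻¹) = x := by
    intro x
    rw [← hn, Sylow.coe_subgroup_smul, Subgroup.mem_pointwise_smul_iff_inv_smul_mem]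
    have e1 : (MulAut.conj (π m))⁻¹ • x = (π m)⁻¹ * x * π m := by
      rw [← map_inv, MulAut.smul_def, MulAut.conj_apply, inv_inv]
    rw [e1]
    constructor
    · rintro ⟨p, hp, hpe⟩
      refine ⟨p, hp, ?_⟩
      rw [map_mul, map_mul, map_inv, hpe]; group
    · rintro ⟨p, hp, rfl⟩
      refine ⟨p, hp, ?_⟩
      rw [map_mul, map_mul, map_inv]; group
  obtain ⟨p0, hp0, hp0z⟩ := (hT _).1 hzT
  have hp0' : m * p0 * m⁻¹ ∈ ((m • P1 : Sylow 2 M) : Subgroup M) := by
    rw [Sylow.coe_subgroup_smul]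
    have := Subgroup.smul_mem_pointwise_smul p0 (MulAut.conj m) (P1 : Subgroup M) hp0
    simpa using this
  have h2 : (m * p0 * m⁻¹) * (m * p0 * m⁻¹) = 1 := by
    apply inj_of_odd π hker (m • P1 : Sylow 2 M).2 (Subgroup.mul_mem _ hp0' hp0') (Subgroup.one_mem _)
    rw [map_mul, hp0z, ← map_mul, hzz]
  obtain ⟨k, hk, hkz⟩ := conj_involutions π hker h2 hzz hp0z
  let P : Sylow 2 M := (k * m) • P1
  have hPT : (P : Subgroup M).map π = T := by
    ext x
    rw [hT]
    show x ∈ (((k * m) • P1 : Sylow 2 M) : Subgroup M).map π ↔ _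
    rw [hmap]
    have e : ∀ p : M, π (k * m * p * (k * m)⁻¹) = π (m * p * m⁻¹) := by
      intro p
      rw [show k * m * p * (k * m)⁻¹ = k * (m * p * m⁻¹) * k⁻¹ by group, map_mul, map_mul, map_inv,
        hk, one_mul, inv_one, mul_one]
    constructor
    · rintro ⟨p, hp, hpe⟩
      exact ⟨p, hp, by rw [← e]; exact hpe⟩
    · rintro ⟨p, hp, hpe⟩
      exact ⟨p, hp, by rw [e]; exact hpe⟩
  have hzP : z ∈ (P : Subgroup M) := by
    show z ∈ (((k * m) • P1 : Sylow 2 M) : Subgroup M)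
    rw [Sylow.coe_subgroup_smul]
    have := Subgroup.smul_mem_pointwise_smul p0 (MulAut.conj (k * m)) (P1 : Subgroup M) hp0
    have e : (MulAut.conj (k * m)) • p0 = z := by
      rw [MulAut.smul_def, MulAut.conj_apply, ← hkz]; group
    rwa [e] at this
  refine ⟨P, P.2, hzP, hPT, ?_⟩
  have hPG : IsPGroup 2 ((P : Subgroup M).map M.subtype) := P.2.map _
  refine ⟨⟨(P : Subgroup M).map M.subtype, hPG, ?_⟩, rfl⟩
  intro Q hQ hPQ
  apply le_antisymm _ hPQ
  -- inside `M` nothing new
  have hin : ∀ x ∈ Q, x ∈ M → x ∈ (P : Subgroup M).map M.subtype := by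
    intro x hx hxM
    have h1 : Q.subgroupOf M = P := by
      apply P.3
      · exact hQ.comap_of_injective M.subtype M.subtype_injective
      · intro p hp
        exact hPQ ⟨p, hp, rfl⟩
    have h2 : (⟨x, hxM⟩ : M) ∈ Q.subgroupOf M := hx
    rw [h1] at h2
    exact ⟨_, h2, rfl⟩
  have hnil : Group.IsNilpotent Q := hQ.isNilpotent
  have hnc : NormalizerCondition Q := Group.normalizerCondition_of_isNilpotent
  by_contra hne
  have hlt : ((P : Subgroup M).map M.subtype).subgroupOf Q < ⊤ := by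
    rw [lt_top_iff_ne_top]
    intro h
    apply hne
    intro x hx
    have : (⟨x, hx⟩ : Q) ∈ ((P : Subgroup M).map M.subtype).subgroupOf Q := by rw [h]; trivial
    exact this
  obtain ⟨x, hx, hxn⟩ := SetLike.exists_of_lt (hnc _ hlt)
  apply hxn
  have hzPG : (z : G) ∈ (P : Subgroup M).map M.subtype := ⟨z, hzP, rfl⟩
  have h3 := (Subgroup.mem_normalizer_iff.1 hx ⟨z, hPQ hzPG⟩).1 hzPG
  have h4 : (x : G) * z * (x : G)⁻¹ ∈ (P : Subgroup M).map M.subtype := h3
  have h5 : (x : G) ∈ M := by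
    apply hA
    obtain ⟨p, -, hp⟩ := h4
    rw [← hp]; exact p.2
  exact hin x x.2 h5

end SylowPart

section Main

open Cfsg.Agent.SporadicRecognition.HeldModel Cfsg.Agent.Lib.F2Mat
  Cfsg.Agent.Held.NoBModel Cfsg.Agent.Held.Pattern Cfsg.Agent.Held.Code Cfsg.Agent.Held.PFus
  Cfsg.Agent.Held.Assembly

variable {G : Type*} [Group G] [Finite G] {M : Subgroup G} {N : Type*} [Group N] [Finite N]
  (π : M →* N)

/-- **Closing theorem modulo a normal subgroup of odd order.** `M` controls the fusion of `z`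
(`hA`), `N` is the quotient of `M` by a normal subgroup of odd order, the centraliser of the image
of `z` in `N` is the one of a transvection of `SL(5, 2)`, and both `x03`, `x14` are fused to it
in `N` (so `N` is `L5(2)`, `M24` or `He`). Then `M = G`. -/
theorem eq_top (hπ : Function.Surjective π) (hker : Odd (Nat.card π.ker))
    (z : M) (hzz : z * z = 1) (hA : ∀ g : G, g * z * g⁻¹ ∈ M → g ∈ M) {ι : CC →* N}
    (h : Hyp (π z) ι) (h1 : IsConj (π z) (ι x03C)) (h2 : IsConj (π z) (ι x14C)) : M = ⊤ := by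
  have Fu := fusion h
  obtain ⟨T, hT⟩ := Fu.sylow
  have hb := NoBFin.not_isConj_bC h
  obtain ⟨ph, E, hl⟩ := SideHyp.exists_ph h
  obtain ⟨t1, t2, y1, y2, c⟩ := SideHyp.config h E hl Fu.ctl1 Fu.ctl2 h1 h2
  have hbt : ∀ t : Bool, t.toNat = 0 ∨ t.toNat = 1 := by decide
  have hbt' : ∀ t : Bool, Nat.beq t.toNat 1 = t := by decide
  have s1 := ConfigThm.toSide E (hbt t1) c.side1
  have s2 := ConfigThm.toSide2 E (hbt t2) c.side2
  rw [hbt'] at s1 s2
  have hb' : ¬ IsConj (π z) (ph (mu (X 0 3) (X 1 4))) := by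
    have e : ι bC = ph (mu (X 0 3) (X 1 4)) := by
      rw [← hl bC]
      show ph (cd (x 0 3 * x 1 4)) = _
      rw [cd_mul, cd_x, cd_x]
      rfl
    rw [← e]; exact hb
  have hzT : π z ∈ (T : Subgroup N) := by
    rw [hT, ← h.map_zz]
    exact mem_im.2 ⟨zC, PCase.R1_le_T0 PCase.zC_mem_R1, rfl⟩
  obtain ⟨P, hP, hzP, hPT, S, hS⟩ := exists_sylow π hπ hker z hzz hA T hzT
  have hPT' : ∀ g : N, g ∈ P.map π ↔ ∃ n < 1024, ph (Fus8.tc n) = g := fun g => by
    rw [hPT, hT]; exact mem_T0_codes hl g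
  have hH : ∀ c, C c → ph c ∈ (⊤ : Subgroup N) := fun _ _ => Subgroup.mem_top _
  refine closing_core π hπ hker z hA E P hP hzP S hS hPT' s1 s2 hb' ?_
  rintro rfl rfl g hg
  have hi := iota_eq E hl
  obtain ⟨y0, cfg⟩ := CentBCfg.cfg_BB E T (by rw [hT, hi])
    (fun n hn h0 ht => ((Fus8.fus E hH s1 s2 (Subgroup.mem_top _) (Subgroup.mem_top _) hn h0).1
      ht).isConj)
    (fun n hn h0 ht => Fus8.fus_not E hH s1 s2 (Subgroup.mem_top _) (Subgroup.mem_top _) hb' hn h0
      ht)
    (by rw [hi]; exact Fu.weak) c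
  -- the part of `P` over `J`
  set J : Subgroup N := im (CentB.iota E) JJ with hJ
  have hJT : J ≤ P.map π := by
    rw [hPT, hT, ← hi]
    exact im_le JJ_le_T0
  set P0 : Subgroup M := P ⊓ J.comap π with hP0
  have hP0J : P0.map π = J := by
    apply le_antisymm
    · rintro _ ⟨p, hp, rfl⟩
      exact hp.2
    · intro j hj
      obtain ⟨p, hp, rfl⟩ := hJT hj
      exact ⟨p, ⟨hp, hj⟩, rfl⟩
  have hzJ : π z ∈ J := cfg.hVJ (cfg.hXV cfg.hzX)
  refine centralizer_le_odd π hπ hker z hA cfg P0 (hP.to_le inf_le_left) hP0J ⟨hzP, hzJ⟩ g ?_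
  intro b hb0 hbB
  have hbP : b ∈ P := hb0.1
  obtain ⟨⟨w, hw'⟩, ⟨a, ha, hae⟩, hab⟩ := mem_im.1 hbB
  have hae' : ve a = w := hae
  subst hae'
  rw [CentB.iota_ve E a hw'] at hab
  have e34 : Acts.P1 ph 34 = ph ClosingCode.tt := congrArg ph (by decide +kernel)
  have e52 : Acts.P1 ph 52 = ph ClosingCheck.vv := congrArg ph (by decide +kernel)
  have key : ∀ a : Fin 64, CentB.bi a = true → (a : ℕ) = 0 ∨ (a : ℕ) = 34 ∨ (a : ℕ) = 52 ∨
      (a : ℕ) = 22 := by decide +kernel
  have hex : ∀ k : Fin 64, CentB.bi k = true → ∃ p : M, p ∈ P ∧ π p = Acts.P1 ph k := by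
    intro k hk
    have h3 : Acts.P1 ph k ∈ P.map π := by
      apply hJT
      rw [← CentB.iota_ve E k (V1_le_CC (ve_mem k))]
      exact mem_im.2 ⟨_, CentB.BB_le_FF.trans (FF_le_V1.trans V1_le_JJ)
        (CentB.ve_mem_BB.2 hk), rfl⟩
    obtain ⟨p, hp, hpe⟩ := h3
    exact ⟨p, hp, hpe⟩
  rcases key a ha with e | e | e | e
  · have h3 : π b = 1 := by rw [← hab, e, (Acts.hom1 E).zero]
    have h4 : b = 1 := inj_of_odd π hker hP hbP P.one_mem (by rw [h3, map_one])
    rw [h4]; simp
  · apply hg b hbP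
    left; rw [← hab, e]; exact e34
  · apply hg b hbP
    right; rw [← hab, e]; exact e52
  · obtain ⟨p, hp, hpe⟩ := hex 34 (by decide +kernel)
    obtain ⟨p', hp', hpe'⟩ := hex 52 (by decide +kernel)
    have e2 : Acts.P1 ph 22 = Acts.P1 ph 34 * Acts.P1 ph 52 := by
      rw [← (Acts.hom1 E) 34 52 (by norm_num) (by norm_num)]
      rfl
    have h4 : b = p * p' := by
      apply inj_of_odd π hker hP hbP (P.mul_mem hp hp')
      rw [← hab, e, e2, map_mul, hpe, hpe']
      rfl
    have k1 := hg p hp (Or.inl (by rw [hpe]; exact e34))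
    have k2 := hg p' hp' (Or.inr (by rw [hpe']; exact e52))
    rw [h4]
    show g * ((p : G) * p') = (p : G) * p' * g
    rw [← mul_assoc, k1, mul_assoc, k2, ← mul_assoc]

end Main

end Cfsg.Agent.Held.ClosingOdd
end

-- part: SylowL5/OddFinal
section
set_option linter.all false
open scoped Cfsg.Agent.FastGrp

/-!
# Piece [E] of S0512: closing modulo a normal subgroup of odd order

`G` simple, `M ≤ G`, `q : M → X` surjective with odd kernel, `z ∈ M` an involution with `g z g⁻¹ ∈ M → g ∈ M`,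
`C_X(q z)` the centralizer of a transvection of `SL(5,2)`, and `q z` is conjugate in `X` to `x03` or to `x14`.
Then `M = G`.
-/

set_option autoImplicit false

universe u

namespace Cfsg.Agent.SylowL5.OddFinal

open Cfsg Subgroup Cfsg.Agent.SylowL5.OddLift Cfsg.Agent.Held
open Cfsg.Agent.SporadicRecognition.HeldModel Cfsg.Agent.Lib.F2Mat
  Cfsg.Agent.Held.NoBModel Cfsg.Agent.Held.Pattern Cfsg.Agent.Held.PFus Cfsg.Agent.Held.PCase

theorem cd_x14 : cd (x 1 4) = 17044033 := by rw [cd_x]; decide +kernel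

theorem conj_x14 : ∀ a : Fin 16,
    (Nat.beq (mul 5 (mul 5 17044033 (rc a)) 17044033) (rc a) ||
      Nat.beq (mul 5 (mul 5 17044033 (rc a)) 17044033) (mul 5 (rc a) zc)) = true := by
  decide +kernel

theorem x14_sq : x14C * x14C = 1 := by
  apply Subtype.ext
  apply cd_inj
  show cd (x 1 4 * x 1 4) = cd 1
  rw [cd_mul, cd_x14, cd_one]
  decide +kernel

theorem x14_mem_T0 : (x14C : L5) ∈ T0 := by
  show x 1 4 ∈ T0
  rw [T0, mem_pat, Pat_iff_inP, cd_x14]
  decide +kernel

theorem x14_not_mem_R1 : (x14C : L5) ∉ R1 := by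
  show x 1 4 ∉ R1
  rw [R1, mem_pat, Pat_iff_inP, cd_x14]
  decide +kernel

theorem act_x14 {a : L5} (ha : a ∈ R1) : x 1 4 * a * x 1 4 = a ∨ x 1 4 * a * x 1 4 = a * zz := by
  obtain ⟨i, rfl⟩ := re_surj ha
  have h := conj_x14 i
  rw [Bool.or_eq_true] at h
  rcases h with h | h
  · left
    apply cd_inj
    rw [cd_mul, cd_mul, cd_x14, cd_re]
    exact Nat.eq_of_beq_eq_true h
  · right
    apply cd_inj
    rw [cd_mul, cd_mul, cd_mul, cd_x14, cd_re, cd_zz]
    exact Nat.eq_of_beq_eq_true h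

variable {G : Type u} [Group G] [Finite G] [IsSimpleGroup G] {M : Subgroup G} {X : Type u}
  [Group X] [Finite X] {q : M →* X} {z : M}

/-- **Affine case**, with the fusion facts as hypotheses -/
theorem eq_top_affine (h : OddHyp M q z) {ι : CC →* X} (hyp : Hyp (q z) ι)
    (S : Sylow 2 X) (hS : (S : Subgroup X) = im ι T0)
    (hctl1 : ∀ b : Fin 64, F (q z) ι b → ∃ n : X, n * q z * n⁻¹ = ι (vC b) ∧
      ∀ w ∈ im ι V1, n * w * n⁻¹ ∈ im ι V1)
    (hctl2 : ∀ b : Fin 64, F (q z) (ι.comp tauC) b → ∃ n : X, n * q z * n⁻¹ = (ι.comp tauC) (vC b) ∧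
      ∀ w ∈ im (ι.comp tauC) V1, n * w * n⁻¹ ∈ im (ι.comp tauC) V1)
    (hb : ¬ IsConj (q z) (ι bC))
    (hrep : ∀ u : CC, u * u = 1 → ∃ g : CC, ((g * u * g⁻¹ : CC) : L5) ∈ V1 ∨
      ((g * u * g⁻¹ : CC) : L5) ∈ V2)
    (h1 : IsConj (q z) (ι x03C)) (h2 : ¬ IsConj (q z) (ι x14C)) : M = ⊤ := by
  have H := hypAffine hyp S hS HeldCardEq.card_CC h1
    (PFus.pcase' hyp hctl1 hctl2 hb hrep h1 h2)
  refine OddAffine.eq_top h H (r := ι x14C) ?_ ?_ ?_ ?_
  · rw [hS]
    exact mem_im.2 ⟨x14C, x14_mem_T0, rfl⟩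
  · intro hr
    obtain ⟨u, hu, hux⟩ := mem_im.1 hr
    have : u = x14C := hyp.inj hux
    rw [this] at hu
    exact x14_not_mem_R1 hu
  · rw [← map_mul, x14_sq, map_one]
  · intro a ha
    obtain ⟨u, hu, rfl⟩ := mem_im.1 ha
    have hinv : x14C⁻¹ = x14C := inv_eq_of_mul_eq_one_right x14_sq
    rw [← map_inv, ← map_mul, ← map_mul, hinv, ← hyp.map_zz, ← map_mul]
    rcases act_x14 hu with h3 | h3
    · left
      have h4 : x14C * u * x14C = u := Subtype.ext h3
      rw [h4]
    · right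
      have h4 : x14C * u * x14C = u * zC := Subtype.ext h3
      rw [h4]

/-- **Piece [E].** -/
theorem eq_top (h : OddHyp M q z) {ι : CC →* X} (hyp : Hyp (q z) ι)
    (hz : IsConj (q z) (ι x03C) ∨ IsConj (q z) (ι x14C)) : M = ⊤ := by
  have Fu := Assembly.fusion hyp
  obtain ⟨S, hS⟩ := Fu.sylow
  have hb := NoBFin.not_isConj_bC hyp
  by_cases h1 : IsConj (q z) (ι x03C)
  swap
  · have h2 : IsConj (q z) (ι x14C) := hz.resolve_left h1
    refine eq_top_affine h hyp.tau S (by rw [hS, Assembly.im_tau_T0]) Fu.ctl2 ?_ ?_ Fu.rep ?_ ?_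
    · rw [Assembly.comp_tau_tau]; exact Fu.ctl1
    · show ¬ IsConj (q z) (ι (tauC bC))
      rw [tauC_bC]; exact hb
    · show IsConj (q z) (ι (tauC x03C))
      rw [tau_x03]; exact h2
    · show ¬ IsConj (q z) (ι (tauC x14C))
      rw [tau_x14]; exact h1
  by_cases h2 : IsConj (q z) (ι x14C)
  swap
  · exact eq_top_affine h hyp S hS Fu.ctl1 Fu.ctl2 hb Fu.rep h1 h2
  exact ClosingOdd.eq_top q h.surj h.odd z h.zz h.fix hyp h1 h2

end Cfsg.Agent.SylowL5.OddFinal
end

-- part: SylowL5/CentIso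
section
set_option linter.all false
open scoped Cfsg.Agent.FastGrp

/-!
# The centralizer of `z` in a simple group with Sylow 2-subgroups of type `L_5(2)`

From `FusData.Final` we deduce that `C_G(z)` is isomorphic to the centralizer of a transvection of
`SL(5, 2)`.
-/

set_option autoImplicit false

universe u

namespace Cfsg.Agent.SylowL5.CentIso

open Cfsg Subgroup Cfsg.Agent.SylowL5.Setup Cfsg.Agent.SylowL5.Data Cfsg.Agent.SylowL5.FusData
open Cfsg.Agent.SylowL5.MSub Cfsg.Agent.SylowL5.OddLift Cfsg.Agent.SylowL5.MQuot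
open Cfsg.Agent.SporadicRecognition

variable {G : Type u} [Group G] [Finite G] {S : Subgroup G} {u : ℕ → G} {W : Subgroup G}

/-- the map `C_G(z) → C_{M/W}(z W)` -/
def fr (hE : Emb S u) (h : MData S u W) : centralizer ({u x15} : Set G) →*
    centralizer ({qW W (zM h)} : Set ((normalizer (W : Set G)) ⧸ WM W)) :=
  (fC h).codRestrict _ fun y => by
    rw [← range_fC hE h]; exact ⟨y, rfl⟩

theorem fr_apply (hE : Emb S u) (h : MData S u W) (y : centralizer ({u x15} : Set G)) :
    ((fr hE h y : centralizer ({qW W (zM h)} : Set ((normalizer (W : Set G)) ⧸ WM W))) :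
      (normalizer (W : Set G)) ⧸ WM W) = fC h y := rfl

theorem fr_surj (hE : Emb S u) (h : MData S u W) : Function.Surjective (fr hE h) := by
  rintro ⟨x, hx⟩
  have hx' := hx
  rw [← range_fC hE h] at hx'
  obtain ⟨y, hy⟩ := hx'
  exact ⟨y, Subtype.ext hy⟩

/-- the image of `Q` lies in `O_2(C_{M/W}(z W))` -/
theorem fr_mem_pCore (hE : Emb S u) (h : MData S u W)
    {T : Sylow 2 (centralizer ({u x15} : Set G))} {v : ℕ → (centralizer ({u x15} : Set G))}
    (hV : VData T v) {y : centralizer ({u x15} : Set G)} (hy : y ∈ CS v kQ) :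
    fr hE h y ∈ Cfsg.pCore 2
      (centralizer ({qW W (zM h)} : Set ((normalizer (W : Set G)) ⧸ WM W))) := by
  have hB := SolvedFinal.solved hV
  have hN : ((CS v kQ).map (fr hE h)).Normal := by
    constructor
    rintro _ ⟨x, hx, rfl⟩ g
    obtain ⟨k, rfl⟩ := fr_surj hE h g
    obtain ⟨a, ha, n, hn, rfl⟩ := hB k
    have h1 : fr hE h a = 1 := by
      apply Subtype.ext
      rw [fr_apply]
      have : a ∈ (fC h).ker := by rw [ker_fC]; exact ha
      exact this
    rw [map_mul, h1, one_mul]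
    refine ⟨n * x * n⁻¹, (mem_normalizer_iff.1 hn x).1 hx, ?_⟩
    rw [map_mul, map_mul, map_inv]
  have hle : CS v kQ ≤ (T : Subgroup (centralizer ({u x15} : Set G))) := by
    intro x hx
    obtain ⟨a, ha, -, rfl⟩ := (hV.emb.mem_CS Quot.closed_Q).1 hx
    exact hV.emb.mem ha
  have hp : IsPGroup 2 ((CS v kQ).map (fr hE h)) := (T.isPGroup'.to_le hle).map _
  exact Lib.Cores.le_pCore hN hp ⟨y, hy, rfl⟩

/-- one direction of the fusion, for a code `c` of an element of `Q` -/
theorem fused (hE : Emb S u) (h : MData S u W)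
    {T : Sylow 2 (centralizer ({u x15} : Set G))} {v : ℕ → (centralizer ({u x15} : Set G))}
    (hv : ∀ a, a < 1024 → (v a : G) = u a)
    (hV : VData T v) {c : ℕ} (hc : c < 1024) (hcQ : Nat.land c kQ = c) (hcz : c ≠ x15)
    (hcc : mu c c = 0) (hcj : IsConj (u x15) (u c)) :
    ∃ g : (normalizer (W : Set G)) ⧸ WM W,
      (∃ hq : g * qW W (zM h) * g⁻¹ ∈
        centralizer ({qW W (zM h)} : Set ((normalizer (W : Set G)) ⧸ WM W)),
        (⟨g * qW W (zM h) * g⁻¹, hq⟩ :
          centralizer ({qW W (zM h)} : Set ((normalizer (W : Set G)) ⧸ WM W))) ∈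
          Cfsg.pCore 2 (centralizer ({qW W (zM h)} : Set ((normalizer (W : Set G)) ⧸ WM W)))) ∧
      g * qW W (zM h) * g⁻¹ ≠ qW W (zM h) := by
  have hO := oddHyp hE h
  obtain ⟨g, hg⟩ := isConj_iff.1 hcj
  have hcC : u c ∈ centralizer ({u x15} : Set G) := by rw [← hv c hc]; exact (v c).2
  have hcM : u c ∈ normalizer (W : Set G) := h.cent hcC
  have hgM : g ∈ normalizer (W : Set G) := by
    apply h.fix
    rw [hg]; exact hcM
  have e1 : qW W ⟨g, hgM⟩ * qW W (zM h) * (qW W ⟨g, hgM⟩)⁻¹ =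
      ((fr hE h (v c) : centralizer ({qW W (zM h)} : Set ((normalizer (W : Set G)) ⧸ WM W))) :
      (normalizer (W : Set G)) ⧸ WM W) := by
    rw [fr_apply, fC_apply, ← map_inv, ← map_mul, ← map_mul]
    congr 1
    apply Subtype.ext
    show g * u x15 * g⁻¹ = (v c : G)
    rw [hg, hv c hc]
  refine ⟨qW W ⟨g, hgM⟩, ⟨?_, ?_⟩, ?_⟩
  · rw [e1]; exact (fr hE h (v c)).2
  · have h2 := fr_mem_pCore hE h hV (y := v c) (Quot.mem_Q kQ c hc hcQ)
    have e2 : (⟨qW W ⟨g, hgM⟩ * qW W (zM h) * (qW W ⟨g, hgM⟩)⁻¹, by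
        rw [e1]; exact (fr hE h (v c)).2⟩ :
        centralizer ({qW W (zM h)} : Set ((normalizer (W : Set G)) ⧸ WM W))) =
        fr hE h (v c) := Subtype.ext e1
    rw [e2]; exact h2
  · rw [e1, fr_apply, fC_apply]
    intro h3
    -- conjugate under the odd kernel; both lie in the 2-group `S`
    have h4 : (⟨(v c : G), h.cent (v c).2⟩ : normalizer (W : Set G))⁻¹ * zM h ∈ WM W := by
      rw [← QuotientGroup.eq]; exact h3
    have h5 : (v c : G)⁻¹ * u x15 ∈ W := h4
    have hcz' : u c * u x15 = u x15 * u c := mem_centralizer_singleton_iff.1 hcC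
    have hzz : u x15 * u x15 = 1 := congrArg Subtype.val hO.zz
    have hcc' : u c * u c = 1 := by rw [← hE.mul hc hc, hcc, hE.zero]
    have hci : (u c)⁻¹ = u c := inv_eq_of_mul_eq_one_left hcc'
    rw [hv c hc, hci] at h5
    have h6 : (u c * u x15) * (u c * u x15) = 1 := by
      calc (u c * u x15) * (u c * u x15) = u c * (u x15 * u c) * u x15 := by group
        _ = u c * (u c * u x15) * u x15 := by rw [hcz']
        _ = (u c * u c) * (u x15 * u x15) := by group
        _ = 1 := by rw [hcc', hzz, one_mul]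
    have h7 : orderOf (u c * u x15) ∣ 2 := orderOf_dvd_of_pow_eq_one (by rw [pow_two]; exact h6)
    have h8 : orderOf (⟨u c * u x15, h5⟩ : W) ∣ Nat.card W := orderOf_dvd_natCard _
    rw [Subgroup.orderOf_mk] at h8
    have h9 : orderOf (u c * u x15) = 1 := by
      rcases (Nat.dvd_prime Nat.prime_two).1 h7 with h9 | h9
      · exact h9
      · rw [h9] at h8
        exact absurd (even_iff_two_dvd.2 h8) (Nat.not_even_iff_odd.2 h.odd)
    have h10 : u c * u x15 = 1 := orderOf_eq_one_iff.1 h9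
    have h11 : u c = u x15 := by
      calc u c = u c * (u x15 * u x15) := by rw [hzz, mul_one]
        _ = (u c * u x15) * u x15 := by group
        _ = u x15 := by rw [h10, one_mul]
    exact hcz (hE.inj hc (by decide) h11)

/-- **The centralizer of `z`.** -/
theorem centralizer_equiv [IsSimpleGroup G] (S : Sylow 2 G) (h : Final (S : Subgroup G) u)
    (s : Matrix.SpecialLinearGroup (Fin 5) (ZMod 2))
    (hs : (s : Matrix (Fin 5) (Fin 5) (ZMod 2)) = Matrix.transvection 0 1 1) :
    Nonempty (centralizer ({u x15} : Set G) ≃*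
      Subgroup.centralizer ({s} : Set (Matrix.SpecialLinearGroup (Fin 5) (ZMod 2)))) := by
  have hE := h.fus.emb
  have hC := PurityFinal.purity S h
  obtain ⟨W, hM⟩ := exists_W S h (fun T v hV => SolvedFinal.solved hV) hC
  obtain ⟨T, v, hv, hT, hV⟩ := h.vdata
  have hB := SolvedFinal.solved hV
  have hO := oddHyp hE hM
  -- `M = G`
  have htop : normalizer (W : Set G) = ⊤ := by
    obtain ⟨e⟩ := MQuot.nonempty_equiv hE hM hV hB s hs
    have hord : orderOf (qW W (zM hM)) = 2 := by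
      apply orderOf_eq_prime
      · rw [pow_two, ← map_mul, hO.zz, map_one]
      · intro h1
        exact hO.z1 (OddAffine.eq_one_of_map hO hO.zz h1)
    obtain ⟨ι, H, -⟩ := HeldModel.exists_hyp s hs (qW W (zM hM)) hord e
    have hf : ∃ g : (normalizer (W : Set G)) ⧸ WM W,
      (∃ hq : g * qW W (zM hM) * g⁻¹ ∈
        centralizer ({qW W (zM hM)} : Set ((normalizer (W : Set G)) ⧸ WM W)),
        (⟨g * qW W (zM hM) * g⁻¹, hq⟩ :
          centralizer ({qW W (zM hM)} : Set ((normalizer (W : Set G)) ⧸ WM W))) ∈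
          Cfsg.pCore 2 (centralizer ({qW W (zM hM)} : Set ((normalizer (W : Set G)) ⧸ WM W)))) ∧
      g * qW W (zM hM) * g⁻¹ ≠ qW W (zM hM) := by
      rcases hC with hC | hC
      · exact fused hE hM hv hV (by decide) (by decide) (by decide) (by decide) hC
      · exact fused hE hM hv hV (by decide) (by decide) (by decide) (by decide) hC
    obtain ⟨g, ⟨hq, hq2⟩, hne⟩ := hf
    exact OddFinal.eq_top hO H (Held.Assembly.exists_fusion H g hq hq2 hne)
  -- `W = 1`
  have hWn : W.Normal := normalizer_eq_top_iff.1 htop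
  have hW : W = ⊥ := by
    rcases hWn.eq_bot_or_eq_top with h1 | h1
    · exact h1
    · exfalso
      have h2 := hM.odd
      rw [h1, Subgroup.card_top] at h2
      have h3 : orderOf (u x15) = 2 := by
        apply orderOf_eq_prime
        · rw [pow_two]; exact congrArg Subtype.val hO.zz
        · intro h4
          exact hO.z1 (Subtype.ext h4)
      have h4 : 2 ∣ Nat.card G := by rw [← h3]; exact orderOf_dvd_natCard _
      exact (Nat.not_even_iff_odd.2 h2) (even_iff_two_dvd.2 h4)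
  have hcore : pPrimeCore 2 (centralizer ({u x15} : Set G)) = ⊥ := by
    have h1 := hM.inf
    rw [hW, bot_inf_eq] at h1
    have h2 : (pPrimeCore 2 (centralizer ({u x15} : Set G))).map
      (centralizer ({u x15} : Set G)).subtype = ⊥ := h1.symm
    rwa [Subgroup.map_eq_bot_iff_of_injective _ (Subgroup.subtype_injective _)] at h2
  obtain ⟨e⟩ := Quot.nonempty_equiv hV hB s hs
  exact ⟨((QuotientGroup.quotientMulEquivOfEq hcore).trans QuotientGroup.quotientBot).symm.trans e⟩

end Cfsg.Agent.SylowL5.CentIso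
end

-- part: SylowL5/Strong
section
set_option linter.all false
open scoped Cfsg.Agent.FastGrp

/-!
# Simple groups with Sylow 2-subgroups of type `L_5(2)`

The strong form of S0512.
-/

set_option autoImplicit false

universe u

namespace Cfsg.Agent.SylowL5.Strong

open Cfsg Subgroup Cfsg.Agent.SylowL5.Setup Cfsg.Agent.SylowL5.FusData

variable {G : Type u} [Group G] [Finite G] {u : ℕ → G}

/-- The tetrachotomy from the fusion data. -/
theorem tetra_of_final [IsSimpleGroup G] (S : Sylow 2 G) (h : Final (S : Subgroup G) u) :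
    Held.HeldTri.Tetra G := by
  have hE := h.fus.emb
  let s : Matrix.SpecialLinearGroup (Fin 5) (ZMod 2) :=
    ⟨Matrix.transvection 0 1 1, Matrix.det_transvection_of_ne 0 1 (by decide) 1⟩
  have hs : (s : Matrix (Fin 5) (Fin 5) (ZMod 2)) = Matrix.transvection 0 1 1 := rfl
  obtain ⟨e⟩ := CentIso.centralizer_equiv S h s hs
  have hz : orderOf (u x15) = 2 := by
    apply orderOf_eq_prime
    · rw [pow_two, ← hE.mul (by decide) (by decide), show mu x15 x15 = 0 by decide, hE.zero]
    · rw [← hE.zero]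
      intro h4
      exact absurd (hE.inj (by decide) (by decide) h4) (by decide)
  exact S1716.result s hs (u x15) hz e (Held.HeldCtl.hnwc_of_simple s hs (u x15) hz e)

/-- A simple group with coordinates on a Sylow 2-subgroup has no subgroup of index 2. -/
theorem index_ne_two [IsSimpleGroup G] {S : Subgroup G} (hE : Emb S u) (H : Subgroup G) :
    H.index ≠ 2 := by
  intro h
  have hn : H.Normal := Subgroup.normal_of_index_eq_two h
  rcases hn.eq_bot_or_eq_top with h1 | h1
  · rw [h1, Subgroup.index_bot] at h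
    have h2 : Function.Injective (fun a : Fin 3 => u a) := by
      intro a b hab
      exact Fin.ext (hE.inj (by omega) (by omega) hab)
    have h3 := Nat.card_le_card_of_injective _ h2
    rw [h, Nat.card_eq_fintype_card, Fintype.card_fin] at h3
    omega
  · rw [h1, Subgroup.index_top] at h
    omega

/-- The tetrachotomy from coordinates on a Sylow 2-subgroup. -/
theorem tetra [IsSimpleGroup G] (S : Sylow 2 G) (E : Emb (S : Subgroup G) u) :
    Held.HeldTri.Tetra G := by
  obtain ⟨v, hv⟩ := FusMain.exists_final (index_ne_two E) S E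
  exact tetra_of_final S hv

/-- **Simple groups with Sylow 2-subgroups of type `L_5(2)`, strong form.** -/
theorem strong [IsSimpleGroup G] (S : Sylow 2 G) (E : Emb (S : Subgroup G) u) :
    Nonempty (G ≃* Matrix.SpecialLinearGroup (Fin 5) (ZMod 2)) ∨ Nonempty (G ≃* Cfsg.M24) ∨
      Cfsg.Spor.IsoHe G :=
  Held.HeldTri.tetra_simple (tetra S E)

end Cfsg.Agent.SylowL5.Strong
end
end
end
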